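import Cfsg.Agent.H351.OE.Cross
import Cfsg.Agent.StandardComponent.AltAut

/-!
# S3372: alternating groups and `PSL_2`
-/

set_option autoImplicit false
set_option linter.unusedSectionVars false
set_option linter.unusedVariables false

namespace Cfsg.Agent.H351.OE

open Subgroup Cfsg H343 H128.Val3 H341.ThreeList H128.Cross3 H128.ClassicalAb Equiv

theorem psl_two_cross {F : Type} [Field F] [Fintype F] (hF : ¬ 3 ∣ Fintype.card F)
    (h : E3 (Matrix.ProjectiveSpecialLinearGroup (Fin 2) F)) : False := by
  have h3 : ((3 : ℕ) : F) ≠ 0 := three_ne_zero' hF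
  have : Fact (Nat.Prime 3) := ⟨Nat.prime_three⟩
  have := h.three_le (hasAb_psl h3 2)
  omega

section Alt

/-- the first nine points -/
def blk (n : ℕ) (h : 14 ≤ n) : Fin 9 ≃ {x : Fin n // x.val < 9} where
  toFun i := ⟨⟨i, by omega⟩, by simp⟩
  invFun x := ⟨x.1.1, x.2⟩
  left_inv i := rfl
  right_inv x := rfl

/-- five other points -/
def blk' (n : ℕ) (h : 14 ≤ n) : Fin 5 ≃ {x : Fin n // 9 ≤ x.val ∧ x.val < 14} where
  toFun i := ⟨⟨9 + i, by omega⟩, by simp; omega⟩
  invFun x := ⟨x.1.1 - 9, by omega⟩
  left_inv i := by ext; simp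
  right_inv x := by
    obtain ⟨⟨x, hx⟩, h1, h2⟩ := x
    simp only at h1 h2
    apply Subtype.ext
    apply Fin.ext
    change 9 + (x - 9) = x
    omega

theorem disj (n : ℕ) (h : 14 ≤ n) (a : Perm (Fin 9)) (b : Perm (Fin 5)) :
    Commute (a.extendDomain (blk n h)) (b.extendDomain (blk' n h)) := by
  apply Perm.Disjoint.commute
  intro x
  by_cases hx : x.val < 9
  · right
    exact Perm.extendDomain_apply_not_subtype _ _ (by omega)
  · left
    exact Perm.extendDomain_apply_not_subtype _ _ hx

theorem alt_big {n : ℕ} (hn : 14 ≤ n) (h : E3 (alternatingGroup (Fin n))) : False := by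
  let f : alternatingGroup (Fin 9) →* alternatingGroup (Fin n) :=
    ((Perm.extendDomainHom (blk n hn)).comp (alternatingGroup (Fin 9)).subtype).codRestrict _ (fun x => by
      rw [Perm.mem_alternatingGroup]
      change Perm.sign ((x : Perm (Fin 9)).extendDomain (blk n hn)) = 1
      rw [Perm.sign_extendDomain]
      exact Perm.mem_alternatingGroup.1 x.2)
  have hf : Function.Injective f := by
    intro x y hxy
    apply Subtype.ext
    apply Perm.extendDomainHom_injective (blk n hn)
    exact congrArg Subtype.val hxy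
  obtain ⟨c, hc⟩ : ∃ c : Perm (Fin n), c = (finRotate 5).extendDomain (blk' n hn) := ⟨_, rfl⟩
  have hcA : c ∈ alternatingGroup (Fin n) := by
    rw [Perm.mem_alternatingGroup, hc, Perm.sign_extendDomain, sign_finRotate]
    rfl
  have hco : orderOf c = 5 := by
    have h1 : orderOf (Perm.extendDomainHom (blk' n hn) (finRotate 5)) = orderOf (finRotate 5) :=
      orderOf_injective _ (Perm.extendDomainHom_injective (blk' n hn)) _
    rw [hc]
    refine h1.trans ?_
    rw [isCycle_finRotate.orderOf, support_finRotate]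
    simp
  obtain ⟨d, ⟨a, rfl⟩, -, hd⟩ := h.c27 f.range (by
    rw [← Nat.card_congr (MonoidHom.ofInjective hf).toEquiv]
    have h1 := Cfsg.Agent.OrdDiv.alt_card (n := 9) (by norm_num) (MulEquiv.refl (alternatingGroup (Fin 9)))
    have h2 : 27 ∣ 2 * Nat.card (alternatingGroup (Fin 9)) := by
      rw [← h1]; decide
    exact Nat.Coprime.dvd_of_dvd_mul_left (by norm_num) h2)
  have h5 : (⟨c, hcA⟩ : alternatingGroup (Fin n)) ∈ centralizer ({f a} : Set (alternatingGroup (Fin n))) := by
    rw [mem_centralizer_singleton_iff]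
    apply Subtype.ext
    change c * (a : Perm (Fin 9)).extendDomain (blk n hn) = (a : Perm (Fin 9)).extendDomain (blk n hn) * c
    rw [hc]
    exact (disj n hn a (finRotate 5)).eq.symm
  have h6 : orderOf (⟨c, hcA⟩ : alternatingGroup (Fin n)) ∣ N0 :=
    (Subgroup.orderOf_dvd_natCard _ h5).trans hd
  rw [← Subgroup.orderOf_coe] at h6
  change orderOf c ∣ N0 at h6
  rw [hco] at h6
  revert h6
  decide

theorem card_aut_alt {n : ℕ} (hn : 7 ≤ n) : Nat.card (MulAut (alternatingGroup (Fin n))) ∣ n.factorial := by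
  obtain ⟨ψ, hψ⟩ := Cfsg.Agent.StandardComponent.AltAut.exists_autHom n hn
  have hi : Function.Injective ψ := by
    intro a b hab
    ext1 x
    apply Subtype.ext
    rw [hψ, hψ, hab]
  have h1 : Nat.card ψ.range ∣ Nat.card (Perm (Fin n)) := Subgroup.card_subgroup_dvd_card _
  rw [← Nat.card_congr (MonoidHom.ofInjective hi).toEquiv] at h1
  rwa [Nat.card_perm, Nat.card_eq_fintype_card (α := Fin n), Fintype.card_fin] at h1

theorem elim_alt {n : ℕ} (hn : 5 ≤ n) (h : E3 (alternatingGroup (Fin n))) : False := by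
  rcases Nat.lt_or_ge n 14 with h14 | h14
  · rcases Nat.lt_or_ge n 7 with h7 | h7
    · have h1 := Cfsg.Agent.OrdDiv.alt_card hn (MulEquiv.refl (alternatingGroup (Fin n)))
      have h2 : 3 ^ 5 ∣ n.factorial := by rw [h1]; exact h.d5.mul_left 2
      have h3 := h2.trans (Nat.factorial_dvd_factorial h7.le)
      revert h3; decide
    · have h1 := h.aut.trans ((card_aut_alt h7).trans (Nat.factorial_dvd_factorial (show n ≤ 14 by omega)))
      revert h1; decide +kernel
  · exact alt_big h14 h

end Alt

end Cfsg.Agent.H351.OE
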