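import Cfsg.Agent.H351.OE.Cross
import Cfsg.Agent.H351.OE.UFour
import Cfsg.Agent.H351.OE.GTwoT
import Cfsg.Agent.H128.Char3
import Cfsg.Agent.TwoFusion.PSL3Inv
import Cfsg.Agent.GTwoOdd.CentPSU

/-!
# S3372: classical groups in characteristic three
-/

set_option autoImplicit false
set_option linter.unusedSectionVars false
set_option linter.unusedVariables false

namespace Cfsg.Agent.H351.OE

open Subgroup Cfsg H343 H128.Val3 H341.ThreeList H128.Cross3 H128.ClassicalAb H128.Char3 GTwoT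

theorem E3.noT {X : Type*} [Group X] (h : E3 X) (hX : NoT X) (h6 : 3 ^ 6 ∣ Nat.card X) : False := by
  obtain ⟨t, ht, h27⟩ := h.inv h6
  exact hX t ht h27

theorem E3.bounds {X : Type*} [Group X] (h : E3 X) {d r q N f : ℕ} (hd : ¬ 3 ∣ d) (hr : ¬ 3 ∣ r) (hq : q = 3 ^ f)
    (hc : d * Nat.card X = q ^ N * r) : f * N = 5 ∨ f * N = 6 := by
  have h1 := (pow_dvd_iff hd hr hq hc).1 h.d5
  have h2 : ¬ 7 ≤ f * N := fun h' => h.n7 ((pow_dvd_iff hd hr hq hc).2 h')
  omega

theorem E3.card_le {X : Type*} [Group X] (h : E3 X) {A : Type*} [CommGroup A] (hA : IsPGroup 3 A) (g : A →* X)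
    (hg : Function.Injective g) : Nat.card A ≤ 3 ^ 4 := by
  have h1 : Nat.card A = Nat.card g.range := Nat.card_congr (MonoidHom.ofInjective hg).toEquiv
  rw [h1]
  apply h.ab
  · have h2 : IsPGroup 3 (⊤ : Subgroup A) := by
      intro x
      obtain ⟨k, hk⟩ := hA x
      exact ⟨k, Subtype.ext hk⟩
    have h3 := h2.map g
    rwa [← MonoidHom.range_eq_map] at h3
  · rintro _ ⟨a, rfl⟩ _ ⟨b, rfl⟩
    rw [← map_mul, ← map_mul, mul_comm]

section

variable {F : Type} [Field F] [Fintype F]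

theorem noT_psl_three_nine (hF : Fintype.card F = 9) : NoT (Matrix.ProjectiveSpecialLinearGroup (Fin 3) F) := by
  intro t ht h27
  have h2 : (2 : F) ≠ 0 := by
    apply Ring.two_ne_zero
    intro h
    have h1 := FiniteField.even_card_iff_char_two.mp h
    rw [hF] at h1
    norm_num at h1
  obtain ⟨Z, _, -, -, ⟨e⟩⟩ := Cfsg.Agent.TwoFusion.PSL3Inv.main h2 t ht
  rw [Nat.card_congr e.toEquiv] at h27
  have h3 := h27.trans (Subgroup.card_quotient_dvd_card Z)
  have h6 : Nat.card (GL (Fin 2) F) = 5760 := by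
    rw [Matrix.card_GL_field, hF, Fin.prod_univ_two]
    norm_num
  rw [h6] at h3
  norm_num at h3

theorem noT_psu_three_nine (hF : Fintype.card F = 9 ^ 2) : NoT (PSU 3 F 9) := by
  have hq : Odd 9 := by decide
  refine NoT.of_conj (z := Cfsg.Agent.GTwoOdd.Core.HFiveB.vv (F := F) hF hq) ?_ ?_
  · intro h27
    have : Finite (Cfsg.GU 2 F 9) := Cfsg.Agent.LieClassical.GUOrder.finite_GU 2
    have h3 := h27.trans (Subgroup.card_dvd_of_surjective _ (Cfsg.Agent.GTwoOdd.Core.HFiveB.toC_surjective (F := F) hF hq))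
    have h6 : Nat.card (Cfsg.GU 2 F 9) = 7200 := by
      rw [Cfsg.Agent.S0277.result hF 2, Finset.prod_range_succ, Finset.prod_range_one, if_pos (by decide),
        if_neg (by decide)]
      norm_num
    rw [h6] at h3
    norm_num at h3
  · intro t ht
    obtain ⟨x, hx⟩ := Cfsg.Agent.GTwoOdd.CentPSU.exists_conj_vv hF hq ht
    refine ⟨x⁻¹, ?_⟩
    rw [← hx]; group

theorem psl_char {n : ℕ} (hn : 2 ≤ n) (hF : 3 ∣ Fintype.card F)
    (h : E3 (Matrix.ProjectiveSpecialLinearGroup (Fin n) F)) : False := by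
  obtain ⟨f, hf, hcard, hchar⟩ := char_three hF
  have : Fact (Nat.Prime 3) := ⟨Nat.prime_three⟩
  have hc := card_psl (F := F) hn
  have hq1 : 1 ≤ Fintype.card F := Fintype.card_pos
  have hd : ¬ 3 ∣ Nat.gcd n (Fintype.card F - 1) := fun h' => by
    have := h'.trans (Nat.gcd_dvd_right _ _)
    omega
  have hr : ¬ 3 ∣ ∏ j ∈ Finset.range (n - 1), (Fintype.card F ^ (j + 2) - 1) :=
    not_dvd_prod _ _ fun j _ => not_dvd_sub_one hF hq1 (by omega)
  have hb := h.bounds hd hr hcard hc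
  have h6 : f * (n * (n - 1) / 2) = 6 → 3 ^ 6 ∣ Nat.card (Matrix.ProjectiveSpecialLinearGroup (Fin n) F) :=
    fun h' => (pow_dvd_iff hd hr hcard hc).2 h'.ge
  have hN : n * (n - 1) / 2 ≤ 6 := by
    rcases hb with hb | hb <;> nlinarith
  have hn6 : n ≤ 4 := by
    by_contra hcon
    have h1 : 5 * 4 ≤ n * (n - 1) := Nat.mul_le_mul (by omega) (by omega)
    omega
  interval_cases n
  · -- `PSL₂`
    have h1 := h.card_le (three_pGroup_mult (F := F) (n := 1)) _
      (comp_injective three_pGroup_mult u2 u2_injective (center_sl (by norm_num)))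
    rw [card_mult, hcard, pow_one] at h1
    have h2 := (Nat.pow_le_pow_iff_right (by norm_num)).1 h1
    omega
  · have hf2 : f = 2 := by omega
    subst hf2
    exact h.noT (noT_psl_three_nine (by rw [hcard]; norm_num)) (h6 (by norm_num))
  · have hf1 : f = 1 := by omega
    subst hf1
    exact h.noT (LFour.not_dvd (by rw [hcard]; norm_num)) (h6 (by norm_num))

theorem psu_char {n q : ℕ} (hF : Fintype.card F = q ^ 2) (hn : 3 ≤ n) (hq : 3 ∣ q) (h : E3 (PSU n F q)) :
    False := by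
  have : Fact (Nat.Prime 3) := ⟨Nat.prime_three⟩
  have hF3 : 3 ∣ Fintype.card F := by
    rw [hF]
    exact hq.trans (dvd_pow_self q (by norm_num))
  obtain ⟨g, hg, hcard, hchar⟩ := char_three hF3
  obtain ⟨f, -, hqf⟩ : ∃ l ≤ g, q = 3 ^ l := (Nat.dvd_prime_pow Nat.prime_three).1 (by
    rw [← hcard, hF]
    exact Dvd.intro_left q (by ring))
  have hf1 : 1 ≤ f := by
    by_contra hcon
    rw [show f = 0 by omega, pow_zero] at hqf
    rw [hqf] at hq
    omega
  have hc := card_psu (F := F) hF (show 2 ≤ n by omega)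
  have hq1 : 1 ≤ q := by
    rw [hqf]
    exact Nat.one_le_pow _ _ (by norm_num)
  have hd : ¬ 3 ∣ Nat.gcd n (q + 1) := fun h' => by
    have := h'.trans (Nat.gcd_dvd_right _ _)
    omega
  have hr : ¬ 3 ∣ ∏ j ∈ Finset.range (n - 1), (if Even j then q ^ (j + 2) - 1 else q ^ (j + 2) + 1) :=
    not_dvd_prod _ _ fun j _ => by
      split_ifs
      · exact not_dvd_sub_one hq hq1 (by omega)
      · exact not_dvd_add_one hq (by omega)
  have hb := h.bounds hd hr hqf hc
  have h6 : f * (n * (n - 1) / 2) = 6 → 3 ^ 6 ∣ Nat.card (PSU n F q) :=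
    fun h' => (pow_dvd_iff hd hr hqf hc).2 h'.ge
  have hN : n * (n - 1) / 2 ≤ 6 := by
    rcases hb with hb | hb <;> nlinarith
  have hn6 : n ≤ 4 := by
    by_contra hcon
    have h1 : 5 * 4 ≤ n * (n - 1) := Nat.mul_le_mul (by omega) (by omega)
    omega
  interval_cases n
  · have hf2 : f = 2 := by omega
    subst hf2
    have h9 : q = 9 := by rw [hqf]; norm_num
    subst h9
    exact h.noT (noT_psu_three_nine hF) (h6 (by norm_num))
  · have hf2 : f = 1 := by omega
    subst hf2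
    have h9 : q = 3 := by rw [hqf]; norm_num
    subst h9
    exact h.noT (UFour.not_dvd (by rw [hF]; norm_num)) (h6 (by norm_num))

theorem psp_char {m : ℕ} (hm : 2 ≤ m) (hF : 3 ∣ Fintype.card F) (h : E3 (PSp m F)) : False := by
  obtain ⟨f, hf, hcard, hchar⟩ := char_three hF
  have hc := card_psp (F := F) (m := m) (by omega)
  have hq1 : 1 ≤ Fintype.card F := Fintype.card_pos
  have hr : ¬ 3 ∣ ∏ i ∈ Finset.range m, (Fintype.card F ^ (2 * (i + 1)) - 1) :=
    not_dvd_prod _ _ fun j _ => not_dvd_sub_one hF hq1 (by omega)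
  have hb := h.bounds not_dvd_gcd_two hr hcard hc
  have hm3 : m ≤ 2 := by
    by_contra hcon
    have h1 : 3 * 3 ≤ m ^ 2 := by nlinarith
    rcases hb with hb | hb <;> nlinarith
  have : m = 2 := by omega
  subst this
  omega

theorem oodd_char {m : ℕ} (hm : 3 ≤ m) (ho : Odd (Fintype.card F)) (hF : 3 ∣ Fintype.card F)
    (h : E3 (POmega F (quadFormOdd m F))) : False := by
  obtain ⟨f, hf, hcard, hchar⟩ := char_three hF
  have hc := S0292.result (F := F) rfl ho m hm
  have hq1 : 1 ≤ Fintype.card F := Fintype.card_pos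
  have hr : ¬ 3 ∣ ∏ i ∈ Finset.range m, (Fintype.card F ^ (2 * (i + 1)) - 1) :=
    not_dvd_prod _ _ fun j _ => not_dvd_sub_one hF hq1 (by omega)
  have hb := h.bounds (by norm_num) hr hcard hc
  have h1 : 3 * 3 ≤ m ^ 2 := by nlinarith
  rcases hb with hb | hb <;> nlinarith

theorem oplus_char {m : ℕ} (hm : 4 ≤ m) (hF : 3 ∣ Fintype.card F) (h : E3 (POmega F (quadFormPlus m F))) : False := by
  obtain ⟨f, hf, hcard, hchar⟩ := char_three hF
  have hc := S0293.result (F := F) rfl m hm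
  have hq1 : 1 ≤ Fintype.card F := Fintype.card_pos
  have hr : ¬ 3 ∣ ∏ i ∈ Finset.range (m - 1), (Fintype.card F ^ (2 * (i + 1)) - 1) :=
    not_dvd_prod _ _ fun j _ => not_dvd_sub_one hF hq1 (by omega)
  have hr' := not_dvd_mul (not_dvd_sub_one hF hq1 (show m ≠ 0 by omega)) hr
  rw [mul_assoc] at hc
  have hb := h.bounds not_dvd_gcd_four hr' hcard hc
  have h1 : 4 * 3 ≤ m * (m - 1) := Nat.mul_le_mul (by omega) (by omega)
  rcases hb with hb | hb <;> nlinarith

theorem ominus_char {m : ℕ} (hm : 4 ≤ m) {a b : F}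
    (hab : ∀ z₁ z₂ : F, z₁ ^ 2 + a * z₁ * z₂ + b * z₂ ^ 2 = 0 → z₁ = 0 ∧ z₂ = 0) (hF : 3 ∣ Fintype.card F)
    (h : E3 (POmega F (quadFormMinus (m - 1) F a b))) : False := by
  obtain ⟨f, hf, hcard, hchar⟩ := char_three hF
  have hc := S0294.result (F := F) rfl m hm a b hab
  have hq1 : 1 ≤ Fintype.card F := Fintype.card_pos
  have hr : ¬ 3 ∣ ∏ i ∈ Finset.range (m - 1), (Fintype.card F ^ (2 * (i + 1)) - 1) :=
    not_dvd_prod _ _ fun j _ => not_dvd_sub_one hF hq1 (by omega)
  have hr' := not_dvd_mul (not_dvd_add_one hF (show m ≠ 0 by omega)) hr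
  rw [mul_assoc] at hc
  have hb := h.bounds not_dvd_gcd_four hr' hcard hc
  have h1 : 4 * 3 ≤ m * (m - 1) := Nat.mul_le_mul (by omega) (by omega)
  rcases hb with hb | hb <;> nlinarith

end

end Cfsg.Agent.H351.OE
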