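import Cfsg.Agent.H351.OE.Pair

/-!
# S3372: conjugation of `Ce Q z`
-/

set_option autoImplicit false

namespace Cfsg.Agent.H351.OE

open Subgroup
open scoped commutatorElement

variable {G : Type*} [Group G]

/-- the conjugate subgroup -/
def cj (g : G) (Q : Subgroup G) : Subgroup G := Q.map (MulAut.conj g).toMonoidHom

theorem mem_cj {g x : G} {Q : Subgroup G} : x ∈ cj g Q ↔ g⁻¹ * x * g ∈ Q := by
  constructor
  · rintro ⟨y, hy, rfl⟩
    have : g⁻¹ * ((MulAut.conj g).toMonoidHom y) * g = y := by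
      change g⁻¹ * (g * y * g⁻¹) * g = y
      group
    rw [this]; exact hy
  · intro h
    refine ⟨_, h, ?_⟩
    change g * (g⁻¹ * x * g) * g⁻¹ = x
    group

theorem card_cj (g : G) (Q : Subgroup G) : Nat.card (cj g Q) = Nat.card Q :=
  (Nat.card_congr (Q.equivMapOfInjective _ (MulAut.conj g).injective).toEquiv).symm

theorem mem_zpowers_conj {g z c : G} : c ∈ zpowers (g * z * g⁻¹) ↔ g⁻¹ * c * g ∈ zpowers z := by
  constructor
  · rintro ⟨i, rfl⟩
    refine ⟨i, ?_⟩
    change z ^ i = g⁻¹ * (g * z * g⁻¹) ^ i * g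
    rw [conj_zpow]; group
  · rintro ⟨i, hi⟩
    refine ⟨i, ?_⟩
    change (g * z * g⁻¹) ^ i = c
    change z ^ i = g⁻¹ * c * g at hi
    rw [conj_zpow, hi]; group

theorem conj_cm {g a b : G} : g⁻¹ * ⁅a, b⁆ * g = ⁅g⁻¹ * a * g, g⁻¹ * b * g⁆ := by
  simp only [commutatorElement_def]; group

theorem conj_comm_iff {g a b : G} : a * (g * b * g⁻¹) = (g * b * g⁻¹) * a ↔ (g⁻¹ * a * g) * b = b * (g⁻¹ * a * g) := by
  constructor
  · intro h
    calc (g⁻¹ * a * g) * b = g⁻¹ * (a * (g * b * g⁻¹)) * g := by group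
      _ = _ := by rw [h]; group
  · intro h
    calc a * (g * b * g⁻¹) = g * ((g⁻¹ * a * g) * b) * g⁻¹ := by group
      _ = _ := by rw [h]; group

theorem Ce.conj {Q : Subgroup G} {z : G} (h : Ce Q z) (g : G) : Ce (cj g Q) (g * z * g⁻¹) where
  ex :=
    { z1 := fun h1 => h.ex.z1 (conj_eq_one_iff.1 h1)
      zz := by rw [conj_pow, h.ex.zz]; group
      zQ := by rw [mem_cj]; have : g⁻¹ * (g * z * g⁻¹) * g = z := by group
               rw [this]; exact h.ex.zQ
      card := by rw [card_cj]; exact h.ex.card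
      exp := by
        intro a ha
        have h1 := h.ex.exp _ (mem_cj.1 ha)
        have h2 : (g⁻¹ * a * g) ^ 3 = g⁻¹ * a ^ 3 * g := by
          have := conj_pow (a := g⁻¹) (b := a) (i := 3)
          rwa [inv_inv] at this
        rw [h2] at h1
        calc a ^ 3 = g * (g⁻¹ * a ^ 3 * g) * g⁻¹ := by group
          _ = 1 := by rw [h1]; group
      zc := by
        intro a ha
        rw [conj_comm_iff]
        exact h.ex.zc _ (mem_cj.1 ha)
      comm := by
        intro a ha b hb
        rw [mem_zpowers_conj, conj_cm]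
        exact h.ex.comm _ (mem_cj.1 ha) _ (mem_cj.1 hb)
      cen := by
        intro a ha hab
        rw [mem_zpowers_conj]
        apply h.ex.cen _ (mem_cj.1 ha)
        intro b hb
        have h1 : g * b * g⁻¹ ∈ cj g Q := by
          rw [mem_cj]; have : g⁻¹ * (g * b * g⁻¹) * g = b := by group
          rw [this]; exact hb
        exact conj_comm_iff.1 (hab _ h1) }
  nor := by
    intro c hc q hq
    rw [mem_cj] at hq ⊢
    have h1 := h.nor _ (conj_comm_iff.1 hc) _ hq
    have h2 : g⁻¹ * (c * q * c⁻¹) * g = (g⁻¹ * c * g) * (g⁻¹ * q * g) * (g⁻¹ * c * g)⁻¹ := by group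
    rw [h2]; exact h1
  idx := by
    intro P hP hPz
    have h1 := h.idx (cj g⁻¹ P) (hP.map _) (by
      intro p hp
      rw [mem_cj, inv_inv] at hp
      have h2 := conj_comm_iff.1 (hPz _ hp)
      have h3 : g⁻¹ * (g * p * g⁻¹) * g = p := by group
      rwa [h3] at h2)
    rw [card_cj] at h1
    have h2 : cj g⁻¹ P ⊓ Q = cj g⁻¹ (P ⊓ cj g Q) := by
      ext y
      rw [mem_inf, mem_cj, mem_cj, mem_inf, mem_cj, inv_inv]
      have h3 : g⁻¹ * (g * y * g⁻¹) * g = y := by group
      rw [h3]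
    rw [h2, card_cj] at h1
    exact h1

/-- noncentral elements of `Q` -/
theorem Ex.exists_conj {Q : Subgroup G} {z : G} (h : Ex Q z) {x c : G} (hx : x ∈ Q) (hxz : x ∉ zpowers z)
    (hc : c ∈ zpowers z) : ∃ q ∈ Q, q * x * q⁻¹ = c * x := by
  have hfz : Finite (zpowers z) := Nat.finite_of_card_ne_zero (by rw [h.card_z]; norm_num)
  have h2 : (h.cm hx).range = ⊤ := by
    have h3 : Nat.card (h.cm hx).range ∣ 3 := by
      have := Subgroup.card_subgroup_dvd_card (h.cm hx).range
      rwa [h.card_z] at this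
    rcases (Nat.dvd_prime Nat.prime_three).1 h3 with h4 | h4
    · exfalso
      apply hxz
      apply h.cen x hx
      intro b hb
      have h5 : (h.cm hx) ⟨b, hb⟩ ∈ (h.cm hx).range := ⟨_, rfl⟩
      rw [Subgroup.card_eq_one.1 h4, mem_bot] at h5
      exact (commutatorElement_eq_one_iff_mul_comm.1 (congrArg Subtype.val h5)).symm
    · exact Subgroup.eq_top_of_card_eq _ (by rw [h4, h.card_z])
  have h3 : (⟨c, hc⟩ : zpowers z) ∈ (h.cm hx).range := by rw [h2]; trivial
  obtain ⟨q, hq⟩ := h3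
  refine ⟨q, q.2, ?_⟩
  have h4 : ⁅(q : G), x⁆ = c := congrArg Subtype.val hq
  rw [← h4]
  simp only [commutatorElement_def]; group

end Cfsg.Agent.H351.OE
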