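import Cfsg.Agent.H351.OE.Kill
import Cfsg.Agent.OddHalf.Quat.NoThreeL
import Cfsg.Agent.S0813
import Cfsg.Agent.S0265
import Cfsg.Agent.S0814
import Cfsg.Agent.S0815
import Cfsg.Agent.S0817

/-!
# S3372: linear, unitary and symplectic groups in characteristic not three
-/

set_option autoImplicit false
set_option linter.unusedSectionVars false
set_option linter.unusedVariables false

namespace Cfsg.Agent.H351.OE

open Subgroup Cfsg H343 H128.Val3 H341.ThreeList H128.Cross3 H128.ClassicalAb

theorem vf_ge {n k : ℕ} (h : 3 ^ k ∣ n.factorial) : k ≤ vf n :=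
  (Nat.prime_three.pow_dvd_iff_le_factorization (Nat.factorial_ne_zero n)).1 h

theorem vf_six {n : ℕ} (h : 6 ≤ n) : 2 ≤ vf n :=
  vf_ge ((show 3 ^ 2 ∣ (6).factorial by decide).trans (Nat.factorial_dvd_factorial h))

theorem E3.le_of {X : Type*} [Group X] (h : E3 X) {k : ℕ} (hk : 3 ^ k ∣ Nat.card X) : k ≤ 6 := by
  by_contra hc
  exact h.n7 ((pow_dvd_pow 3 (by omega)).trans hk)

theorem nine_dvd_one {q : ℕ} (hq : q % 3 = 1) : 9 ∣ q ^ 3 - 1 := by
  obtain ⟨y, rfl⟩ : ∃ y, q = 3 * y + 1 := ⟨q / 3, by omega⟩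
  have : (3 * y + 1) ^ 3 - 1 = 9 * (3 * y ^ 3 + 3 * y ^ 2 + y) := by
    have : (3 * y + 1) ^ 3 = 9 * (3 * y ^ 3 + 3 * y ^ 2 + y) + 1 := by ring
    rw [this]; simp
  rw [this]; exact dvd_mul_right _ _

theorem nine_dvd_two {q : ℕ} (hq : q % 3 = 2) : 9 ∣ q ^ 3 + 1 := by
  obtain ⟨y, rfl⟩ : ∃ y, q = 3 * y + 2 := ⟨q / 3, by omega⟩
  have : (3 * y + 2) ^ 3 + 1 = 9 * (3 * y ^ 3 + 6 * y ^ 2 + 4 * y + 1) := by ring
  rw [this]; exact dvd_mul_right _ _

/-- `(q² - 1)(q⁴ - 1)(q⁶ - 1)` -/
theorem twenty_seven {q : ℕ} (hq : ¬ 3 ∣ q) : 27 ∣ (q ^ 2 - 1) * (q ^ 4 - 1) * (q ^ 6 - 1) := by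
  have h1 := three_dvd_pow_sub' hq 1
  have h2 := three_dvd_pow_sub' hq 2
  have h3 := three_dvd_pow_sub' hq 3
  exact Nat.mul_dvd_mul (Nat.mul_dvd_mul h1 h2) h3
where
  three_dvd_pow_sub' {q : ℕ} (h : ¬ 3 ∣ q) (k : ℕ) : 3 ∣ q ^ (2 * k) - 1 := by
    rw [pow_mul]
    refine (three_dvd_sq_sub h).trans ?_
    simpa using Nat.sub_dvd_pow_sub_pow (q ^ 2) 1 k

section Fin

variable {F : Type} [Field F] [Fintype F]

theorem card_sl {n : ℕ} (hn : 2 ≤ n) : Nat.card (Matrix.SpecialLinearGroup (Fin n) F) =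
    Fintype.card F ^ (n * (n - 1) / 2) * ∏ j ∈ Finset.range (n - 1), (Fintype.card F ^ (j + 2) - 1) := by
  rw [← card_psl hn, OddHalf.Quat.NoThreeL.card_SL, Cfsg.Agent.S0280.card_center_SL (by omega)]

theorem card_su {n q : ℕ} (hF : Fintype.card F = q ^ 2) (hn : 1 ≤ n) : Nat.card (SU n F q) =
    q ^ (n * (n - 1) / 2) * ∏ j ∈ Finset.range (n - 1), (if Even j then q ^ (j + 2) - 1 else q ^ (j + 2) + 1) := by
  have h := Cfsg.Agent.S0278.result hF n hn
  obtain ⟨m, rfl⟩ : ∃ m, n = m + 1 := ⟨n - 1, by omega⟩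
  rw [Finset.prod_range_succ', if_pos Even.zero, zero_add, pow_one] at h
  apply Nat.eq_of_mul_eq_mul_left (show 0 < q + 1 by omega)
  rw [h, Nat.add_sub_cancel]
  have h1 : ∏ i ∈ Finset.range m, (if Even (i + 1) then q ^ (i + 1 + 1) + 1 else q ^ (i + 1 + 1) - 1) =
      ∏ j ∈ Finset.range m, (if Even j then q ^ (j + 2) - 1 else q ^ (j + 2) + 1) := by
    refine Finset.prod_congr rfl fun j _ => ?_
    by_cases hj : Even j
    · rw [if_neg (by rw [Nat.even_add_one, not_not]; exact hj), if_pos hj]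
    · rw [if_pos (by rw [Nat.even_add_one]; exact hj), if_neg hj]
  rw [h1]; ring


theorem card_sl_three : Nat.card (Matrix.SpecialLinearGroup (Fin 3) F) =
    Fintype.card F ^ 3 * ((Fintype.card F ^ 2 - 1) * (Fintype.card F ^ 3 - 1)) := by
  rw [card_sl (by norm_num)]
  simp [Finset.prod_range_succ]

theorem dvd_sl_three (hq : Fintype.card F % 3 = 1) {n : ℕ} (hn : 3 ≤ n) :
    27 ∣ Nat.card (Matrix.SpecialLinearGroup (Fin n) F) := by
  refine Dvd.dvd.trans ?_ (card_sl_dvd hn)
  rw [card_sl_three]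
  exact Dvd.dvd.mul_left (Nat.mul_dvd_mul (three_dvd_sq_sub (by omega)) (nine_dvd_one hq)) _

theorem dvd_sl_six (hq : ¬ 3 ∣ Fintype.card F) {n : ℕ} (hn : 6 ≤ n) :
    27 ∣ Nat.card (Matrix.SpecialLinearGroup (Fin n) F) := by
  refine Dvd.dvd.trans ?_ (card_sl_dvd hn)
  rw [card_sl (by norm_num)]
  simp only [Nat.add_one_sub_one, Finset.prod_range_succ, Finset.range_zero, Finset.prod_empty, one_mul, zero_add,
    Nat.reduceAdd]
  refine (twenty_seven hq).trans ?_
  apply Dvd.intro (Fintype.card F ^ (6 * 5 / 2) * ((Fintype.card F ^ 3 - 1) * (Fintype.card F ^ 5 - 1)))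
  ring

theorem dvd_su_three {q : ℕ} (hF : Fintype.card F = q ^ 2) (hq : q % 3 = 2) {n : ℕ} (hn : 3 ≤ n) :
    27 ∣ Nat.card (SU n F q) := by
  refine Dvd.dvd.trans ?_ (card_su_dvd hF hn)
  rw [card_su hF (by norm_num)]
  have h1 : ∏ j ∈ Finset.range (3 - 1), (if Even j then q ^ (j + 2) - 1 else q ^ (j + 2) + 1) =
      (q ^ 2 - 1) * (q ^ 3 + 1) := by
    rw [show 3 - 1 = 1 + 1 by norm_num, Finset.prod_range_succ, Finset.prod_range_one, if_pos (by decide), if_neg (by decide)]
  rw [h1]
  exact Dvd.dvd.mul_left (Nat.mul_dvd_mul (three_dvd_sq_sub (by omega)) (nine_dvd_two hq)) _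

theorem prod_six (q : ℕ) : ∏ j ∈ Finset.range 5, (if Even j then q ^ (j + 2) - 1 else q ^ (j + 2) + 1) =
    (q ^ 2 - 1) * (q ^ 3 + 1) * (q ^ 4 - 1) * (q ^ 5 + 1) * (q ^ 6 - 1) := by
  rw [show 5 = 0 + 1 + 1 + 1 + 1 + 1 by norm_num]
  iterate 5 rw [Finset.prod_range_succ]
  rw [Finset.prod_range_zero, if_pos (by decide), if_neg (by decide), if_pos (by decide), if_neg (by decide),
    if_pos (by decide)]
  norm_num

theorem dvd_su_six {q : ℕ} (hF : Fintype.card F = q ^ 2) (hq : ¬ 3 ∣ q) {n : ℕ} (hn : 6 ≤ n) :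
    27 ∣ Nat.card (SU n F q) := by
  refine Dvd.dvd.trans ?_ (card_su_dvd hF hn)
  rw [card_su hF (by norm_num), show 6 - 1 = 5 by norm_num, prod_six]
  refine (twenty_seven hq).trans ?_
  apply Dvd.intro (q ^ (6 * 5 / 2) * ((q ^ 3 + 1) * (q ^ 5 + 1)))
  ring

theorem dvd_sp_three (hq : ¬ 3 ∣ Fintype.card F) {n : ℕ} (hn : 3 ≤ n) :
    27 ∣ Nat.card (Matrix.symplecticGroup (Fin n) F) := by
  refine Dvd.dvd.trans ?_ (card_sp_dvd hn)
  rw [Cfsg.Agent.S0245.result (F := F) rfl 3]
  simp only [Finset.prod_range_succ, Finset.range_zero, Finset.prod_empty, one_mul, zero_add,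
    Nat.reduceAdd, Nat.reduceMul]
  refine (twenty_seven hq).trans ?_
  exact dvd_mul_left _ _

theorem q_of_sl_two (h : Nat.card (Matrix.SpecialLinearGroup (Fin 2) F) ∣ N0) : Fintype.card F ∈ [2, 3] := by
  apply qlist0 Fintype.isPrimePow_card_of_field
  rw [← H343.card_SL_two rfl]
  exact h.mul_left 2

theorem q_of_su_two {q : ℕ} (hF : Fintype.card F = q ^ 2) (h : Nat.card (SU 2 F q) ∣ N0) : q ∈ [2, 3] := by
  apply qlist0 (isPrimePow_of_sq hF)
  rw [← su_two_card hF]
  exact h.mul_left 2

theorem card_pos_of_psl {n : ℕ} : Nat.card (Matrix.ProjectiveSpecialLinearGroup (Fin n) F) ≠ 0 := Nat.card_pos.ne'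

/-! ### linear groups -/

theorem psl_cross {n : ℕ} (hn : 3 ≤ n) (hq : ¬ 3 ∣ Fintype.card F)
    (h : E3 (Matrix.ProjectiveSpecialLinearGroup (Fin n) F)) : False := by
  have hF3 : Fact (Nat.Prime 3) := ⟨Nat.prime_three⟩
  have hq1 : 1 < Fintype.card F := Fintype.one_lt_card
  have h3F : ((3 : ℕ) : F) ≠ 0 := three_ne_zero' hq
  have hc := card_psl (F := F) (n := n) (by omega)
  have hX : Nat.card (Matrix.ProjectiveSpecialLinearGroup (Fin n) F) ≠ 0 := Nat.card_pos.ne'
  have hd : Nat.gcd n (Fintype.card F - 1) ≠ 0 := (Nat.gcd_pos_of_pos_left _ (by omega)).ne'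
  have hv := v_of hd hX hc
  have hvv := h.vv
  have hu := v_sq_pos hq1 hq
  have hq3 : Fintype.card F % 3 = 1 ∨ Fintype.card F % 3 = 2 := by omega
  have hne : ∀ j, j ≠ 0 → Fintype.card F ^ j - 1 ≠ 0 := fun j hj => pow_sub_ne hq1 hj
  have hp : ∀ j, Fintype.card F ^ j ≠ 0 := fun j => (pow_pos (by omega) j).ne'
  rcases hq3 with hq3 | hq3
  · -- `q ≡ 1`
    have h1 := h.le_of (psl_val_one (F := F) (n := n) (by omega) hq3)
    have hn6 : n ≤ 6 := by
      by_contra hcon
      have := vf_six (n := n) (by omega)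
      omega
    by_cases hn5 : 5 ≤ n
    · obtain ⟨k, rfl⟩ : ∃ k, n = k + 2 := ⟨n - 2, by omega⟩
      have h2 := h.pair (pslPair F (k := k) (l := 2) (by omega) (by norm_num)) (dvd_sl_three hq3 (by omega))
      have h3 := q_of_sl_two h2
      simp only [List.mem_cons, List.not_mem_nil, or_false] at h3
      omega
    · have hn34 : n = 3 ∨ n = 4 := by omega
      rcases hn34 with rfl | rfl
      · -- `L₃(q)`
        rw [show 3 - 1 = 1 + 1 by norm_num, Finset.prod_range_succ, Finset.prod_range_one] at hv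
        rw [padicValNat.mul (hp _) (mul_ne_zero (hne _ (by norm_num)) (hne _ (by norm_num))),
          padicValNat.mul (hne _ (by norm_num)) (hne _ (by norm_num)), v_pow_zero hq,
          v_one hq1 hq3 (show 1 + 2 ≠ 0 by norm_num)] at hv
        have hg : Nat.gcd 3 (Fintype.card F - 1) = 3 := Nat.gcd_eq_left (by omega)
        rw [hg] at hv
        have e1 : padicValNat 3 3 = 1 := by simp
        rw [e1] at hv
        simp only [zero_add] at hv
        rcases hvv with h5 | h6
        · omega
        · have := h.six_le (hasAb_psl h3F 3) (h.six_of_vv h6)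
          omega
      · rw [show 4 - 1 = 1 + 1 + 1 by norm_num, Finset.prod_range_succ, Finset.prod_range_succ, Finset.prod_range_one] at hv
        rw [padicValNat.mul (hp _) (mul_ne_zero (mul_ne_zero (hne _ (by norm_num)) (hne _ (by norm_num))) (hne _ (by norm_num))),
          padicValNat.mul (mul_ne_zero (hne _ (by norm_num)) (hne _ (by norm_num))) (hne _ (by norm_num)),
          padicValNat.mul (hne _ (by norm_num)) (hne _ (by norm_num)), v_pow_zero hq,
          v_one hq1 hq3 (show 1 + 2 ≠ 0 by norm_num), v_one hq1 hq3 (show 1 + 1 + 2 ≠ 0 by norm_num)] at hv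
        have hg : padicValNat 3 (Nat.gcd 4 (Fintype.card F - 1)) = 0 := by
          apply padicValNat.eq_zero_of_not_dvd
          intro h'
          have := h'.trans (Nat.gcd_dvd_left _ _)
          omega
        have e1 : padicValNat 3 (1 + 2) = 1 := by norm_num
        have e2 : padicValNat 3 (1 + 1 + 2) = 0 := padicValNat.eq_zero_of_not_dvd (by norm_num)
        rw [hg, e1, e2] at hv
        simp only [zero_add, add_zero] at hv
        omega
  · -- `q ≡ 2`
    have h1 := h.le_of (psl_val_two (F := F) (n := n) (by omega) hq3)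
    have h2 := h.three_le (hasAb_psl_half (by norm_num) h3F (by omega) n)
    have hn6 : n / 2 ≤ 5 := by
      by_contra hcon
      have := vf_six (n := n / 2) (by omega)
      omega
    by_cases hn8 : 8 ≤ n
    · have hq2 : Fintype.card F = 2 := by
        obtain ⟨k, rfl⟩ : ∃ k, n = k + 2 := ⟨n - 2, by omega⟩
        have h2 := h.pair (pslPair F (k := k) (l := 2) (by omega) (by norm_num)) (dvd_sl_six hq (by omega))
        have h3 := q_of_sl_two h2
        simp only [List.mem_cons, List.not_mem_nil, or_false] at h3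
        omega
      by_cases hn9 : 9 ≤ n
      · obtain ⟨k, rfl⟩ : ∃ k, n = k + 3 := ⟨n - 3, by omega⟩
        have h2 := h.pair (pslPair F (k := k) (l := 3) (by omega) (by norm_num)) (dvd_sl_six hq (by omega))
        rw [card_sl_three, hq2] at h2
        revert h2
        decide +kernel
      · have : n = 8 := by omega
        subst this
        have hF2 : Fact (Nat.Prime 2) := ⟨Nat.prime_two⟩
        have h2 := Cfsg.Agent.S0813.result (F := F) 2 1 le_rfl (by rw [hq2, pow_one]) 8 (by norm_num) (fun h => by omega)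
        have h3 := h.aut
        rw [h2, Cfsg.Agent.S0265.result, card_sl (by norm_num), hq2] at h3
        revert h3
        rw [if_neg (by norm_num), show 8 - 1 = 7 by norm_num]
        simp only [Finset.prod_range_succ, Finset.range_zero, Finset.prod_empty]
        decide +kernel
    · have hn67 : n = 6 ∨ n = 7 := by omega
      have hg : padicValNat 3 (Nat.gcd n (Fintype.card F - 1)) = 0 := by
        apply padicValNat.eq_zero_of_not_dvd
        intro h'
        have := h'.trans (Nat.gcd_dvd_right _ _)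
        omega
      have e3 : padicValNat 3 (Fintype.card F ^ 3 - 1) = 0 := v_two_zero hq3 (by decide)
      have e5 : padicValNat 3 (Fintype.card F ^ 5 - 1) = 0 := v_two_zero hq3 (by decide)
      have e7 : padicValNat 3 (Fintype.card F ^ 7 - 1) = 0 := v_two_zero hq3 (by decide)
      have e4 := v_even (k := 2) hq1 hq (by norm_num)
      have e6 := v_even (k := 3) hq1 hq (by norm_num)
      rw [padicValNat.eq_zero_of_not_dvd (show ¬ 3 ∣ 2 by norm_num)] at e4
      rw [show padicValNat 3 3 = 1 by simp] at e6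
      simp only [Nat.reduceMul] at e4 e6
      have n2 := hne 2 (by norm_num)
      have n3 := hne 3 (by norm_num)
      have n4 := hne 4 (by norm_num)
      have n5 := hne 5 (by norm_num)
      have n6 := hne 6 (by norm_num)
      have n7 := hne 7 (by norm_num)
      rw [hg, padicValNat.mul (hp _) (Finset.prod_ne_zero_iff.2 fun j _ => hne _ (by omega)), v_pow_zero hq] at hv
      rcases hn67 with rfl | rfl
      · simp only [Nat.add_one_sub_one, Finset.prod_range_succ, Finset.range_zero, Finset.prod_empty, one_mul, zero_add,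
          Nat.reduceAdd] at hv
        rw [padicValNat.mul (mul_ne_zero (mul_ne_zero (mul_ne_zero n2 n3) n4) n5) n6,
          padicValNat.mul (mul_ne_zero (mul_ne_zero n2 n3) n4) n5, padicValNat.mul (mul_ne_zero n2 n3) n4,
          padicValNat.mul n2 n3] at hv
        omega
      · simp only [Nat.add_one_sub_one, Finset.prod_range_succ, Finset.range_zero, Finset.prod_empty, one_mul, zero_add,
          Nat.reduceAdd] at hv
        rw [padicValNat.mul (mul_ne_zero (mul_ne_zero (mul_ne_zero (mul_ne_zero n2 n3) n4) n5) n6) n7,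
          padicValNat.mul (mul_ne_zero (mul_ne_zero (mul_ne_zero n2 n3) n4) n5) n6,
          padicValNat.mul (mul_ne_zero (mul_ne_zero n2 n3) n4) n5, padicValNat.mul (mul_ne_zero n2 n3) n4,
          padicValNat.mul n2 n3] at hv
        omega


/-! ### unitary groups -/

theorem psu_cross {n q : ℕ} (hF : Fintype.card F = q ^ 2) (hn : 3 ≤ n) (hq : ¬ 3 ∣ q) (h : E3 (PSU n F q)) :
    n = 6 ∧ q = 2 := by
  have hF3 : Fact (Nat.Prime 3) := ⟨Nat.prime_three⟩
  have hqp := isPrimePow_of_sq hF
  have hq1 : 1 < q := hqp.one_lt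
  have h3F : ((3 : ℕ) : F) ≠ 0 := three_ne_zero' (by rw [hF]; exact fun h' => hq (Nat.prime_three.dvd_of_dvd_pow h'))
  have hc := card_psu (F := F) (n := n) hF (by omega)
  have hX : Nat.card (PSU n F q) ≠ 0 := by
    have := h.fin
    exact Nat.card_pos.ne'
  have hd : Nat.gcd n (q + 1) ≠ 0 := (Nat.gcd_pos_of_pos_left _ (by omega)).ne'
  have hv := v_of hd hX hc
  have hvv := h.vv
  have hu := v_sq_pos hq1 hq
  have hq3 : q % 3 = 1 ∨ q % 3 = 2 := by omega
  have hne : ∀ j, j ≠ 0 → q ^ j - 1 ≠ 0 := fun j hj => pow_sub_ne hq1 hj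
  have hne' : ∀ j, q ^ j + 1 ≠ 0 := fun j => pow_add_ne
  have hp : ∀ j, q ^ j ≠ 0 := fun j => (pow_pos (by omega) j).ne'
  have hfac : ∀ j, (if Even j then q ^ (j + 2) - 1 else q ^ (j + 2) + 1) ≠ 0 := by
    intro j
    split_ifs
    · exact hne _ (by omega)
    · exact hne' _
  rcases hq3 with hq3 | hq3
  · -- `q ≡ 1`
    exfalso
    have h1 := h.le_of (psu_val_one (F := F) hF (n := n) (by omega) hq3)
    have h2 := h.three_le (hasAb_psu_half (by norm_num) h3F hF (by omega) n)
    have hn6 : n / 2 ≤ 5 := by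
      by_contra hcon
      have := vf_six (n := n / 2) (by omega)
      omega
    by_cases hn8 : 8 ≤ n
    · obtain ⟨k, rfl⟩ : ∃ k, n = k + 2 := ⟨n - 2, by omega⟩
      have h2 := h.pair (psuPair hF (k := k) (l := 2) (by omega) (by norm_num) (by omega)) (dvd_su_six hF hq (by omega))
      have h3 := q_of_su_two hF h2
      simp only [List.mem_cons, List.not_mem_nil, or_false] at h3
      omega
    · have hn67 : n = 6 ∨ n = 7 := by omega
      have hg : padicValNat 3 (Nat.gcd n (q + 1)) = 0 := by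
        apply padicValNat.eq_zero_of_not_dvd
        intro h'
        have := h'.trans (Nat.gcd_dvd_right _ _)
        omega
      have e3 : padicValNat 3 (q ^ 3 + 1) = 0 := v_one_zero hq3
      have e5 : padicValNat 3 (q ^ 5 + 1) = 0 := v_one_zero hq3
      have e7 : padicValNat 3 (q ^ 7 + 1) = 0 := v_one_zero hq3
      have e4 := v_even (k := 2) hq1 hq (by norm_num)
      have e6 := v_even (k := 3) hq1 hq (by norm_num)
      rw [padicValNat.eq_zero_of_not_dvd (show ¬ 3 ∣ 2 by norm_num)] at e4
      rw [show padicValNat 3 3 = 1 by simp] at e6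
      simp only [Nat.reduceMul] at e4 e6
      have n2 := hne 2 (by norm_num)
      have n3 := hne' 3
      have n4 := hne 4 (by norm_num)
      have n5 := hne' 5
      have n6 := hne 6 (by norm_num)
      have n7 := hne' 7
      rw [hg, padicValNat.mul (hp _) (Finset.prod_ne_zero_iff.2 fun j _ => hfac j), v_pow_zero hq] at hv
      rcases hn67 with rfl | rfl
      · rw [show 6 - 1 = 5 by norm_num, prod_six,
          padicValNat.mul (mul_ne_zero (mul_ne_zero (mul_ne_zero n2 n3) n4) n5) n6,
          padicValNat.mul (mul_ne_zero (mul_ne_zero n2 n3) n4) n5, padicValNat.mul (mul_ne_zero n2 n3) n4,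
          padicValNat.mul n2 n3] at hv
        omega
      · rw [show 7 - 1 = 5 + 1 by norm_num, Finset.prod_range_succ, prod_six, if_neg (by decide),
          padicValNat.mul (mul_ne_zero (mul_ne_zero (mul_ne_zero (mul_ne_zero n2 n3) n4) n5) n6) n7,
          padicValNat.mul (mul_ne_zero (mul_ne_zero (mul_ne_zero n2 n3) n4) n5) n6,
          padicValNat.mul (mul_ne_zero (mul_ne_zero n2 n3) n4) n5, padicValNat.mul (mul_ne_zero n2 n3) n4,
          padicValNat.mul n2 n3, e7] at hv
        omega
  · -- `q ≡ 2`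
    have h1 := h.le_of (psu_val_two (F := F) hF (n := n) (by omega) hq3)
    have hn6 : n ≤ 6 := by
      by_contra hcon
      have := vf_six (n := n) (by omega)
      omega
    by_cases hn5 : 5 ≤ n
    · have hq2 : q = 2 := by
        obtain ⟨k, rfl⟩ : ∃ k, n = k + 2 := ⟨n - 2, by omega⟩
        have h2 := h.pair (psuPair hF (k := k) (l := 2) (by omega) (by norm_num) (by omega)) (dvd_su_three hF hq3 (by omega))
        have h3 := q_of_su_two hF h2
        simp only [List.mem_cons, List.not_mem_nil, or_false] at h3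
        omega
      have hn56 : n = 5 ∨ n = 6 := by omega
      rcases hn56 with rfl | rfl
      · exfalso
        have hF2 : Fact (Nat.Prime 2) := ⟨Nat.prime_two⟩
        subst hq2
        have h2 := Cfsg.Agent.S0815.result (F := F) 2 1 le_rfl (by rw [pow_one]) hF 5 (by norm_num) (fun h => by omega)
        have h3 := h.aut
        rw [show 5 - 1 = 3 + 1 by norm_num] at hc
        have h4 : ∏ j ∈ Finset.range (3 + 1), (if Even j then 2 ^ (j + 2) - 1 else 2 ^ (j + 2) + 1) = 3 * 9 * 15 * 33 := by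
          decide +kernel
        rw [h4] at hc
        norm_num at hc
        rw [h2, hc] at h3
        revert h3
        decide +kernel
      · exact ⟨rfl, hq2⟩
    · exfalso
      have hn34 : n = 3 ∨ n = 4 := by omega
      have e3 := v_two hq1 hq3 (show Odd 3 by decide)
      have e4 := v_even (k := 2) hq1 hq (by norm_num)
      rw [padicValNat.eq_zero_of_not_dvd (show ¬ 3 ∣ 2 by norm_num)] at e4
      rw [show padicValNat 3 3 = 1 by simp] at e3
      simp only [Nat.reduceMul] at e4
      have n2 := hne 2 (by norm_num)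
      have n3 := hne' 3
      have n4 := hne 4 (by norm_num)
      rw [padicValNat.mul (hp _) (Finset.prod_ne_zero_iff.2 fun j _ => hfac j), v_pow_zero hq] at hv
      rcases hn34 with rfl | rfl
      · rw [show 3 - 1 = 1 + 1 by norm_num, Finset.prod_range_succ, Finset.prod_range_one, if_pos (by decide),
          if_neg (by decide), show 0 + 2 = 2 by norm_num, show 1 + 2 = 3 by norm_num, padicValNat.mul n2 n3, e3] at hv
        have hg : Nat.gcd 3 (q + 1) = 3 := Nat.gcd_eq_left (by omega)
        have e1 : padicValNat 3 3 = 1 := by simp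
        rw [hg, e1] at hv
        rcases hvv with h5 | h6
        · omega
        · have := h.six_le (hasAb_psu h3F 3 q) (h.six_of_vv h6)
          omega
      · have hg : padicValNat 3 (Nat.gcd 4 (q + 1)) = 0 := by
          apply padicValNat.eq_zero_of_not_dvd
          intro h'
          have := h'.trans (Nat.gcd_dvd_left _ _)
          omega
        rw [show 4 - 1 = 1 + 1 + 1 by norm_num, Finset.prod_range_succ, Finset.prod_range_succ, Finset.prod_range_one,
          if_pos (by decide), if_neg (by decide), if_pos (by decide), show 0 + 2 = 2 by norm_num,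
          show 1 + 2 = 3 by norm_num, show 1 + 1 + 2 = 4 by norm_num, padicValNat.mul (mul_ne_zero n2 n3) n4,
          padicValNat.mul n2 n3, e3, e4, hg] at hv
        omega

/-! ### symplectic groups -/

theorem psp_cross {m : ℕ} (hm : 2 ≤ m) (hq : ¬ 3 ∣ Fintype.card F) (h : E3 (PSp m F)) : False := by
  have hF3 : Fact (Nat.Prime 3) := ⟨Nat.prime_three⟩
  have hq1 : 1 < Fintype.card F := Fintype.one_lt_card
  have h3F : ((3 : ℕ) : F) ≠ 0 := three_ne_zero' hq
  have hc := card_psp (F := F) (m := m) (by omega)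
  have hX : Nat.card (PSp m F) ≠ 0 := by
    have := h.fin
    exact Nat.card_pos.ne'
  have hd : Nat.gcd 2 (Fintype.card F - 1) ≠ 0 := (Nat.gcd_pos_of_pos_left _ (by omega)).ne'
  have hv := v_of hd hX hc
  have hvv := h.vv
  have hne : ∀ j, j ≠ 0 → Fintype.card F ^ j - 1 ≠ 0 := fun j hj => pow_sub_ne hq1 hj
  have hp : ∀ j, Fintype.card F ^ j ≠ 0 := fun j => (pow_pos (by omega) j).ne'
  have h1 := h.le_of (psp_val (F := F) (m := m) (by omega) hq)
  have h3 := h.three_le (hasAb_psp (by norm_num) h3F m)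
  have hm6 : m ≤ 5 := by
    by_contra hcon
    have := vf_six (n := m) (by omega)
    omega
  by_cases hm4 : 4 ≤ m
  · have hq2 : Fintype.card F = 2 := by
      obtain ⟨k, rfl⟩ : ∃ k, m = k + 1 := ⟨m - 1, by omega⟩
      have h2 := h.pair (Blk.pspPair F (k := k) (l := 1) (by omega) (by norm_num)) (dvd_sp_three hq (by omega))
      rw [Cfsg.Agent.S0245.result (F := F) rfl 1] at h2
      have h4 : Fintype.card F * (Fintype.card F ^ 2 - 1) ∣ 2 * N0 := by
        refine Dvd.dvd.mul_left ?_ _
        simpa using h2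
      have h3 := qlist0 Fintype.isPrimePow_card_of_field h4
      simp only [List.mem_cons, List.not_mem_nil, or_false] at h3
      omega
    have hm45 : m = 4 ∨ m = 5 := by omega
    rcases hm45 with rfl | rfl
    · have hF2 : Fact (Nat.Prime 2) := ⟨Nat.prime_two⟩
      have h2 := Cfsg.Agent.S0814.result (F := F) 2 1 le_rfl (by rw [hq2, pow_one]) 4 (by norm_num) (fun h => by omega)
      have h3 := h.aut
      rw [hq2] at hc
      have h4 : ∏ i ∈ Finset.range 4, (2 ^ (2 * (i + 1)) - 1) = 3 * 15 * 63 * 255 := by decide +kernel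
      rw [h4] at hc
      norm_num at hc
      rw [h2, hc] at h3
      revert h3
      norm_num
    · have h2 := h.pair (Blk.pspPair F (k := 3) (l := 2) (by norm_num) (by norm_num)) (dvd_sp_three hq (by norm_num))
      rw [Cfsg.Agent.S0245.result (F := F) rfl 2, hq2] at h2
      revert h2
      decide +kernel
  · have : m = 3 := by omega
    subst this
    have e4 := v_even (k := 2) hq1 hq (by norm_num)
    have e6 := v_even (k := 3) hq1 hq (by norm_num)
    rw [padicValNat.eq_zero_of_not_dvd (show ¬ 3 ∣ 2 by norm_num)] at e4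
    rw [show padicValNat 3 3 = 1 by simp] at e6
    simp only [Nat.reduceMul] at e4 e6
    have n2 := hne 2 (by norm_num)
    have n4 := hne 4 (by norm_num)
    have n6 := hne 6 (by norm_num)
    have hg : padicValNat 3 (Nat.gcd 2 (Fintype.card F - 1)) = 0 := by
      apply padicValNat.eq_zero_of_not_dvd
      intro h'
      have := h'.trans (Nat.gcd_dvd_left _ _)
      omega
    rw [hg, padicValNat.mul (hp _) (Finset.prod_ne_zero_iff.2 fun j _ => hne _ (by omega)), v_pow_zero hq,
      Finset.prod_range_succ, Finset.prod_range_succ, Finset.prod_range_one, show 2 * (0 + 1) = 2 by norm_num,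
      show 2 * (1 + 1) = 4 by norm_num, show 2 * (2 + 1) = 6 by norm_num, padicValNat.mul (mul_ne_zero n2 n4) n6,
      padicValNat.mul n2 n4] at hv
    omega

end Fin

end Cfsg.Agent.H351.OE
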