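import Cfsg.Agent.H351.OE.CharT
import Cfsg.Agent.H631.TwF4Nine
import Cfsg.Agent.KFacts.TwF4.Full

/-!
# S3372: the groups `²F₄(q)`
-/

set_option autoImplicit false
set_option linter.unusedSectionVars false
set_option linter.unusedVariables false

namespace Cfsg.Agent.H351.OE.TwF

open Subgroup Cfsg Cfsg.Lie Matrix Cfsg.Agent.H631.TwF4Nine Cfsg.Agent.OrdDiv
open Cfsg.Agent.ChevalleyStructure Cfsg.Agent.ChevalleyStructure.Elts
open Cfsg.Agent.ChevalleyStructure.SL2Rep Cfsg.Agent.ChevalleyStructure.SL2Hom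
open Cfsg.Agent.ETable.Exc Cfsg.Agent.GpExc
open Cfsg.Agent.ChevalleyStructure.TwF4.TwistedFix Cfsg.Agent.KFacts.TwF4
open Cfsg.Agent.Octagon.KRel Cfsg.Agent.Octagon.KSys

variable {K : Type*} [Field K] [Fintype K] [CharP K 2] {m : ℕ} {φ : K →+* K}

theorem torus_pow (hφ : Rln φ (2 ^ m)) (c d : Kˣ) : (Inst.hT hφ c d) ^ (Fintype.card K - 1) = 1 := by
  classical
  obtain ⟨s, t, h, -, -⟩ := Inst.hT_spec hφ c d
  apply Subtype.ext
  rw [Subgroup.coe_pow, h, ← map_pow]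
  have h1 : (Cfsg.Agent.ChevalleyStructure.TwF4.TwGen.tc (2 ^ m) s t) ^ (Fintype.card K - 1) = 1 := by
    funext i
    rw [Pi.pow_apply, Pi.one_apply, ← Fintype.card_units, pow_card_eq_one]
  rw [h1, map_one]
  rfl

theorem torus_comm (hφ : Rln φ (2 ^ m)) (c : Kˣ) (g : SpecialLinearGroup (Fin 2) K) :
    (Inst.hT hφ c c⁻¹ : GL chevF4.Idx K) * Phi K m g = Phi K m g * Inst.hT hφ c c⁻¹ := by
  have hg := mem_closure_SL2 g
  have h0 : ∀ x, (Inst.hT hφ c c⁻¹) * Inst.ro hφ 0 x = Inst.ro hφ 0 x * (Inst.hT hφ c c⁻¹) := by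
    intro x
    have h1 := Inst.hT_ro hφ c c⁻¹ 0 x
    have h2 : chO φ 0 c c⁻¹ = 1 := by
      show c * c⁻¹ = 1
      exact mul_inv_cancel c
    rw [h2, Units.val_one, one_mul] at h1
    exact mul_inv_eq_iff_eq_mul.1 h1
  have h4 : ∀ x, (Inst.hT hφ c c⁻¹) * Inst.ro hφ 4 x = Inst.ro hφ 4 x * (Inst.hT hφ c c⁻¹) := by
    intro x
    have h1 := Inst.hT_ro hφ c c⁻¹ 4 x
    have h2 : chO φ 4 c c⁻¹ = 1 := by
      show c⁻¹ * c⁻¹⁻¹ = 1
      exact mul_inv_cancel c⁻¹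
    rw [h2, Units.val_one, one_mul] at h1
    exact mul_inv_eq_iff_eq_mul.1 h1
  induction hg using Subgroup.closure_induction with
  | mem x hx =>
    rcases hx with ⟨t, rfl⟩ | ⟨t, rfl⟩
    · have h1 : Phi K m (up t) = (Inst.ro hφ 0 (t ^ 2 ^ m) : GL chevF4.Idx K) := by
        rw [Phi_apply, Rank.map_up, psi_up, psi_up, iterateFrobenius_def, xG_eq, xG_eq]
        show _ = TwF4.Rel.X 33 (t ^ 2 ^ m) * TwF4.Rel.X 24 (φ (t ^ 2 ^ m))
        rw [hφ.phi_pow]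
      rw [h1]
      exact congrArg Subtype.val (h0 _)
    · have h1 : Phi K m (lo t) = (Inst.ro hφ 4 (t ^ 2 ^ m) : GL chevF4.Idx K) := by
        rw [Phi_apply, Rank.map_lo, psi_lo, psi_lo, iterateFrobenius_def, xG_eq, xG_eq, neg24, neg33]
        show _ = TwF4.Rel.X 14 (t ^ 2 ^ m) * TwF4.Rel.X 23 (φ (t ^ 2 ^ m))
        rw [hφ.phi_pow]
      rw [h1]
      exact congrArg Subtype.val (h4 _)
  | one => rw [map_one, mul_one, one_mul]
  | mul x y _ _ hx hy =>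
    rw [map_mul, ← mul_assoc, hx, mul_assoc, hy, mul_assoc]
  | inv x _ hx =>
    rw [map_inv]
    exact (Commute.inv_right (show Commute _ _ from hx)).eq

theorem elim_tf4 (T : OrderTable.{0}) {F : Type} [Field F] [Fintype F] {m : ℕ} (hm : 1 ≤ m)
    (hF : Fintype.card F = 2 ^ (2 * m + 1)) (h : E3 (twistedF4 F (2 ^ m))) : False := by
  classical
  have hfin := h.fin
  have : CharP F 2 := by
    have : Fact (Nat.Prime 2) := ⟨Nat.prime_two⟩
    exact charP_of_card_eq_prime_pow hF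
  obtain ⟨φ, hφ⟩ := exists_rln hF
  have hq3 : 2 ^ (2 * m + 1) % 3 = 2 := by
    rw [pow_succ, pow_mul, Nat.mul_mod, Nat.pow_mod]; norm_num
  -- `9 ∣ q + 1`
  have h9 : 9 ∣ 2 ^ (2 * m + 1) + 1 := by
    have h5 := h.d5
    rw [T.tf4 F m hm hF] at h5
    generalize 2 ^ (2 * m + 1) = q at hq3 h5
    by_contra hn
    obtain ⟨y, hy⟩ : ∃ y, q = 3 * y + 2 := ⟨q / 3, by omega⟩
    have hy1 : ¬ 3 ∣ y + 1 := by
      rintro ⟨k, hk⟩
      exact hn ⟨k, by omega⟩
    have e1 : q ^ 3 + 1 = (3 * (y + 1)) * (3 * (3 * (y * y) + 3 * y + 1)) := by rw [hy]; ring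
    have e2 : q ^ 4 - 1 = (3 * (y + 1)) * ((3 * y + 1) * (9 * (y * y) + 12 * y + 5)) := by
      have : q ^ 4 = (3 * (y + 1)) * ((3 * y + 1) * (9 * (y * y) + 12 * y + 5)) + 1 := by rw [hy]; ring
      rw [this]; simp
    have e3 : q - 1 = 3 * y + 1 := by omega
    have e4 : q ^ 12 * (q - 1) * (q ^ 3 + 1) * (q ^ 4 - 1) * (q ^ 6 + 1) =
        3 ^ 3 * ((y + 1) ^ 2 * (q ^ 12 * (3 * y + 1) ^ 2 * (3 * (y * y) + 3 * y + 1) *
        (9 * (y * y) + 12 * y + 5) * (q ^ 6 + 1))) := by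
      rw [e1, e2, e3]; ring
    rw [e4, show (3 : ℕ) ^ 5 = 3 ^ 3 * 3 ^ 2 by norm_num] at h5
    have h6 := (dvd_pow_self 3 (show 2 ≠ 0 by norm_num)).trans (Nat.dvd_of_mul_dvd_mul_left (by norm_num) h5)
    have n1 : ¬ 3 ∣ (y + 1) ^ 2 := fun h => hy1 (Nat.prime_three.dvd_of_dvd_pow h)
    have a1 : ¬ 3 ∣ q ^ 12 := fun h => by
      have := Nat.prime_three.dvd_of_dvd_pow h; omega
    have a2 : ¬ 3 ∣ (3 * y + 1) ^ 2 := fun h => by
      have := Nat.prime_three.dvd_of_dvd_pow h; omega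
    have a3 : ¬ 3 ∣ 3 * (y * y) + 3 * y + 1 := by omega
    have a4 : ¬ 3 ∣ 9 * (y * y) + 12 * y + 5 := by omega
    have a5 : ¬ 3 ∣ q ^ 6 + 1 := by
      have h1 : q ^ 6 % 3 = 1 := by
        rw [Nat.pow_mod, hq3]
      omega
    rcases (Nat.Prime.dvd_mul Nat.prime_three).mp h6 with h | h
    · exact n1 h
    rcases (Nat.Prime.dvd_mul Nat.prime_three).mp h with h | h
    · rcases (Nat.Prime.dvd_mul Nat.prime_three).mp h with h | h
      · rcases (Nat.Prime.dvd_mul Nat.prime_three).mp h with h | h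
        · rcases (Nat.Prime.dvd_mul Nat.prime_three).mp h with h | h
          · exact a1 h
          · exact a2 h
        · exact a3 h
      · exact a4 h
    · exact a5 h
  -- an element of order nine
  obtain ⟨k, hk⟩ := three_dvd h9
  have h7 : 7 ∣ Fintype.card Fˣ := by
    rw [Fintype.card_units, hF, hk, pow_mul]
    have h8 := Nat.sub_dvd_pow_sub_pow (2 ^ 3) 1 k
    rw [one_pow] at h8
    exact h8
  have : Fact (Nat.Prime 7) := ⟨by norm_num⟩
  obtain ⟨z, hz⟩ := exists_prime_orderOf_dvd_card 7 h7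
  have hz7 : z ^ 7 = 1 := by rw [← hz]; exact pow_orderOf_eq_one z
  have hz7' : (z : F) ^ 7 = 1 := by rw [← Units.val_pow_eq_pow_val, hz7, Units.val_one]
  have hz1 : z ≠ 1 := by
    rintro rfl
    rw [orderOf_one] at hz
    norm_num at hz
  obtain ⟨t, ht⟩ := exists_t hz7' (fun h => hz1 (Units.ext h))
  have h2 : (2 : F) = 0 := CharTwo.two_eq_zero
  obtain ⟨y, hy⟩ : ∃ y : twistedF4 F (2 ^ m), y = ⟨Phi F m (gg t), Phi_mem F m _⟩ := ⟨_, rfl⟩
  have hy9 : y ^ 9 = 1 := by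
    rw [hy]
    apply Subtype.ext
    show (Phi F m (gg t)) ^ 9 = 1
    rw [← map_pow, gg_nine h2 ht, map_one]
  have hy3 : y ^ 3 ≠ 1 := by
    rw [hy]
    intro h
    have h3 : (Phi F m (gg t)) ^ 3 = 1 := congrArg Subtype.val h
    rw [← map_pow, ← map_one (Phi F m)] at h3
    exact gg_three_ne h2 ht (Phi_injective F m h3)
  have ho : orderOf y = 9 := by
    have hF3 : Fact (Nat.Prime 3) := ⟨Nat.prime_three⟩
    have := orderOf_eq_prime_pow (p := 3) (n := 1) (x := y) (by simpa using hy3) (by simpa using hy9)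
    simpa using this
  have hc := h.c9 y ho
  -- the torus
  have h8 : Inst.hT hφ z z⁻¹ ∈ centralizer ({y} : Set (twistedF4 F (2 ^ m))) := by
    rw [mem_centralizer_singleton_iff]
    apply Subtype.ext
    rw [hy]
    exact torus_comm hφ z (gg t)
  have h10 : orderOf (Inst.hT hφ z z⁻¹) ∣ N0 := (Subgroup.orderOf_dvd_natCard _ h8).trans hc
  have h11 : orderOf (Inst.hT hφ z z⁻¹) ∣ 2 ^ (2 * m + 1) - 1 := by
    rw [← hF]; exact orderOf_dvd_of_pow_eq_one (torus_pow hφ z z⁻¹)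
  have h12 : Nat.Coprime (2 ^ (2 * m + 1) - 1) N0 := by
    have h13 : N0 = 2 ^ 4 * 3 ^ 6 := by decide
    rw [h13]
    apply Nat.Coprime.mul_right
    · apply Nat.Coprime.pow_right
      rw [Nat.coprime_two_right]
      have : 2 ^ (2 * m + 1) = 2 * 2 ^ (2 * m) := by rw [pow_succ, mul_comm]
      have h0 : 0 < 2 ^ (2 * m) := by positivity
      rw [this]
      exact Nat.odd_iff.2 (by omega)
    · apply Nat.Coprime.pow_right
      rw [Nat.coprime_comm, Nat.Prime.coprime_iff_not_dvd Nat.prime_three]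
      omega
  have h14 : orderOf (Inst.hT hφ z z⁻¹) = 1 := Nat.eq_one_of_dvd_coprimes h12 h11 h10
  have h15 : Inst.hT hφ z z⁻¹ = 1 := orderOf_eq_one_iff.1 h14
  -- it acts non-trivially on a root group
  have h16 := Inst.hT_re hφ z z⁻¹ 0 1 0
  rw [h15, one_mul, inv_one, mul_one] at h16
  have h17 := ((Inst.sys hφ).injE 0 _ _ _ _ h16).1
  rw [mul_one] at h17
  exact hz1 (Units.ext h17.symm)

end Cfsg.Agent.H351.OE.TwF
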