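import Cfsg.Agent.H351.OE.Kill
import Cfsg.Agent.S0277
import Cfsg.Agent.S0279

/-!
# S3372: `PSU₆(2)`
-/

set_option autoImplicit false
set_option linter.unusedSectionVars false
set_option linter.unusedVariables false

namespace Cfsg.Agent.H351.OE.USix

open Matrix Cfsg Cfsg.Agent.Phan Subgroup

variable {F : Type*} [Field F] [Fintype F]

/-- the product of the determinants -/
def dd (F : Type*) [Field F] : (Cfsg.GU 3 F 2) × (Cfsg.GU 3 F 2) →* Fˣ :=
  ((GeneralLinearGroup.det.comp (Cfsg.GU 3 F 2).subtype).comp (MonoidHom.fst _ _)) *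
    ((GeneralLinearGroup.det.comp (Cfsg.GU 3 F 2).subtype).comp (MonoidHom.snd _ _))

theorem inj1 : Function.Injective (Fin.castAdd 3 : Fin 3 → Fin 6) := Fin.castAdd_injective 3 3
theorem inj2 : Function.Injective (Fin.natAdd 3 : Fin 3 → Fin 6) := Fin.natAdd_injective 3 3

theorem disj (i j : Fin 3) : (Fin.castAdd 3 i : Fin 6) ≠ Fin.natAdd 3 j := by
  intro h
  have := congrArg Fin.val h
  simp at this
  omega

/-- the block matrix -/
def bm (x : (Cfsg.GU 3 F 2) × (Cfsg.GU 3 F 2)) : Matrix (Fin 6) (Fin 6) F :=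
  extM (Fin.castAdd 3) x.1.1.1 * extM (Fin.natAdd 3) x.2.1.1

theorem bm_mul (x y : (Cfsg.GU 3 F 2) × (Cfsg.GU 3 F 2)) : bm (x * y) = bm x * bm y := by
  have h1 : bm (x * y) = extM (Fin.castAdd 3) (x.1.1.1 * y.1.1.1) * extM (Fin.natAdd 3) (x.2.1.1 * y.2.1.1) := rfl
  rw [h1, extM_mul inj1, extM_mul inj2]
  have h2 := extM_comm (F := F) (fun i j => disj i j) y.1.1.1 x.2.1.1
  calc _ = extM (Fin.castAdd 3) x.1.1.1 * (extM (Fin.castAdd 3) y.1.1.1 * extM (Fin.natAdd 3) x.2.1.1) *
        extM (Fin.natAdd 3) y.2.1.1 := by simp only [mul_assoc]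
    _ = _ := by rw [h2]; simp only [bm, mul_assoc]

theorem bm_one : bm (1 : (Cfsg.GU 3 F 2) × (Cfsg.GU 3 F 2)) = 1 := by
  have h1 : bm (1 : (Cfsg.GU 3 F 2) × (Cfsg.GU 3 F 2)) = extM (Fin.castAdd 3) 1 * extM (Fin.natAdd 3) 1 := rfl
  rw [h1, extM_one, extM_one, mul_one]

theorem bm_left (x : (Cfsg.GU 3 F 2) × (Cfsg.GU 3 F 2)) (v : Fin 6 → F) (i : Fin 3) :
    (bm x *ᵥ v) (Fin.castAdd 3 i) = (x.1.1.1 *ᵥ (v ∘ Fin.castAdd 3)) i := by
  have h2 := extM_comm (F := F) (fun i j => disj i j) x.1.1.1 x.2.1.1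
  rw [bm, ← Matrix.mulVec_mulVec, extM_mulVec inj1]
  congr 1
  have : (extM (Fin.natAdd 3) x.2.1.1 *ᵥ v) ∘ Fin.castAdd 3 = v ∘ Fin.castAdd 3 := by
    funext j
    exact extM_mulVec_of_notMem (fun k => disj j k) _ v
  rw [this]

theorem bm_right (x : (Cfsg.GU 3 F 2) × (Cfsg.GU 3 F 2)) (v : Fin 6 → F) (i : Fin 3) :
    (bm x *ᵥ v) (Fin.natAdd 3 i) = (x.2.1.1 *ᵥ (v ∘ Fin.natAdd 3)) i := by
  rw [bm, ← Matrix.mulVec_mulVec, extM_mulVec_of_notMem (fun k => (disj k i).symm), extM_mulVec inj2]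

/-- the embedding -/
def f (hF : Fintype.card F = 2 ^ 2) : (dd F).ker →* SU 6 F 2 where
  toFun x := mk (bm x.1) (by
    rw [bm, det_mul, extM_det inj1, extM_det inj2]
    have h := congrArg Units.val (MonoidHom.mem_ker.1 x.2)
    exact h) (by
    intro u v
    rw [bm, ← Matrix.mulVec_mulVec, ← Matrix.mulVec_mulVec]
    exact (extM_isom hF inj1 (A := x.1.1.1.1) x.1.1.2 _ _).trans (extM_isom hF inj2 (A := x.1.2.1.1) x.1.2.2 u v))
  map_one' := mat_inj (by rw [mat_mk, mat_one]; exact bm_one)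
  map_mul' a b := mat_inj (by rw [mat_mul, mat_mk, mat_mk, mat_mk]; exact bm_mul _ _)

theorem f_injective (hF : Fintype.card F = 2 ^ 2) : Function.Injective (f hF) := by
  rw [injective_iff_map_eq_one]
  intro x hx
  have h1 : bm x.1 = 1 := congrArg mat hx
  have h2 : ∀ w : Fin 3 → F, x.1.1.1.1 *ᵥ w = w := by
    intro w
    funext i
    have h3 := bm_left x.1 (Fin.append w (0 : Fin 3 → F)) i
    rw [h1, Matrix.one_mulVec] at h3
    have h4 : (Fin.append w (0 : Fin 3 → F)) ∘ Fin.castAdd 3 = w := by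
      funext j
      exact Fin.append_left w _ j
    rw [h4] at h3
    rw [← h3]
    exact congrFun h4 i
  have h3 : ∀ w : Fin 3 → F, x.1.2.1.1 *ᵥ w = w := by
    intro w
    funext i
    have h3 := bm_right x.1 (Fin.append (0 : Fin 3 → F) w) i
    rw [h1, Matrix.one_mulVec] at h3
    have h4 : (Fin.append (0 : Fin 3 → F) w) ∘ Fin.natAdd 3 = w := by
      funext j
      exact Fin.append_right _ w j
    rw [h4] at h3
    rw [← h3]
    exact congrFun h4 i
  apply Subtype.ext
  apply Prod.ext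
  · apply Subtype.ext
    apply Units.ext
    apply Matrix.mulVec_injective
    funext w
    rw [h2]
    exact (Matrix.one_mulVec w).symm
  · apply Subtype.ext
    apply Units.ext
    apply Matrix.mulVec_injective
    funext w
    rw [h3]
    exact (Matrix.one_mulVec w).symm

theorem main (hF : Fintype.card F = 2 ^ 2) : ∃ y : PSU 6 F 2, orderOf y = 3 ∧
    2 ^ 6 * 3 ^ 6 ∣ Nat.card (centralizer ({y} : Set (PSU 6 F 2))) := by
  classical
  have hfin : Finite (Cfsg.GU 3 F 2) := Cfsg.Agent.LieClassical.GUOrder.finite_GU 3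
  have hp3 : Fact (Nat.Prime 3) := ⟨Nat.prime_three⟩
  -- orders
  have h1 := Subgroup.card_mul_index (dd F).ker
  rw [Subgroup.index_ker] at h1
  have hr : Nat.card (dd F).range ∣ 3 := by
    have h2 := Subgroup.card_subgroup_dvd_card (dd F).range
    rwa [Nat.card_eq_fintype_card (α := Fˣ), Fintype.card_units, hF] at h2
  have hGU : Nat.card (Cfsg.GU 3 F 2) = 648 := by
    rw [Cfsg.Agent.S0277.result hF 3, Finset.prod_range_succ, Finset.prod_range_succ, Finset.prod_range_one,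
      if_pos (by decide), if_neg (by decide), if_pos (by decide)]
    norm_num
  rw [Nat.card_prod, hGU] at h1
  let ψ : (dd F).ker →* PSU 6 F 2 := (QuotientGroup.mk' (center (SU 6 F 2))).comp (f hF)
  have hk : Nat.card ψ.ker ∣ 3 := by
    let κ : ψ.ker →* center (SU 6 F 2) := ((f hF).comp ψ.ker.subtype).codRestrict _ (fun x => by
      have h2 : (QuotientGroup.mk' (center (SU 6 F 2))) (f hF x.1) = 1 := MonoidHom.mem_ker.1 x.2
      exact (QuotientGroup.eq_one_iff _).1 h2)
    have hκ : Function.Injective κ := by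
      intro a b hab
      exact Subtype.ext (f_injective hF (congrArg Subtype.val hab))
    have h2 := Subgroup.card_dvd_of_injective κ hκ
    rwa [Cfsg.Agent.S0279.result hF 6 (by norm_num)] at h2
  have h2 := Subgroup.card_mul_index ψ.ker
  rw [Subgroup.index_ker] at h2
  have hR : 2 ^ 6 * 3 ^ 6 ∣ Nat.card ψ.range := by
    obtain ⟨r, hr⟩ := hr
    obtain ⟨k, hk⟩ := hk
    have h3 : 648 * 648 * (k * r) = 9 * Nat.card ψ.range := by
      rw [← h1, ← h2]
      calc _ = (Nat.card ψ.ker * k) * (Nat.card (dd F).range * r) * Nat.card ψ.range := by ring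
        _ = _ := by rw [← hk, ← hr]
    refine Nat.dvd_of_mul_dvd_mul_left (show 0 < 9 by norm_num) ?_
    rw [← h3]
    exact ⟨k * r, by ring⟩
  -- the element
  obtain ⟨w, hw0, hw1⟩ : ∃ w : F, w ≠ 0 ∧ w ≠ 1 := by
    classical
    by_contra hcon
    push Not at hcon
    have h3 : Fintype.card F ≤ 2 := by
      have h4 : (Finset.univ : Finset F) ⊆ {0, 1} := by
        intro x _
        by_cases hx : x = 0
        · simp [hx]
        · simp [hcon x hx]
      exact (Finset.card_le_card h4).trans Finset.card_le_two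
    rw [hF] at h3
    norm_num at h3
  have hw3 : w ^ 3 = 1 := by
    have := FiniteField.pow_card_sub_one_eq_one w hw0
    rw [hF] at this
    exact this
  let a : Cfsg.GU 3 F 2 := ⟨Units.map (Matrix.scalar (Fin 3)).toMonoidHom (Units.mk0 w hw0), by
    intro u v
    change hermForm 3 F 2 (Matrix.scalar (Fin 3) w *ᵥ u) (Matrix.scalar (Fin 3) w *ᵥ v) = _
    rw [Matrix.scalar_apply, ← Matrix.smul_one_eq_diagonal, Matrix.smul_mulVec, Matrix.smul_mulVec, Matrix.one_mulVec,
      Matrix.one_mulVec]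
    simp only [hermForm, Pi.smul_apply, smul_eq_mul, mul_pow]
    refine Finset.sum_congr rfl fun i _ => ?_
    linear_combination (u i * v i ^ 2) * hw3⟩
  have ha : ∀ v : Fin 3 → F, a.1.1 *ᵥ v = w • v := by
    intro v
    change Matrix.scalar (Fin 3) w *ᵥ v = _
    rw [Matrix.scalar_apply, ← Matrix.smul_one_eq_diagonal, Matrix.smul_mulVec, Matrix.one_mulVec]
  have hadet : a.1.1.det = 1 := by
    change (Matrix.scalar (Fin 3) w).det = 1
    rw [Matrix.scalar_apply, Matrix.det_diagonal, Fin.prod_const, hw3]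
  have hacomm : ∀ b : Cfsg.GU 3 F 2, a * b = b * a := by
    intro b
    apply Subtype.ext
    apply Units.ext
    apply Matrix.mulVec_injective
    funext v
    change (a.1.1 * b.1.1) *ᵥ v = (b.1.1 * a.1.1) *ᵥ v
    rw [← Matrix.mulVec_mulVec, ← Matrix.mulVec_mulVec, ha, ha, Matrix.mulVec_smul]
  have ha3 : a ^ 3 = 1 := by
    apply Subtype.ext
    apply Units.ext
    apply Matrix.mulVec_injective
    funext v
    change (a.1.1 ^ 3) *ᵥ v = (1 : Matrix (Fin 3) (Fin 3) F) *ᵥ v
    rw [pow_succ, pow_two, ← Matrix.mulVec_mulVec, ← Matrix.mulVec_mulVec, ha, ha, ha, Matrix.one_mulVec, smul_smul,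
      smul_smul, ← pow_two, ← pow_succ, hw3, one_smul]
  let x : (dd F).ker := ⟨(a, 1), by
    rw [MonoidHom.mem_ker]
    apply Units.ext
    change a.1.1.det * (1 : Matrix (Fin 3) (Fin 3) F).det = 1
    rw [hadet, Matrix.det_one, mul_one]⟩
  refine ⟨ψ x, ?_, ?_⟩
  · apply orderOf_eq_prime
    · rw [← map_pow]
      have : x ^ 3 = 1 := by
        apply Subtype.ext
        apply Prod.ext
        · exact ha3
        · exact one_pow 3
      rw [this, map_one]
    · intro h3
      have h4 : f hF x ∈ center (SU 6 F 2) := (QuotientGroup.eq_one_iff _).1 h3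
      obtain ⟨c, -, -, hc⟩ := ClassicalGeometry.PSUAutBasic.exists_scalar_of_mem_center hF (by norm_num) h4
      have hc' : ∀ v, bm x.1 *ᵥ v = c • v := hc
      have h5 := congrFun (hc' (fun _ => 1)) (Fin.castAdd 3 (0 : Fin 3))
      have h6 := congrFun (hc' (fun _ => 1)) (Fin.natAdd 3 (0 : Fin 3))
      rw [bm_left] at h5
      rw [bm_right] at h6
      have h7 : x.1.1.1.1 *ᵥ ((fun _ => (1 : F)) ∘ Fin.castAdd 3) = w • ((fun _ => (1 : F)) ∘ Fin.castAdd 3) := ha _
      have h8 : x.1.2.1.1 *ᵥ ((fun _ => (1 : F)) ∘ Fin.natAdd 3) = ((fun _ => (1 : F)) ∘ Fin.natAdd 3) :=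
        Matrix.one_mulVec _
      rw [h7] at h5
      rw [h8] at h6
      simp at h5 h6
      exact hw1 (h5.trans h6.symm)
  · refine hR.trans (Subgroup.card_dvd_of_le ?_)
    rintro _ ⟨m, rfl⟩
    rw [mem_centralizer_singleton_iff, ← map_mul, ← map_mul]
    congr 1
    apply Subtype.ext
    apply Prod.ext
    · exact (hacomm _).symm
    · change m.1.2 * 1 = 1 * m.1.2
      rw [mul_one, one_mul]

theorem false_of (hF : Fintype.card F = 2 ^ 2) (h : E3 (PSU 6 F 2)) : False := by
  obtain ⟨y, hy, hd⟩ := main hF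
  have h1 := h.cen y hy ((Dvd.intro_left _ rfl).trans hd)
  have h2 := hd.trans h1
  revert h2
  decide +kernel

end Cfsg.Agent.H351.OE.USix
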