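import Cfsg.Agent.H351.OE.Alt
import Cfsg.Agent.H351.OE.Orth
import Cfsg.Agent.H351.OE.USix
import Cfsg.Agent.H351.OE.Exc
import Cfsg.Agent.H351.OE.TwF
import Cfsg.Agent.H351.OE.Spor

/-!
# S3372: the elimination
-/

set_option autoImplicit false
set_option linter.unusedSectionVars false
set_option linter.unusedVariables false

namespace Cfsg.Agent.H351.OE

open Subgroup Cfsg Cfsg.Agent.OrdDiv

universe u

/-- the sporadic groups which are not eliminated by their order -/
def surv : List Grp := [.j3, .mcl, .co2, .hn]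

/-- **the elimination** -/
theorem elim (T : OrderTable.{0}) (T' : OrderTable.{u}) {L : Type u} [Group L] (hK : IsKnownSimple' L) (h : E3 L) :
    ∃ (F : Type) (_ : Field F) (_ : Fintype F), Fintype.card F = 2 ∧
      Nonempty (L ≃* POmega F (quadFormPlus 4 F)) := by
  have spor_case : ∀ g : Grp, g ∈ spor.map (fun x => x.1) → Real g L → g ∈ surv := by
    intro g hg hr
    obtain ⟨x, hx, rfl⟩ := List.mem_map.1 hg
    have h1 := T'.spor L x hx hr
    have key : ∀ x ∈ spor, x.1 ∈ surv ∨ ¬ 3 ^ 5 ∣ x.2 ∨ 3 ^ 7 ∣ x.2 := by decide +kernel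
    rcases key x hx with h2 | h2 | h2
    · exact h2
    · exact absurd (h1 ▸ h.d5) h2
    · exact absurd (h1.symm ▸ h2) h.n7
  rcases hK with h0 | h0 | h0 | h0 | h0 | h0 | h0 | h0 | h0 | h0
  · exfalso
    have h1 : 3 ∣ Nat.card L := (Dvd.intro_left (3 ^ 4) (by norm_num)).trans h.d5
    have h2 : Nat.card L = 3 := ((Nat.prime_dvd_prime_iff_eq Nat.prime_three h0).mp h1).symm
    have h3 := h.d5
    rw [h2] at h3
    norm_num at h3
  · obtain ⟨n, hn, ⟨e⟩⟩ := h0
    exact (elim_alt hn (h.congr e)).elim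
  · exfalso
    obtain ⟨F, _, _, n, hn, hn2, ⟨e⟩⟩ := h0
    by_cases h3 : 3 ∣ Fintype.card F
    · exact psl_char hn h3 (h.congr e)
    rcases Nat.eq_or_lt_of_le hn with rfl | hn3
    · exact psl_two_cross h3 (h.congr e)
    · exact psl_cross hn3 h3 (h.congr e)
  · exfalso
    obtain ⟨F, _, _, n, hn, hn2, ⟨e⟩⟩ := h0
    by_cases h3 : 3 ∣ Fintype.card F
    · exact psp_char hn h3 (h.congr e)
    · exact psp_cross hn h3 (h.congr e)
  · exfalso
    obtain ⟨F, _, _, n, q, hF, hn, hn2, ⟨e⟩⟩ := h0
    by_cases h3 : 3 ∣ q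
    · exact psu_char hF hn h3 (h.congr e)
    · obtain ⟨rfl, rfl⟩ := psu_cross hF hn h3 (h.congr e)
      exact USix.false_of hF (h.congr e)
  · exfalso
    obtain ⟨F, _, _, n, hn, ho, ⟨e⟩⟩ := h0
    by_cases h3 : 3 ∣ Fintype.card F
    · exact oodd_char hn ho h3 (h.congr e)
    · exact oodd_cross hn ho h3 (h.congr e)
  · obtain ⟨F, _, _, n, hn, ⟨e⟩⟩ := h0
    by_cases h3 : 3 ∣ Fintype.card F
    · exact (oplus_char hn h3 (h.congr e)).elim
    · obtain ⟨rfl, h1⟩ := oplus_cross hn h3 (h.congr e)
      exact ⟨F, inferInstance, inferInstance, h1, ⟨e⟩⟩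
  · exfalso
    obtain ⟨F, _, _, n, a, b, hn, hab, ⟨e⟩⟩ := h0
    by_cases h3 : 3 ∣ Fintype.card F
    · exact ominus_char hn hab h3 (h.congr e)
    · exact ominus_cross hn hab h3 (h.congr e)
  · exfalso
    rcases h0 with h0 | h0 | h0 | h0 | h0 | h0 | h0 | h0 | h0 | h0 | h0
    · -- G2
      obtain ⟨F, _, _, hq, ⟨e⟩⟩ := h0
      exact elim_g2 T hq (h.congr e)
    · -- F4
      obtain ⟨F, _, _, ⟨e⟩⟩ := h0
      exact elim_f4 T (h.congr e)
    · -- E6
      obtain ⟨F, _, _, ⟨e⟩⟩ := h0
      exact elim_e6 T (h.congr e)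
    · -- E7
      obtain ⟨F, _, _, ⟨e⟩⟩ := h0
      exact elim_e7 T (h.congr e)
    · -- E8
      obtain ⟨F, _, _, ⟨e⟩⟩ := h0
      exact elim_e8 T (h.congr e)
    · -- 2E6
      obtain ⟨F, _, _, q, hq, hF, ⟨e⟩⟩ := h0
      exact elim_te6 T hq hF (h.congr e)
    · -- 3D4
      obtain ⟨F, _, _, q, hq, hF, ⟨e⟩⟩ := h0
      exact elim_td4 T hq hF (h.congr e)
    · -- Sz
      obtain ⟨F, _, _, m, hm, hF, ⟨e⟩⟩ := h0
      have h2 := h.congr e
      have h5 := T.sz F m hm hF
      have h6 := h2.d5
      rw [h5] at h6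
      have h7 : 2 ^ (2 * m + 1) % 3 = 2 := by
        rw [pow_succ, pow_mul, Nat.mul_mod, Nat.pow_mod]; norm_num
      generalize 2 ^ (2 * m + 1) = q at *
      have h8 : 3 ∣ q ^ 2 * (q - 1) * (q ^ 2 + 1) := (Dvd.intro_left (3 ^ 4) (by norm_num)).trans h6
      rcases (Nat.Prime.dvd_mul Nat.prime_three).mp h8 with h | h
      · rcases (Nat.Prime.dvd_mul Nat.prime_three).mp h with h | h
        · have := Nat.prime_three.dvd_of_dvd_pow h
          omega
        · omega
      · have : q ^ 2 % 3 = 1 := by rw [Nat.pow_mod, h7]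
        omega
    · -- Ree
      obtain ⟨F, _, _, m, hm, hF, ⟨e⟩⟩ := h0
      have h2 := h.congr e
      apply h2.n7
      rw [T.ree F m hm hF, ← pow_mul]
      exact ((pow_dvd_pow 3 (by omega)).mul_right _).mul_right _
    · -- 2F4
      obtain ⟨F, _, _, m, hm, hF, ⟨e⟩⟩ := h0
      exact TwF.elim_tf4 T hm hF (h.congr e)
    · exact absurd (spor_case .tits (by decide) h0) (by decide)
  · exfalso
    rcases h0 with h0 | h0 | h0 | h0 | h0 | h0 | h0 | h0 | h0 | h0 | h0 | h0 | h0 | h0 | h0 | h0 | h0 | h0 | h0 | h0 | h0 | h0 | h0 | h0 | h0 | h0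
    · exact absurd (spor_case .m11 (by decide) h0) (by decide)
    · exact absurd (spor_case .m12 (by decide) h0) (by decide)
    · exact absurd (spor_case .m22 (by decide) h0) (by decide)
    · exact absurd (spor_case .m23 (by decide) h0) (by decide)
    · exact absurd (spor_case .m24 (by decide) h0) (by decide)
    · exact absurd (spor_case .j1 (by decide) h0) (by decide)
    · exact absurd (spor_case .j2 (by decide) h0) (by decide)
    · exact elim_j3 h h0 (by rw [T'.spor L (.j3, 50232960) (by decide) h0]; decide)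
    · exact absurd (spor_case .j4 (by decide) h0) (by decide)
    · exact absurd (spor_case .co1 (by decide) h0) (by decide)
    · exact elim_co2 h h0
    · exact absurd (spor_case .co3 (by decide) h0) (by decide)
    · exact elim_mcl h h0
    · exact absurd (spor_case .hs (by decide) h0) (by decide)
    · exact absurd (spor_case .suz (by decide) h0) (by decide)
    · exact absurd (spor_case .he (by decide) h0) (by decide)
    · exact absurd (spor_case .ru (by decide) h0) (by decide)
    · exact absurd (spor_case .on (by decide) h0) (by decide)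
    · exact absurd (spor_case .ly (by decide) h0) (by decide)
    · exact absurd (spor_case .fi22 (by decide) h0) (by decide)
    · exact absurd (spor_case .fi23 (by decide) h0) (by decide)
    · exact absurd (spor_case .fi24 (by decide) h0) (by decide)
    · exact elim_hn h h0 (by rw [T'.spor L (.hn, 273030912000000) (by decide) h0]; decide)
    · exact absurd (spor_case .th (by decide) h0) (by decide)
    · exact absurd (spor_case .b (by decide) h0) (by decide)
    · exact absurd (spor_case .m (by decide) h0) (by decide)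

end Cfsg.Agent.H351.OE
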