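import Mathlib

/-!
# S3372: an extraspecial group of order `3^5` and an involution acting on it

* `Ex Q z` : `Q` is extraspecial of order `3 ^ 5`, exponent three, centre `⟨z⟩`.
* `Tt Q z t` : the involution `t` normalises `Q` and centralises `z`.
* `two Q t = C_Q(t)`, `one Q t = C_Q(two Q t)` (the preimage of `[Q/Z, t]`).
-/

set_option autoImplicit false
set_option linter.unusedSectionVars false

namespace Cfsg.Agent.H351.OE

open Subgroup
open scoped commutatorElement

variable {G : Type*} [Group G]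

/-- `Q` is extraspecial of order `3 ^ 5` and exponent three with centre `⟨z⟩` -/
structure Ex (Q : Subgroup G) (z : G) : Prop where
  z1 : z ≠ 1
  zz : z ^ 3 = 1
  zQ : z ∈ Q
  card : Nat.card Q = 3 ^ 5
  exp : ∀ a ∈ Q, a ^ 3 = 1
  zc : ∀ a ∈ Q, a * z = z * a
  comm : ∀ a ∈ Q, ∀ b ∈ Q, ⁅a, b⁆ ∈ zpowers z
  cen : ∀ a ∈ Q, (∀ b ∈ Q, a * b = b * a) → a ∈ zpowers z

namespace Ex

variable {Q : Subgroup G} {z : G} (h : Ex Q z)

include h

theorem zle : zpowers z ≤ Q := by rw [zpowers_le]; exact h.zQ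

theorem order : orderOf z = 3 := orderOf_eq_prime h.zz h.z1

theorem card_z : Nat.card (zpowers z) = 3 := by rw [Nat.card_zpowers, h.order]

theorem comm_z {a c : G} (ha : a ∈ Q) (hc : c ∈ zpowers z) : a * c = c * a := by
  obtain ⟨i, rfl⟩ := hc
  have h1 : Commute a z := h.zc a ha
  exact (h1.zpow_right i).eq

theorem finite : Finite Q := Nat.finite_of_card_ne_zero (by rw [h.card]; norm_num)

theorem comm_mul {a b c : G} (ha : a ∈ Q) (hb : b ∈ Q) (hc : c ∈ Q) : ⁅a * b, c⁆ = ⁅a, c⁆ * ⁅b, c⁆ := by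
  have h1 : a * ⁅b, c⁆ = ⁅b, c⁆ * a := h.comm_z ha (h.comm b hb c hc)
  calc ⁅a * b, c⁆ = a * ⁅b, c⁆ * (c * a⁻¹ * c⁻¹) := by simp only [commutatorElement_def]; group
    _ = ⁅b, c⁆ * ⁅a, c⁆ := by rw [h1]; simp only [commutatorElement_def]; group
    _ = ⁅a, c⁆ * ⁅b, c⁆ := by
      have h2 := h.comm a ha c hc
      exact (h.comm_z (h.zle h2) (h.comm b hb c hc)).symm

theorem comm_mul' {a b c : G} (ha : a ∈ Q) (hb : b ∈ Q) (hc : c ∈ Q) : ⁅a, b * c⁆ = ⁅a, b⁆ * ⁅a, c⁆ := by
  rw [← inv_inj, commutatorElement_inv, h.comm_mul hb hc ha, mul_inv_rev, commutatorElement_inv, commutatorElement_inv]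
  exact (h.comm_z (h.zle (h.comm b hb a ha)) (h.comm c hc a ha))

/-- commutation with `x` -/
def cm {x : G} (hx : x ∈ Q) : Q →* zpowers z where
  toFun q := ⟨⁅(q : G), x⁆, h.comm q q.2 x hx⟩
  map_one' := by apply Subtype.ext; exact commutatorElement_one_left x
  map_mul' a b := by apply Subtype.ext; exact h.comm_mul a.2 b.2 hx

/-- the centralizer in `Q` of a noncentral element has order `81` -/
theorem card_cent {x : G} (hx : x ∈ Q) (hxz : x ∉ zpowers z) :
    Nat.card (Q ⊓ centralizer ({x} : Set G) : Subgroup G) = 81 := by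
  have := h.finite
  have hfz : Finite (zpowers z) := Nat.finite_of_card_ne_zero (by rw [h.card_z]; norm_num)
  have h1 : Nat.card (cm h hx).ker = Nat.card (Q ⊓ centralizer ({x} : Set G) : Subgroup G) := by
    refine Nat.card_congr
      { toFun := fun q => ⟨(q : Q), ⟨(q : Q).2, ?_⟩⟩
        invFun := fun q => ⟨⟨q, q.2.1⟩, ?_⟩
        left_inv := fun q => rfl
        right_inv := fun q => rfl }
    · have h2 := congrArg Subtype.val (MonoidHom.mem_ker.1 q.2)
      exact mem_centralizer_singleton_iff.2 (commutatorElement_eq_one_iff_mul_comm.1 h2)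
    · rw [MonoidHom.mem_ker]
      apply Subtype.ext
      exact commutatorElement_eq_one_iff_mul_comm.2 (mem_centralizer_singleton_iff.1 q.2.2)
  have h2 : Nat.card (cm h hx).range = 3 := by
    have h3 : Nat.card (cm h hx).range ∣ 3 := by
      have := Subgroup.card_subgroup_dvd_card (cm h hx).range
      rwa [h.card_z] at this
    rcases (Nat.dvd_prime Nat.prime_three).1 h3 with h4 | h4
    · exfalso
      apply hxz
      apply h.cen x hx
      intro b hb
      have h5 : (cm h hx) ⟨b, hb⟩ ∈ (cm h hx).range := ⟨_, rfl⟩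
      rw [Subgroup.card_eq_one.1 h4, mem_bot] at h5
      exact (commutatorElement_eq_one_iff_mul_comm.1 (congrArg Subtype.val h5)).symm
    · exact h4
  have h3 := Subgroup.card_mul_index (cm h hx).ker
  rw [Subgroup.index_ker, h2, h.card, h1] at h3
  omega

/-- abelian subgroups have order at most `27` -/
theorem card_abelian {A : Subgroup G} (hA : A ≤ Q) (hab : ∀ a ∈ A, ∀ b ∈ A, a * b = b * a) : Nat.card A ≤ 27 := by
  have := h.finite
  have hfz : Finite (zpowers z) := Nat.finite_of_card_ne_zero (by rw [h.card_z]; norm_num)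
  have hfA : Finite A := Finite.of_injective _ (Subgroup.inclusion_injective hA)
  by_contra hcon
  push Not at hcon
  have hd : Nat.card A ∣ 3 ^ 5 := by rw [← h.card]; exact Subgroup.card_dvd_of_le hA
  obtain ⟨k, hk, hk2⟩ := (Nat.dvd_prime_pow Nat.prime_three).1 hd
  have hk4 : 4 ≤ k := by
    by_contra h5
    have h6 : k ≤ 3 := by omega
    have := Nat.pow_le_pow_right (show 0 < 3 by norm_num) h6
    omega
  -- an element outside `A`
  have hAQ : A ≠ Q := by
    intro h5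
    have h6 : Q ≤ zpowers z := fun a ha => h.cen a ha (by rw [← h5] at ha ⊢; exact hab a ha)
    have h7 := Subgroup.card_dvd_of_le h6
    rw [h.card, h.card_z] at h7
    norm_num at h7
  obtain ⟨b, hbQ, hbA⟩ := SetLike.exists_of_lt (lt_of_le_of_ne hA hAQ)
  have hk5 : k = 4 := by
    have : k ≠ 5 := by
      rintro rfl
      exact hAQ (Subgroup.eq_of_le_of_card_ge hA (by rw [hk2, h.card]))
    omega
  -- the elements of `A` commuting with `b` are central
  have hsup : A ⊔ zpowers b = Q := by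
    have h5 : A ⊔ zpowers b ≤ Q := sup_le hA (by rw [zpowers_le]; exact hbQ)
    have h6 : A < A ⊔ zpowers b := by
      refine lt_of_le_of_ne le_sup_left ?_
      intro h7
      exact hbA (h7 ▸ mem_sup_right (mem_zpowers b))
    have h8 : Nat.card (A ⊔ zpowers b : Subgroup G) ∣ 3 ^ 5 := by rw [← h.card]; exact Subgroup.card_dvd_of_le h5
    obtain ⟨j, hj, hj2⟩ := (Nat.dvd_prime_pow Nat.prime_three).1 h8
    have hfS : Finite (A ⊔ zpowers b : Subgroup G) := Finite.of_injective _ (Subgroup.inclusion_injective h5)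
    have h9 : Nat.card A < Nat.card (A ⊔ zpowers b : Subgroup G) := by
      by_contra h10
      push Not at h10
      exact h6.ne (Subgroup.eq_of_le_of_card_ge h6.le h10)
    rw [hk2, hj2, hk5] at h9
    have h11 := (Nat.pow_lt_pow_iff_right (by norm_num : 1 < 3)).1 h9
    have : j = 5 := by omega
    exact Subgroup.eq_of_le_of_card_ge h5 (by rw [hj2, this, h.card])
  have hcz : A ⊓ centralizer ({b} : Set G) ≤ zpowers z := by
    rintro a ⟨ha, hab'⟩
    apply h.cen a (hA ha)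
    have h5 : Q ≤ centralizer ({a} : Set G) := by
      rw [← hsup]
      refine sup_le (fun c hc => mem_centralizer_singleton_iff.2 (hab c hc a ha)) ?_
      rw [zpowers_le]
      exact mem_centralizer_singleton_iff.2 (mem_centralizer_singleton_iff.1 hab').symm
    intro c hc
    exact (mem_centralizer_singleton_iff.1 (h5 hc)).symm
  -- count
  let f : A →* zpowers z := (cm h hbQ).comp (Subgroup.inclusion hA)
  have h5 : Nat.card f.ker ≤ 3 := by
    rw [← h.card_z]
    refine Nat.card_le_card_of_injective (fun a : f.ker => (⟨((a : A) : G), hcz ⟨(a : A).2, ?_⟩⟩ : zpowers z)) ?_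
    · have h6 := congrArg Subtype.val (MonoidHom.mem_ker.1 a.2)
      exact mem_centralizer_singleton_iff.2 (commutatorElement_eq_one_iff_mul_comm.1 h6)
    · intro a a' h6
      have h7 : ((a : A) : G) = ((a' : A) : G) := congrArg (fun c : zpowers z => (c : G)) h6
      exact Subtype.ext (Subtype.ext h7)
  have h6 : Nat.card f.range ≤ 3 := by
    rw [← h.card_z]; exact Nat.card_le_card_of_injective _ (Subtype.val_injective)
  have h7 := Subgroup.card_mul_index f.ker
  rw [Subgroup.index_ker, hk2, hk5] at h7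
  have := Nat.mul_le_mul h5 h6
  omega

end Ex

/-- centralisers in a nonabelian group of order `27` -/
theorem mem_of_comm27 {P : Subgroup G} (hP : Nat.card P = 27) {z x y : G} (hzo : orderOf z = 3) 
    (hz : z ∈ P) (hzc : ∀ p ∈ P, p * z = z * p) (hx : x ∈ P) (hxz : x ∉ zpowers z) (hx2 : ∃ p ∈ P, p * x ≠ x * p)
    (hy : y ∈ P) (hxy : y * x = x * y) : y ∈ zpowers x ⊔ zpowers z := by
  have hfP : Finite P := Nat.finite_of_card_ne_zero (by rw [hP]; norm_num)
  have h1 : zpowers x ⊔ zpowers z ≤ P ⊓ centralizer ({x} : Set G) := by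
    refine sup_le ?_ ?_
    · rw [zpowers_le]; exact ⟨hx, mem_centralizer_singleton_iff.2 rfl⟩
    · rw [zpowers_le]; exact ⟨hz, mem_centralizer_singleton_iff.2 (hzc x hx).symm⟩
  have h2 : P ⊓ centralizer ({x} : Set G) ≠ P := by
    intro h3
    obtain ⟨p, hp, hp2⟩ := hx2
    have h4 : p ∈ P ⊓ centralizer ({x} : Set G) := by rw [h3]; exact hp
    exact hp2 (mem_centralizer_singleton_iff.1 h4.2)
  have hfC : Finite (P ⊓ centralizer ({x} : Set G) : Subgroup G) :=
    Finite.of_injective _ (Subgroup.inclusion_injective (inf_le_left : P ⊓ centralizer ({x} : Set G) ≤ P))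
  have h3 : Nat.card (P ⊓ centralizer ({x} : Set G) : Subgroup G) ∣ 3 ^ 3 := by
    have := Subgroup.card_dvd_of_le (inf_le_left : P ⊓ centralizer ({x} : Set G) ≤ P)
    rw [hP] at this
    exact this
  obtain ⟨k, hk, hk2⟩ := (Nat.dvd_prime_pow Nat.prime_three).1 h3
  have hk3 : k ≤ 2 := by
    by_contra h4
    have : k = 3 := by omega
    exact h2 (Subgroup.eq_of_le_of_card_ge inf_le_left (by rw [hk2, this, hP]; norm_num))
  have h4 : Nat.card (P ⊓ centralizer ({x} : Set G) : Subgroup G) ≤ 9 := by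
    rw [hk2]
    exact Nat.pow_le_pow_right (by norm_num) hk3
  have hfE : Finite (zpowers x ⊔ zpowers z : Subgroup G) := Finite.of_injective _ (Subgroup.inclusion_injective h1)
  have h5 : 3 < Nat.card (zpowers x ⊔ zpowers z : Subgroup G) := by
    by_contra h6
    push Not at h6
    have h7 : zpowers z = zpowers x ⊔ zpowers z :=
      Subgroup.eq_of_le_of_card_ge le_sup_right (by rw [Nat.card_zpowers, hzo]; exact h6)
    exact hxz (h7 ▸ mem_sup_left (mem_zpowers x))
  have h6 : Nat.card (zpowers x ⊔ zpowers z : Subgroup G) ∣ 3 ^ 3 := by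
    have := Subgroup.card_dvd_of_le (h1.trans inf_le_left)
    rw [hP] at this
    exact this
  obtain ⟨j, hj, hj2⟩ := (Nat.dvd_prime_pow Nat.prime_three).1 h6
  have hj3 : 2 ≤ j := by
    by_contra h7
    have h8 : j ≤ 1 := by omega
    have := Nat.pow_le_pow_right (show 0 < 3 by norm_num) h8
    omega
  have h7 : 9 ≤ Nat.card (zpowers x ⊔ zpowers z : Subgroup G) := by
    rw [hj2]; exact Nat.pow_le_pow_right (show 0 < 3 by norm_num) hj3
  have h8 := Subgroup.eq_of_le_of_card_ge h1 (h4.trans h7)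
  rw [h8]
  exact ⟨hy, mem_centralizer_singleton_iff.2 hxy⟩

/-- an involution acting on `Q`, centralising `z` -/
structure Tt (Q : Subgroup G) (z t : G) : Prop where
  ex : Ex Q z
  tt : t * t = 1
  tz : t * z = z * t
  norm : ∀ q ∈ Q, t * q * t⁻¹ ∈ Q

/-- `C_Q(t)` -/
def two (Q : Subgroup G) (t : G) : Subgroup G := Q ⊓ centralizer ({t} : Set G)

/-- `C_Q(C_Q(t))` -/
def one (Q : Subgroup G) (t : G) : Subgroup G := Q ⊓ centralizer (two Q t : Set G)

theorem mem_two {Q : Subgroup G} {t q : G} : q ∈ two Q t ↔ q ∈ Q ∧ q * t = t * q := by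
  rw [two, mem_inf, mem_centralizer_singleton_iff]

theorem mem_one {Q : Subgroup G} {t q : G} : q ∈ one Q t ↔ q ∈ Q ∧ ∀ a ∈ two Q t, a * q = q * a := by
  rw [one, mem_inf, mem_centralizer_iff]; rfl

namespace Tt

variable {Q : Subgroup G} {z t : G} (h : Tt Q z t)

include h

theorem tinv : t⁻¹ = t := by rw [inv_eq_iff_mul_eq_one]; exact h.tt

theorem fix_z {c : G} (hc : c ∈ zpowers z) : t * c * t⁻¹ = c := by
  obtain ⟨i, rfl⟩ := hc
  have : Commute t z := h.tz
  rw [mul_inv_eq_iff_eq_mul]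
  exact (this.zpow_right i)

theorem z_self {c : G} (hc : c ∈ zpowers z) (h2 : c = c⁻¹) : c = 1 := by
  have h3 : c ^ 3 = 1 := h.ex.exp c (h.ex.zle hc)
  have h4 : c * c = 1 := by nth_rw 2 [h2]; exact mul_inv_cancel c
  rw [pow_succ, pow_two, h4, one_mul] at h3
  exact h3

theorem conj_comm (a b : G) : t * ⁅a, b⁆ * t⁻¹ = ⁅t * a * t⁻¹, t * b * t⁻¹⁆ := by
  simp only [commutatorElement_def]; group

theorem tqt {q : G} : t * (t * q * t⁻¹) * t⁻¹ = q := by
  have h1 : t * (t * q * t⁻¹) * t⁻¹ = (t * t) * q * (t * t)⁻¹ := by group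
  rw [h1, h.tt]; group

theorem comm_self {q : G} (hq : q ∈ Q) : q * (t * q * t⁻¹) = (t * q * t⁻¹) * q := by
  have hq' := h.norm q hq
  have h1 : ⁅q, t * q * t⁻¹⁆ ∈ zpowers z := h.ex.comm _ hq _ hq'
  have h2 := h.fix_z h1
  rw [h.conj_comm, h.tqt, ← commutatorElement_inv] at h2
  exact commutatorElement_eq_one_iff_mul_comm.1 (h.z_self h1 h2.symm)

/-- the component inverted by `t` -/
theorem m_mem {q : G} (hq : q ∈ Q) : t * q * t⁻¹ * q⁻¹ ∈ Q := mul_mem (h.norm q hq) (inv_mem hq)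

theorem m_inv {q : G} : t * (t * q * t⁻¹ * q⁻¹) * t⁻¹ = (t * q * t⁻¹ * q⁻¹)⁻¹ := by
  have h1 : t * (t * q * t⁻¹ * q⁻¹) * t⁻¹ = (t * (t * q * t⁻¹) * t⁻¹) * (t * q * t⁻¹)⁻¹ := by group
  rw [h1, h.tqt]; group

theorem f_mem {q : G} (hq : q ∈ Q) : (q * (t * q * t⁻¹))⁻¹ ∈ two Q t := by
  rw [mem_two]
  refine ⟨inv_mem (mul_mem hq (h.norm q hq)), ?_⟩
  have h1 : t * (q * (t * q * t⁻¹)) * t⁻¹ = q * (t * q * t⁻¹) := by
    calc t * (q * (t * q * t⁻¹)) * t⁻¹ = (t * q * t⁻¹) * (t * (t * q * t⁻¹) * t⁻¹) := by group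
      _ = (t * q * t⁻¹) * q := by rw [h.tqt]
      _ = _ := (h.comm_self hq).symm
  have h2 : Commute t (q * (t * q * t⁻¹)) := by
    rw [mul_inv_eq_iff_eq_mul] at h1
    exact h1
  exact h2.inv_right.symm

theorem decomp {q : G} (hq : q ∈ Q) : q = (t * q * t⁻¹ * q⁻¹) * (q * (t * q * t⁻¹))⁻¹ := by
  have h1 : (t * q * t⁻¹ * q⁻¹) * (q * (t * q * t⁻¹))⁻¹ = (t * q * t⁻¹) * (q⁻¹ * (t * q * t⁻¹)⁻¹) * q⁻¹ := by group
  have h2 : q⁻¹ * (t * q * t⁻¹)⁻¹ = (t * q * t⁻¹)⁻¹ * q⁻¹ := by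
    rw [← mul_inv_rev, ← mul_inv_rev, h.comm_self hq]
  rw [h1, h2, mul_inv_cancel_left]
  have h3 := h.ex.exp q hq
  rw [pow_succ, pow_two] at h3
  rw [← mul_inv_rev, eq_inv_iff_mul_eq_one, ← mul_assoc]
  exact h3

/-- inverted elements commute with fixed elements -/
theorem comm_inv_fix {a b : G} (ha : a ∈ Q) (hai : t * a * t⁻¹ = a⁻¹) (hb : b ∈ two Q t) : a * b = b * a := by
  obtain ⟨hbQ, hbt⟩ := mem_two.1 hb
  have h1 : ⁅a, b⁆ ∈ zpowers z := h.ex.comm a ha b hbQ
  have h2 := h.fix_z h1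
  have h3 : t * b * t⁻¹ = b := by rw [← hbt, mul_inv_cancel_right]
  rw [h.conj_comm, hai, h3] at h2
  have h4 : ⁅a * a⁻¹, b⁆ = ⁅a, b⁆ * ⁅a⁻¹, b⁆ := h.ex.comm_mul ha (inv_mem ha) hbQ
  rw [mul_inv_cancel, commutatorElement_one_left, h2] at h4
  exact commutatorElement_eq_one_iff_mul_comm.1 (h.z_self h1 (eq_inv_of_mul_eq_one_left h4.symm))

theorem m_mem_one {q : G} (hq : q ∈ Q) : t * q * t⁻¹ * q⁻¹ ∈ one Q t := by
  rw [mem_one]
  exact ⟨h.m_mem hq, fun a ha => (h.comm_inv_fix (h.m_mem hq) h.m_inv ha).symm⟩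

theorem z_mem_two {c : G} (hc : c ∈ zpowers z) : c ∈ two Q t := by
  rw [mem_two]
  refine ⟨h.ex.zle hc, ?_⟩
  have := h.fix_z hc
  rw [mul_inv_eq_iff_eq_mul] at this
  exact this.symm

theorem z_mem_one {c : G} (hc : c ∈ zpowers z) : c ∈ one Q t := by
  rw [mem_one]
  exact ⟨h.ex.zle hc, fun a ha => h.ex.comm_z (mem_two.1 ha).1 hc⟩

theorem one_two {a b : G} (ha : a ∈ one Q t) (hb : b ∈ two Q t) : a * b = b * a := ((mem_one.1 ha).2 b hb).symm

/-- the decomposition -/
theorem exists_decomp {q : G} (hq : q ∈ Q) : ∃ a ∈ one Q t, ∃ b ∈ two Q t, q = a * b :=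
  ⟨_, h.m_mem_one hq, _, h.f_mem hq, h.decomp hq⟩

theorem inter {a : G} (h1 : a ∈ one Q t) (h2 : a ∈ two Q t) : a ∈ zpowers z := by
  apply h.ex.cen a (mem_one.1 h1).1
  intro q hq
  have e := h.decomp hq
  have e1 : (t * q * t⁻¹ * q⁻¹) * a = a * (t * q * t⁻¹ * q⁻¹) := h.comm_inv_fix (h.m_mem hq) h.m_inv h2
  have e2 : a * (q * (t * q * t⁻¹))⁻¹ = (q * (t * q * t⁻¹))⁻¹ * a := h.one_two h1 (h.f_mem hq)
  generalize (t * q * t⁻¹ * q⁻¹) = u at e e1
  generalize (q * (t * q * t⁻¹))⁻¹ = w at e e2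
  rw [e, ← mul_assoc, ← e1, mul_assoc, e2, ← mul_assoc]

theorem cen_one {a : G} (h1 : a ∈ one Q t) (h2 : ∀ b ∈ one Q t, a * b = b * a) : a ∈ zpowers z := by
  apply h.ex.cen a (mem_one.1 h1).1
  intro q hq
  obtain ⟨b, hb, c, hc, rfl⟩ := h.exists_decomp hq
  rw [← mul_assoc, h2 b hb, mul_assoc, h.one_two h1 hc, mul_assoc]

theorem cen_two {a : G} (h1 : a ∈ two Q t) (h2 : ∀ b ∈ two Q t, a * b = b * a) : a ∈ zpowers z := by
  apply h.ex.cen a (mem_two.1 h1).1
  intro q hq
  obtain ⟨b, hb, c, hc, rfl⟩ := h.exists_decomp hq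
  rw [← mul_assoc, ← h.one_two hb h1, mul_assoc, h2 c hc, mul_assoc]

theorem one_le : one Q t ≤ Q := inf_le_left

theorem two_le : two Q t ≤ Q := inf_le_left

/-- `|Q₁| |Q₂| = 3 ^ 6` -/
theorem card_mul : Nat.card (one Q t) * Nat.card (two Q t) = 3 ^ 6 := by
  have := h.ex.finite
  have hf1 : Finite (one Q t) := Finite.of_injective _ (Subgroup.inclusion_injective h.one_le)
  have hf2 : Finite (two Q t) := Finite.of_injective _ (Subgroup.inclusion_injective h.two_le)
  let f : one Q t × two Q t →* Q :=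
    { toFun := fun p => ⟨(p.1 : G) * p.2, mul_mem (h.one_le p.1.2) (h.two_le p.2.2)⟩
      map_one' := by apply Subtype.ext; simp
      map_mul' := by
        rintro ⟨a, b⟩ ⟨c, d⟩
        apply Subtype.ext
        show ((a : G) * c) * (b * d) = (a * b) * (c * d)
        rw [mul_assoc, ← mul_assoc (c : G), h.one_two c.2 b.2]; simp only [mul_assoc] }
  have hf : Function.Surjective f := by
    rintro ⟨q, hq⟩
    obtain ⟨a, ha, b, hb, e⟩ := h.exists_decomp hq
    exact ⟨(⟨a, ha⟩, ⟨b, hb⟩), Subtype.ext e.symm⟩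
  have hker : Nat.card f.ker = 3 := by
    rw [← h.ex.card_z]
    refine Nat.card_congr
      { toFun := fun p => ⟨((p : one Q t × two Q t).1 : G), ?_⟩
        invFun := fun c => ⟨(⟨c, h.z_mem_one c.2⟩, ⟨(c : G)⁻¹, h.z_mem_two (inv_mem c.2)⟩), ?_⟩
        left_inv := ?_
        right_inv := fun c => rfl }
    · have e : ((p : one Q t × two Q t).1 : G) * (p : one Q t × two Q t).2 = 1 := congrArg Subtype.val (MonoidHom.mem_ker.1 p.2)
      apply h.inter (p : one Q t × two Q t).1.2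
      rw [mul_eq_one_iff_eq_inv.1 e]
      exact inv_mem (p : one Q t × two Q t).2.2
    · rw [MonoidHom.mem_ker]
      apply Subtype.ext
      exact mul_inv_cancel (c : G)
    · intro p
      have e : ((p : one Q t × two Q t).1 : G) * (p : one Q t × two Q t).2 = 1 := congrArg Subtype.val (MonoidHom.mem_ker.1 p.2)
      apply Subtype.ext
      apply Prod.ext
      · rfl
      · apply Subtype.ext
        exact (eq_inv_of_mul_eq_one_right e).symm
  have h1 := Subgroup.card_mul_index f.ker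
  rw [Subgroup.index_ker, MonoidHom.range_eq_top.2 hf, Subgroup.card_top, h.ex.card, hker, Nat.card_prod] at h1
  rw [← h1]; norm_num

/-- the possible orders -/
theorem card_cases (hne : ∃ q ∈ Q, t * q ≠ q * t) (hne2 : ∃ q ∈ two Q t, q ∉ zpowers z) :
    Nat.card (one Q t) = 27 ∧ Nat.card (two Q t) = 27 := by
  have := h.ex.finite
  have hf1 : Finite (one Q t) := Finite.of_injective _ (Subgroup.inclusion_injective h.one_le)
  have hf2 : Finite (two Q t) := Finite.of_injective _ (Subgroup.inclusion_injective h.two_le)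
  have key : ∀ P : Subgroup G, Finite P → (∀ c ∈ zpowers z, c ∈ P) → (∀ c ∈ P, c * z = z * c) →
      (∀ a ∈ P, (∀ b ∈ P, a * b = b * a) → a ∈ zpowers z) → Nat.card P ≠ 9 := by
    intro P hP hz hzc hc h9
    have hc' : IsMulCommutative P := IsPGroup.isMulCommutative_of_card_eq_prime_sq (p := 3) (by rw [h9]; norm_num)
    have h1 : P ≤ zpowers z := fun a ha => hc a ha (fun b hb => congrArg Subtype.val (hc'.is_comm.comm ⟨a, ha⟩ ⟨b, hb⟩))
    have h2 := Subgroup.card_dvd_of_le h1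
    rw [h9, h.ex.card_z] at h2
    norm_num at h2
  have h1 : Nat.card (one Q t) ≠ 9 := key _ hf1 (fun c hc => h.z_mem_one hc) (fun c hc => h.ex.zc c (h.one_le hc))
    (fun a ha hb => h.cen_one ha hb)
  have h2 : Nat.card (two Q t) ≠ 9 := key _ hf2 (fun c hc => h.z_mem_two hc) (fun c hc => h.ex.zc c (h.two_le hc))
    (fun a ha hb => h.cen_two ha hb)
  have h3 : Nat.card (one Q t) ∣ 3 ^ 6 := Dvd.intro _ h.card_mul
  obtain ⟨k, hk, hk2⟩ := (Nat.dvd_prime_pow Nat.prime_three).1 h3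
  have h4 := h.card_mul
  rw [hk2] at h4 h1
  have h5 : Nat.card (two Q t) = 3 ^ (6 - k) := by
    have : 3 ^ 6 = 3 ^ k * 3 ^ (6 - k) := by rw [← pow_add]; congr 1; omega
    rw [this] at h4
    exact Nat.eq_of_mul_eq_mul_left (by positivity) h4
  rw [h5] at h2
  -- lower bounds
  have h6 : 3 < Nat.card (one Q t) := by
    by_contra h7
    push Not at h7
    have h8 : zpowers z = one Q t :=
      Subgroup.eq_of_le_of_card_ge (fun c hc => h.z_mem_one hc) (by rw [h.ex.card_z]; exact h7)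
    obtain ⟨q, hq, hq2⟩ := hne
    apply hq2
    have h9 := h.m_mem_one hq
    rw [← h8] at h9
    have h10 : t * q * t⁻¹ * q⁻¹ = (t * q * t⁻¹ * q⁻¹)⁻¹ := by rw [← h.m_inv, h.fix_z h9]
    have h11 := h.z_self h9 h10
    rw [mul_inv_eq_one, mul_inv_eq_iff_eq_mul] at h11
    exact h11
  have h7 : 3 < Nat.card (two Q t) := by
    by_contra h7
    push Not at h7
    have h8 : zpowers z = two Q t :=
      Subgroup.eq_of_le_of_card_ge (fun c hc => h.z_mem_two hc) (by rw [h.ex.card_z]; exact h7)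
    obtain ⟨q, hq, hq2⟩ := hne2
    exact hq2 (h8 ▸ hq)
  rw [hk2] at h6
  rw [h5] at h7
  rw [h5, hk2]
  have hk6 : k ≤ 6 := hk
  interval_cases k <;> simp_all

end Tt

end Cfsg.Agent.H351.OE
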