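import Cfsg.Agent.H351.OE.Nine

/-!
# S3372: facts on the group `G` and its simple normal subgroup
-/

set_option autoImplicit false
set_option linter.unusedSectionVars false
set_option linter.unusedVariables false

namespace Cfsg.Agent.H351.OE

open Subgroup Cfsg
open scoped commutatorElement

variable {G : Type*} [Group G] [Finite G]

/-- the bound for the centralizer of `z` -/
def N0 : ℕ := 2 ^ 4 * 3 ^ 6

namespace Full

variable {Q : Subgroup G} {z t g : G} {S : Sylow 3 G} (h : Full Q z t g S)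

include h

theorem SC : (S : Subgroup G) ≤ centralizer ({z} : Set G) := fun s hs => mem_centralizer_singleton_iff.2 (h.Sz s hs)

/-- `3`-subgroups of `C(z)` are conjugate into `S` inside `C(z)` -/
theorem conj_into {P : Subgroup G} (hP : IsPGroup 3 P) (hPz : ∀ p ∈ P, p * z = z * p) :
    ∃ c : G, c * z = z * c ∧ ∀ p ∈ P, c * p * c⁻¹ ∈ S := by
  have hF : Fact (Nat.Prime 3) := ⟨Nat.prime_three⟩
  have hPC : P ≤ centralizer ({z} : Set G) := fun p hp => mem_centralizer_singleton_iff.2 (hPz p hp)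
  have h1 : IsPGroup 3 (P.subgroupOf (centralizer ({z} : Set G))) := hP.of_equiv (subgroupOfEquivOfLe hPC).symm
  obtain ⟨R, hR⟩ := h1.exists_le_sylow
  obtain ⟨c, hc⟩ := MulAction.exists_smul_eq (centralizer ({z} : Set G)) R (S.subtype h.SC)
  refine ⟨c, mem_centralizer_singleton_iff.1 c.2, fun p hp => ?_⟩
  have h2 : c * ⟨p, hPC hp⟩ * c⁻¹ ∈ (S.subtype h.SC : Subgroup (centralizer ({z} : Set G))) := by
    rw [← hc]
    have h3 : (⟨p, hPC hp⟩ : centralizer ({z} : Set G)) ∈ (R : Subgroup (centralizer ({z} : Set G))) := hR (mem_subgroupOf.2 hp)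
    exact Subgroup.smul_mem_pointwise_smul _ (MulAut.conj c) (R : Subgroup (centralizer ({z} : Set G))) h3
  exact h2

/-- `3`-subgroups are conjugate into `S` -/
theorem conj_into' {P : Subgroup G} (hP : IsPGroup 3 P) : ∃ c : G, ∀ p ∈ P, c * p * c⁻¹ ∈ S := by
  have hF : Fact (Nat.Prime 3) := ⟨Nat.prime_three⟩
  obtain ⟨R, hR⟩ := hP.exists_le_sylow
  obtain ⟨c, hc⟩ := MulAction.exists_smul_eq G R S
  refine ⟨c, fun p hp => ?_⟩
  have h2 : c * p * c⁻¹ ∈ (S : Subgroup G) := by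
    rw [← hc]
    have h3 : p ∈ (R : Subgroup G) := hR hp
    exact Subgroup.smul_mem_pointwise_smul p (MulAut.conj c) (R : Subgroup G) h3
  exact h2

/-- the standard situation with `s ∈ S`; `Q'` is the conjugate of `Q` belonging to `x` -/
theorem exists_std : ∃ k x s f x1 x2 f1 f2 : G, Std Q z t x s f x1 x2 f1 f2 ∧ s ∈ S ∧ x = k * z * k⁻¹ ∧
    s ∈ cj k Q ∧ f ∈ cj k Q ∧ 27 ≤ Nat.card (Q ⊓ cj k Q : Subgroup G) ∧
    (∀ a ∈ Q ⊓ cj k Q, ∀ b ∈ Q ⊓ cj k Q, a * b = b * a) ∧ x1 = ⁅t, x⁆ := by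
  have hF : Fact (Nat.Prime 3) := ⟨Nat.prime_three⟩
  -- a conjugate with `s ∈ S`
  obtain ⟨-, -, -, s0, f0, hs0Q', hs0Q, hs0z, hs0x, hs03, hf0, hf0Q', hf0x, e0⟩ :=
    exists_pair h.hy.toCe (h.hy.toCe.conj g) h.gx h.gxz
  have hp : IsPGroup 3 (zpowers s0) := by
    refine IsPGroup.of_card_dvd_pow (n := 1) ?_
    rw [Nat.card_zpowers, pow_one]
    exact orderOf_dvd_of_pow_eq_one hs03
  obtain ⟨c, hc, hcs⟩ := h.conj_into hp (by
    rintro _ ⟨i, rfl⟩
    exact ((show Commute s0 z from hs0z).zpow_left i).eq)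
  have hcs0 := hcs s0 (mem_zpowers s0)
  obtain ⟨k, hk⟩ : ∃ k, k = c * g := ⟨_, rfl⟩
  obtain ⟨x, hx⟩ : ∃ x, x = k * z * k⁻¹ := ⟨_, rfl⟩
  have hx' : x = c * (g * z * g⁻¹) * c⁻¹ := by rw [hx, hk]; group
  have hxQ : x ∈ Q := by rw [hx']; exact h.hy.nor c hc _ h.gx
  have hc' : c⁻¹ * z = z * c⁻¹ := ((show Commute c z from hc).inv_left).eq
  have hczp : ∀ y, y ∈ zpowers z → c⁻¹ * y * c = y := by
    rintro _ ⟨i, rfl⟩
    simp only
    rw [((show Commute c⁻¹ z from hc').zpow_right i).eq, inv_mul_cancel_right]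
  have hxz : x ∉ zpowers z := by
    intro h1
    apply h.gxz
    have h2 := hczp x h1
    have h3 : c⁻¹ * x * c = g * z * g⁻¹ := by rw [hx']; group
    rw [h3] at h2
    rw [h2]; exact h1
  have hCe : Ce (cj k Q) x := by rw [hx]; exact h.hy.toCe.conj k
  obtain ⟨-, h27, hab, -⟩ := exists_pair h.hy.toCe hCe hxQ hxz
  -- the transported data
  have hcjk : ∀ y, y ∈ cj g Q → c * y * c⁻¹ ∈ cj k Q := by
    intro y hy
    rw [mem_cj] at hy ⊢
    rw [hk]
    have : (c * g)⁻¹ * (c * y * c⁻¹) * (c * g) = g⁻¹ * y * g := by group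
    rw [this]; exact hy
  obtain ⟨s, hs⟩ : ∃ s, s = c * s0 * c⁻¹ := ⟨_, rfl⟩
  obtain ⟨f, hf⟩ : ∃ f, f = c * f0 * c⁻¹ := ⟨_, rfl⟩
  have hsz : s * z = z * s := by
    rw [hs]
    exact (((show Commute c z from hc).mul_left hs0z).mul_left hc').eq
  have hsQ : s ∉ Q := by
    intro h1
    apply hs0Q
    have h2 := h.hy.nor c⁻¹ hc' s h1
    rw [hs] at h2
    have h3 : c⁻¹ * (c * s0 * c⁻¹) * c⁻¹⁻¹ = s0 := by group
    rwa [h3] at h2
  have hsx : s * x = x * s := by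
    rw [hs, hx']
    calc c * s0 * c⁻¹ * (c * (g * z * g⁻¹) * c⁻¹) = c * (s0 * (g * z * g⁻¹)) * c⁻¹ := by group
      _ = c * ((g * z * g⁻¹) * s0) * c⁻¹ := by rw [hs0x]
      _ = _ := by group
  have hs3 : s ^ 3 = 1 := by rw [hs, conj_pow, hs03]; group
  have hfQ : f ∈ Q := by rw [hf]; exact h.hy.nor c hc f0 hf0
  have hfx : f * x = x * f := by
    rw [hf, hx']
    calc c * f0 * c⁻¹ * (c * (g * z * g⁻¹) * c⁻¹) = c * (f0 * (g * z * g⁻¹)) * c⁻¹ := by group
      _ = c * ((g * z * g⁻¹) * f0) * c⁻¹ := by rw [hf0x]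
      _ = _ := by group
  have hfs : ⁅f, s⁆ = x := by
    rw [hf, hs, hx', ← e0]
    simp only [commutatorElement_def]; group
  have hx1 := h.hy.not_mem_one hxz hfQ hfx hsz hsx hfs
  have hx2 := h.hy.not_mem_two hxz hfQ hfx hsz hsx hfs
  obtain ⟨x1, hx1', x2, hx2', ex, hx1z, hx2z, hx1t⟩ := h.hy.exists_comp hxQ hx1 hx2
  obtain ⟨f1, hf1, f2, hf2, ef⟩ := h.hy.tt.exists_decomp hfQ
  refine ⟨k, x, s, f, x1, x2, f1, f2, ?_, by rw [hs]; exact hcs0, hx, by rw [hs]; exact hcjk s0 hs0Q',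
    by rw [hf]; exact hcjk f0 hf0Q', h27, hab, hx1t⟩
  exact
    { hy := h.hy
      xQ := hxQ
      xz := hxz
      zc := ⟨fun h1 => hxz (h1 ▸ one_mem _), k, by rw [hx]; exact mem_zpowers _⟩
      sQ := hsQ
      sz := hsz
      sx := hsx
      s3 := hs3
      fQ := hfQ
      fx := hfx
      fs := hfs
      hx1 := hx1'
      hx2 := hx2'
      hf1 := hf1
      hf2 := hf2
      ex := ex
      ef := ef
      x1z := hx1z
      x2z := hx2z }

/-- `S = Q ∪ Q s ∪ Q s⁻¹` -/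
theorem cases_S {s y : G} (hs : s ∈ S) (hsQ : s ∉ Q) (hs3 : s ^ 3 = 1) (hy : y ∈ S) :
    y ∈ Q ∨ (∃ q ∈ Q, y = q * s) ∨ ∃ q ∈ Q, y = q * s⁻¹ := by
  have hn : (Q.subgroupOf S).Normal := by
    constructor
    intro n hn c
    rw [mem_subgroupOf] at hn ⊢
    exact h.hy.nor c (h.Sz c c.2) n hn
  have h1 := Subgroup.card_mul_index (Q.subgroupOf (S : Subgroup G))
  rw [Nat.card_congr (subgroupOfEquivOfLe h.QS).toEquiv, h.hy.ex.card] at h1
  have h2 : Nat.card ((S : Subgroup G) ⧸ Q.subgroupOf (S : Subgroup G)) = 3 := by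
    have h3 : Nat.card ((S : Subgroup G) ⧸ Q.subgroupOf (S : Subgroup G)) = (Q.subgroupOf (S : Subgroup G)).index := rfl
    have h4 : Nat.card (S : Subgroup G) = 3 ^ 6 := h.cardS
    rw [h4] at h1
    rw [h3]
    have h5 : (3 : ℕ) ^ 6 = 3 ^ 5 * 3 := by norm_num
    rw [h5] at h1
    exact Nat.eq_of_mul_eq_mul_left (by norm_num) h1
  obtain ⟨σ, hσ⟩ : ∃ σ : (S : Subgroup G) ⧸ Q.subgroupOf (S : Subgroup G), σ = QuotientGroup.mk ⟨s, hs⟩ := ⟨_, rfl⟩
  have hσ1 : σ ≠ 1 := by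
    rw [hσ]
    intro h3
    exact hsQ (mem_subgroupOf.1 ((QuotientGroup.eq_one_iff _).1 h3))
  have hσ3 : orderOf σ = 3 := by
    have : Fact (Nat.Prime 3) := ⟨Nat.prime_three⟩
    refine orderOf_eq_prime ?_ hσ1
    rw [hσ, ← QuotientGroup.mk_pow]
    have : (⟨s, hs⟩ : (S : Subgroup G)) ^ 3 = 1 := Subtype.ext hs3
    rw [this]; rfl
  have htop : zpowers σ = ⊤ := by
    apply Subgroup.eq_top_of_card_eq
    rw [Nat.card_zpowers, hσ3, h2]
  have h3 : (QuotientGroup.mk ⟨y, hy⟩ : (S : Subgroup G) ⧸ Q.subgroupOf (S : Subgroup G)) ∈ zpowers σ := by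
    rw [htop]; trivial
  by_cases h4 : (QuotientGroup.mk ⟨y, hy⟩ : (S : Subgroup G) ⧸ Q.subgroupOf (S : Subgroup G)) = 1
  · left
    exact mem_subgroupOf.1 ((QuotientGroup.eq_one_iff _).1 h4)
  · right
    rcases eq_or_of_three hσ3 h3 h4 with h5 | h5
    · left
      rw [hσ, QuotientGroup.eq] at h5
      have h6 : (y : G)⁻¹ * s ∈ Q := mem_subgroupOf.1 h5
      refine ⟨y * s⁻¹, ?_, by group⟩
      have h7 := h.hy.nor y (h.Sz y hy) _ (inv_mem h6)
      have h8 : y * (y⁻¹ * s)⁻¹ * y⁻¹ = y * s⁻¹ := by group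
      rwa [h8] at h7
    · right
      rw [hσ, ← QuotientGroup.mk_inv, QuotientGroup.eq] at h5
      have h6 : (y : G)⁻¹ * s⁻¹ ∈ Q := mem_subgroupOf.1 h5
      refine ⟨y * s, ?_, by group⟩
      have h7 := h.hy.nor y (h.Sz y hy) _ (inv_mem h6)
      have h8 : y * (y⁻¹ * s⁻¹)⁻¹ * y⁻¹ = y * s := by group
      rwa [h8] at h7

/-- subgroups of order at least `27` of `S` -/
theorem exists_zc_S {D : Subgroup G} (hD : D ≤ S) (h27 : 27 ≤ Nat.card D) : ∃ d ∈ D, ZC z d := by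
  have hF : Fact (Nat.Prime 3) := ⟨Nat.prime_three⟩
  by_contra hcon
  push Not at hcon
  have hz : z ∉ D := fun h1 => hcon z h1 (ZC.of_mem (mem_zpowers z) h.hy.ex.z1)
  have hz' : ∀ c ∈ D, c ∈ zpowers z → c = 1 := by
    intro c hc hcz
    by_contra h1
    exact hcon c hc (ZC.of_mem hcz h1)
  obtain ⟨k, x, s, f, x1, x2, f1, f2, hstd, hsS, -⟩ := h.exists_std
  have hp : IsPGroup 3 D := S.isPGroup'.to_le hD
  have hidx := h.hy.toCe.idx D hp (fun p hpD => h.Sz p (hD hpD))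
  -- the subgroup `D ∩ Q` is abelian
  have hab : ∀ a ∈ D ⊓ Q, ∀ b ∈ D ⊓ Q, a * b = b * a := by
    intro a ha b hb
    apply commutatorElement_eq_one_iff_mul_comm.1
    apply hz' _ _ (h.hy.ex.comm a ha.2 b hb.2)
    rw [commutatorElement_def]
    exact mul_mem (mul_mem (mul_mem ha.1 hb.1) (inv_mem ha.1)) (inv_mem hb.1)
  -- its order is at most nine
  have h9 : Nat.card (D ⊓ Q : Subgroup G) ≤ 9 := by
    have h1 := h.hy.ex.card_abelian (A := (D ⊓ Q) ⊔ zpowers z) (sup_le inf_le_right h.hy.ex.zle)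
      (comm_of_sup hab (fun a ha => h.hy.ex.zc a ha.2))
    by_contra h2
    push Not at h2
    have hd : Nat.card (D ⊓ Q : Subgroup G) ∣ 3 ^ 5 := by
      rw [← h.hy.ex.card]; exact Subgroup.card_dvd_of_le inf_le_right
    obtain ⟨j, hj, hj2⟩ := (Nat.dvd_prime_pow Nat.prime_three).1 hd
    have hj3 : 3 ≤ j := by
      by_contra h5
      have h6 : j ≤ 2 := by omega
      have := Nat.pow_le_pow_right (show 0 < 3 by norm_num) h6
      omega
    have h3 : 27 ≤ Nat.card (D ⊓ Q : Subgroup G) := by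
      rw [hj2]; exact (show 3 ^ 3 ≤ 3 ^ j from Nat.pow_le_pow_right (by norm_num) hj3)
    have h4 : D ⊓ Q = (D ⊓ Q) ⊔ zpowers z := Subgroup.eq_of_le_of_card_ge le_sup_left (h1.trans h3)
    have h5 : z ∈ D ⊓ Q := by rw [h4]; exact mem_sup_right (mem_zpowers z)
    exact hz h5.1
  have h9' : 9 ≤ Nat.card (D ⊓ Q : Subgroup G) := by omega
  -- an element outside `Q`
  have hex : ∃ y ∈ D, y ∉ Q := by
    by_contra hc
    push Not at hc
    have : D ⊓ Q = D := inf_eq_left.2 hc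
    rw [this] at h9
    omega
  obtain ⟨y, hyD, hyQ⟩ := hex
  rcases h.cases_S hsS hstd.sQ hstd.s3 (hD hyD) with h1 | ⟨q, hq, rfl⟩ | ⟨q, hq, rfl⟩
  · exact hyQ h1
  · obtain ⟨d, hd, hd2⟩ := hstd.exists_zc hq hyD h9' hab
    exact hcon d hd hd2
  · have h1 : (s * q⁻¹ * s⁻¹) * s ∈ D := by
      have := inv_mem hyD
      have e : (s * q⁻¹ * s⁻¹) * s = (q * s⁻¹)⁻¹ := by group
      rw [e]; exact this
    obtain ⟨d, hd, hd2⟩ := hstd.exists_zc (h.hy.nor s hstd.sz _ (inv_mem hq)) h1 h9' hab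
    exact hcon d hd hd2

/-- the centralizer of a `ZC` element -/
theorem card_zc {d : G} (hd : ZC z d) : orderOf d = 3 ∧ Nat.card (centralizer ({d} : Set G)) ∣ N0 := by
  have hF : Fact (Nat.Prime 3) := ⟨Nat.prime_three⟩
  obtain ⟨h1, k, hk⟩ := hd
  have ho : orderOf (k * z * k⁻¹) = 3 := by
    refine orderOf_eq_prime ?_ (fun h2 => h.hy.ex.z1 (conj_eq_one_iff.1 h2))
    rw [conj_pow, h.hy.ex.zz]; group
  have h2 := mem_zpowers_of_three ho hk h1
  have h3 : centralizer ({d} : Set G) ≤ cj k (centralizer ({z} : Set G)) := by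
    intro c hc
    rw [mem_centralizer_singleton_iff] at hc
    rw [mem_cj, mem_centralizer_singleton_iff, ← conj_comm_iff]
    obtain ⟨i, hi⟩ := h2
    simp only at hi
    rw [← hi]
    exact ((show Commute c d from hc).zpow_right i).eq
  refine ⟨?_, ?_⟩
  · rcases eq_or_of_three ho hk h1 with h4 | h4
    · rw [h4, ho]
    · rw [h4, orderOf_inv, ho]
  · refine (Subgroup.card_dvd_of_le h3).trans ?_
    rw [card_cj]
    exact h.cardC

/-- **subgroups of order divisible by `27`** -/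
theorem exists_zc {D : Subgroup G} (hD : 27 ∣ Nat.card D) : ∃ d ∈ D, ZC z d := by
  have hF : Fact (Nat.Prime 3) := ⟨Nat.prime_three⟩
  obtain ⟨R, hR⟩ := Sylow.exists_subgroup_card_pow_prime (G := D) 3 (n := 3) (by exact hD)
  have hRp : IsPGroup 3 (R.map D.subtype) := (IsPGroup.of_card hR).map _
  have hRc : Nat.card (R.map D.subtype) = 27 := by
    rw [← Nat.card_congr (R.equivMapOfInjective D.subtype D.subtype_injective).toEquiv, hR]
    norm_num
  obtain ⟨c, hc⟩ := h.conj_into' hRp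
  obtain ⟨d, hd, hd2⟩ := h.exists_zc_S (D := cj c (R.map D.subtype)) (by
    intro y hy
    rw [mem_cj] at hy
    have := hc _ hy
    have e : c * (c⁻¹ * y * c) * c⁻¹ = y := by group
    rwa [e] at this) (by rw [card_cj, hRc])
  rw [mem_cj] at hd
  obtain ⟨r, -, hr2⟩ := hd
  refine ⟨c⁻¹ * d * c, by rw [← hr2]; exact r.2, ?_⟩
  have := hd2.conj c⁻¹
  rwa [inv_inv] at this

/-- elements of order nine -/
theorem zc_of_nine {y : G} (hy : orderOf y = 9) : ZC z (y ^ 3) := by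
  have hF : Fact (Nat.Prime 3) := ⟨Nat.prime_three⟩
  obtain ⟨k, x, s, f, x1, x2, f1, f2, hstd, hsS, -⟩ := h.exists_std
  have hp : IsPGroup 3 (zpowers y) := by
    refine IsPGroup.of_card (n := 2) ?_
    rw [Nat.card_zpowers, hy]; norm_num
  obtain ⟨c, hc⟩ := h.conj_into' hp
  have h1 := hc y (mem_zpowers y)
  have hy3 : (c * y * c⁻¹) ^ 3 ≠ 1 := by
    rw [conj_pow]
    intro h2
    rw [conj_eq_one_iff] at h2
    have := orderOf_dvd_of_pow_eq_one h2
    rw [hy] at this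
    norm_num at this
  have h2 : (c * y * c⁻¹) ^ 3 ∈ zpowers z := by
    rcases h.cases_S hsS hstd.sQ hstd.s3 h1 with h3 | ⟨q, hq, e⟩ | ⟨q, hq, e⟩
    · exact absurd (h.hy.ex.exp _ h3) hy3
    · rw [e]; exact hstd.cube_mem hq
    · have e' : (c * y * c⁻¹)⁻¹ = (s * q⁻¹ * s⁻¹) * s := by rw [e]; group
      have h4 := hstd.cube_mem (h.hy.nor s hstd.sz _ (inv_mem hq))
      rw [← e', inv_pow, inv_mem_iff] at h4
      exact h4
  have h3 : ZC z ((c * y * c⁻¹) ^ 3) := ZC.of_mem h2 hy3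
  rw [conj_pow] at h3
  exact h3.of_conj

theorem card_of_nine {y : G} (hy : orderOf y = 9) : Nat.card (centralizer ({y} : Set G)) ∣ N0 := by
  refine (Subgroup.card_dvd_of_le ?_).trans (h.card_zc (h.zc_of_nine hy)).2
  intro c hc
  rw [mem_centralizer_singleton_iff] at hc ⊢
  exact ((show Commute c y from hc).pow_right 3).eq

/-- abelian `3`-subgroups -/
theorem card_abelian {A : Subgroup G} (hA : IsPGroup 3 A) (hab : ∀ a ∈ A, ∀ b ∈ A, a * b = b * a) :
    Nat.card A ≤ 3 ^ 4 := by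
  obtain ⟨c, hc⟩ := h.conj_into' hA
  have h1 : ∀ y ∈ cj c A, y ∈ S := by
    intro y hy
    rw [mem_cj] at hy
    have := hc _ hy
    have e : c * (c⁻¹ * y * c) * c⁻¹ = y := by group
    rwa [e] at this
  have h2 : ∀ a ∈ cj c A, ∀ b ∈ cj c A, a * b = b * a := by
    intro a ha b hb
    rw [mem_cj] at ha hb
    have h3 := hab _ ha _ hb
    calc a * b = c * ((c⁻¹ * a * c) * (c⁻¹ * b * c)) * c⁻¹ := by group
      _ = c * ((c⁻¹ * b * c) * (c⁻¹ * a * c)) * c⁻¹ := by rw [h3]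
      _ = b * a := by group
  have h3 := h.hy.toCe.idx (cj c A) (hA.map _) (fun p hp => h.Sz p (h1 p hp))
  have h4 := h.hy.ex.card_abelian (A := cj c A ⊓ Q) inf_le_right (fun a ha b hb => h2 a ha.1 b hb.1)
  rw [card_cj] at h3
  omega

end Full

end Cfsg.Agent.H351.OE
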