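import Cfsg.Agent.H351.OE.Full

/-!
# S3372: the global hypothesis from the hypotheses of the statement, II
-/

set_option autoImplicit false
set_option linter.unusedSectionVars false
set_option maxHeartbeats 1000000

namespace Cfsg.Agent.H351.OE

open Subgroup Cfsg
open scoped commutatorElement

variable {G : Type*} [Group G] [Finite G]

theorem isSolvable_of_dvd {X : Type*} [Group X] [Finite X] {a b : ℕ} (h : Nat.card X ∣ 2 ^ a * 3 ^ b) :
    Group.IsSolvable X := by
  obtain ⟨u, v, hu, hv, e⟩ := (Nat.dvd_mul).1 h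
  obtain ⟨k, -, rfl⟩ := (Nat.dvd_prime_pow Nat.prime_two).1 hu
  obtain ⟨l, -, rfl⟩ := (Nat.dvd_prime_pow Nat.prime_three).1 hv
  exact Cfsg.Agent.S0144.result 2 3 k l Nat.prime_two Nat.prime_three e.symm

/-- a subgroup of `Q` of order at least nine on which `c` acts -/
theorem not_scalar {Q : Subgroup G} {z t : G} (h : Tt Q z t) {B : Subgroup G} (hB : B ≤ one Q t) (hzB : z ∈ B) 
    {b : G} (hb : b ∈ B) (hbz : b ∉ zpowers z) (hB9 : Nat.card B ≤ 9) {c r : G} (hcB : ∀ b ∈ B, c * b * c⁻¹ ∈ B)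
    (hcz : c * z = z * c) (hr : r ∈ Q) (e : c * c = t * r) : False := by
  have hF : Fact (Nat.Prime 3) := ⟨Nat.prime_three⟩
  have hbQ : b ∈ Q := h.one_le (hB hb)
  have hbo : orderOf b = 3 := orderOf_eq_prime (h.ex.exp b hbQ) (by rintro rfl; exact hbz (one_mem _))
  have hsup : zpowers b ⊔ zpowers z = B := by
    have h1 : zpowers b ⊔ zpowers z ≤ B := sup_le (by rw [zpowers_le]; exact hb) (by rw [zpowers_le]; exact hzB)
    refine Subgroup.eq_of_le_of_card_ge h1 (hB9.trans ?_)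
    by_contra h2
    push Not at h2
    have h3 : Nat.card (zpowers b ⊔ zpowers z : Subgroup G) ∣ 3 ^ 5 := by
      rw [← h.ex.card]; exact Subgroup.card_dvd_of_le (h1.trans (hB.trans h.one_le))
    obtain ⟨j, hj, hj2⟩ := (Nat.dvd_prime_pow Nat.prime_three).1 h3
    have h4 : j ≤ 1 := by
      by_contra h5
      have h6 : 2 ≤ j := by omega
      have := Nat.pow_le_pow_right (show 0 < 3 by norm_num) h6
      omega
    have h5 : Nat.card (zpowers b ⊔ zpowers z : Subgroup G) ≤ 3 := by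
      rw [hj2]
      exact Nat.pow_le_pow_right (show 0 < 3 by norm_num) h4
    have h6 : zpowers z = zpowers b ⊔ zpowers z :=
      Subgroup.eq_of_le_of_card_ge le_sup_right (by rw [h.ex.card_z]; exact h5)
    exact hbz (h6 ▸ mem_sup_left (mem_zpowers b))
  have hcomm : ∀ a ∈ zpowers b, ∀ a' ∈ zpowers z, a * a' = a' * a := by
    rintro _ ⟨m, rfl⟩ a' ha'
    exact h.ex.comm_z (zpow_mem hbQ m) ha'
  have hcζ : ∀ a ∈ zpowers z, c * a * c⁻¹ = a := by
    rintro _ ⟨m, rfl⟩
    simp only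
    rw [((show Commute c z from hcz).zpow_right m).eq, mul_inv_cancel_right]
  have h1 := hcB b hb
  rw [← hsup] at h1
  obtain ⟨_, ⟨m, rfl⟩, ζ, hζ, e1⟩ := mem_sup_comm hcomm h1
  simp only at e1
  -- `c ^ 2` acts as `m ^ 2`
  have h2 : (c * c) * b * (c * c)⁻¹ = b ^ (m * m) * (ζ ^ m * ζ) := by
    have hζb : Commute (b ^ m) ζ := h.ex.comm_z (zpow_mem hbQ m) hζ
    calc (c * c) * b * (c * c)⁻¹ = c * (c * b * c⁻¹) * c⁻¹ := by group
      _ = c * (b ^ m * ζ) * c⁻¹ := by rw [e1]
      _ = (c * b * c⁻¹) ^ m * (c * ζ * c⁻¹) := by rw [conj_zpow]; group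
      _ = (b ^ m * ζ) ^ m * ζ := by rw [e1, hcζ ζ hζ]
      _ = b ^ (m * m) * (ζ ^ m * ζ) := by rw [hζb.mul_zpow, zpow_mul, mul_assoc]
  -- `t` inverts
  have h3 : t * b * t⁻¹ * b ∈ zpowers z := by
    have hb1 : b ∈ one Q t := hB hb
    have h4 := h.f_mem hbQ
    have h5 : t * b * t⁻¹ ∈ one Q t := by
      have h6 := h.m_mem_one hbQ
      have h7 : t * b * t⁻¹ = (t * b * t⁻¹ * b⁻¹) * b := by group
      rw [h7]; exact mul_mem h6 hb1
    have h6 : (b * (t * b * t⁻¹))⁻¹ ∈ one Q t := inv_mem (mul_mem hb1 h5)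
    have h7 := h.inter h6 h4
    rw [inv_mem_iff, h.comm_self hbQ] at h7
    exact h7
  have h4 : (c * c) * b * (c * c)⁻¹ * b ∈ zpowers z := by
    have h5 : ⁅r, b⁆ ∈ zpowers z := h.ex.comm r hr b hbQ
    have h6 : (c * c) * b * (c * c)⁻¹ * b = (t * ⁅r, b⁆ * t⁻¹) * (t * b * t⁻¹ * b) := by
      rw [e, commutatorElement_def]; group
    rw [h6, h.fix_z h5]
    exact mul_mem h5 h3
  rw [h2] at h4
  have h5 : b ^ (m * m + 1) ∈ zpowers z := by
    have hζ' : ζ ^ m * ζ ∈ zpowers z := mul_mem (zpow_mem hζ m) hζ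
    have h6 : b ^ (m * m) * (ζ ^ m * ζ) * b = b ^ (m * m + 1) * (ζ ^ m * ζ) := by
      rw [mul_assoc, ← h.ex.comm_z hbQ hζ', zpow_add_one, mul_assoc]
    rw [h6] at h4
    have := mul_mem h4 (inv_mem hζ')
    rwa [mul_inv_cancel_right] at this
  apply hbz
  have hne : b ^ (m * m + 1) ≠ 1 := by
    intro h6
    have h7 := orderOf_dvd_iff_zpow_eq_one.2 h6
    rw [hbo] at h7
    have h8 : (m * m + 1) % 3 ≠ 0 := by
      have : m % 3 = 0 ∨ m % 3 = 1 ∨ m % 3 = 2 := by omega
      rcases this with h | h | h <;> simp [Int.add_emod, Int.mul_emod, h]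
    exact h8 (Int.emod_eq_zero_of_dvd h7)
  have h6 := mem_zpowers_of_three hbo (⟨m * m + 1, rfl⟩ : b ^ (m * m + 1) ∈ zpowers b) hne
  exact (zpowers_le.2 h5 : zpowers (b ^ (m * m + 1)) ≤ zpowers z) h6

namespace St

variable {S : Sylow 3 G} {Z C Q K : Subgroup G} {r : ℕ} {A : Fin (r + 1) → Subgroup G}
  {i j s : C ⧸ Cfsg.pCore 3 C}

theorem chain_le (h : St S Z C Q K r A i j s) (n : Fin (r + 1)) : Z ≤ A n := by
  induction n using Fin.induction with
  | zero => rw [h.hA0]
  | succ k ih => exact ih.trans (h.hmono k).le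

/-- **The global hypothesis.** -/
theorem exists_full (h : St S Z C Q K r A i j s) : ∃ z t g : G, Full Q z t g S := by
  have hF : Fact (Nat.Prime 3) := ⟨Nat.prime_three⟩
  obtain ⟨z, hZz, hex⟩ := h.exists_z
  have memC : ∀ {c : G}, c ∈ C ↔ c * z = z * c := fun {c} => h.mem_C hZz
  obtain ⟨π, hπ⟩ : ∃ π : C →* C ⧸ Cfsg.pCore 3 C, π = QuotientGroup.mk' (Cfsg.pCore 3 C) := ⟨_, rfl⟩
  have hπs : Function.Surjective π := by rw [hπ]; exact QuotientGroup.mk'_surjective _
  have hπe : ∀ {a b : C}, π a = π b → ∃ q ∈ Q, (a : G) = b * q := by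
    intro a b hab; rw [hπ] at hab; exact h.mk_eq hab
  have hπ1 : ∀ {a : C}, π a = 1 → (a : G) ∈ Q := by
    intro a ha; rw [hπ] at ha; exact h.mk_one ha
  have hπQ : ∀ {a : C}, (a : G) ∈ Q → π a = 1 := by
    intro a ha; rw [hπ]; exact h.mk_Q ha
  obtain ⟨ci, hci⟩ := hπs i
  obtain ⟨cj', hcj⟩ := hπs j
  obtain ⟨cs, hcs⟩ := hπs s
  have d := h.data
  -- the involution `t`
  have h4 : (ci * ci) * (ci * ci) ∈ (Q.subgroupOf C) := by
    rw [mem_subgroupOf]
    apply hπ1
    rw [map_mul, map_mul, hci, d.tt]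
  have h12 : ((ci * ci) * (ci * ci)) ^ 3 = 1 := Subtype.ext (hex.exp _ h4)
  obtain ⟨t', ht'⟩ : ∃ t', t' = (ci * ci) * (ci * ci) * (ci * ci) := ⟨_, rfl⟩
  have htt' : t' * t' = 1 := by
    rw [← h12, ht']
    simp only [pow_succ, pow_zero, one_mul, mul_assoc]
  have hπt : π t' = i * i := by
    rw [ht', map_mul, map_mul, map_mul, hci, d.tt, one_mul]
  have htt : (t' : G) * t' = 1 := congrArg Subtype.val htt'
  have htz : (t' : G) * z = z * t' := memC.1 t'.2
  have hnor : ∀ c, c * z = z * c → ∀ q ∈ Q, c * q * c⁻¹ ∈ Q := fun c hc q hq => h.nor (memC.2 hc) hq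
  have hTt : Tt Q z t' := ⟨hex, htt, htz, hnor t' htz⟩
  have htQ : (t' : G) ∉ Q := by
    intro h1
    apply d.t1
    rw [← hπt, hπQ h1]
  have htcen : ∀ c, c * z = z * c → ⁅(t' : G), c⁆ ∈ Q := by
    intro c hc
    apply hπ1 (a := ⁅t', ⟨c, memC.2 hc⟩⁆)
    rw [map_commutatorElement, hπt]
    exact commutatorElement_eq_one_iff_mul_comm.2 (d.cen _)
  have hne : ∃ q ∈ Q, (t' : G) * q ≠ q * t' := by
    by_contra hcon
    push Not at hcon
    exact htQ (h.hCQ (mem_centralizer_iff.2 fun q hq => (hcon q hq).symm))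
  -- relations
  have hcz : ∀ c : C, (c : G) * z = z * c := fun c => memC.1 c.2
  have hcn : ∀ c : C, ∀ q ∈ Q, (c : G) * q * (c : G)⁻¹ ∈ Q := fun c => hnor c (hcz c)
  obtain ⟨rt, hrt, ert⟩ := hπe (a := ci * ci) (b := t') (by rw [map_mul, hci, hπt])
  rw [Subgroup.coe_mul] at ert
  obtain ⟨r1, hr1, e1⟩ := hπe (a := cj' * cj') (b := ci * ci) (by rw [map_mul, map_mul, hci, hcj, d.ij])
  rw [Subgroup.coe_mul, Subgroup.coe_mul] at e1
  obtain ⟨r2, hr2, e2⟩ := hπe (a := ci * cj') (b := (ci * ci) * (cj' * ci)) (by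
    rw [map_mul, map_mul, map_mul, map_mul, hci, hcj, d.rel])
  rw [Subgroup.coe_mul, Subgroup.coe_mul, Subgroup.coe_mul, Subgroup.coe_mul] at e2
  obtain ⟨r3, hr3, e3⟩ := hπe (a := cs * ci) (b := cj' * cs) (by rw [map_mul, map_mul, hci, hcj, hcs, d.si])
  rw [Subgroup.coe_mul, Subgroup.coe_mul] at e3
  obtain ⟨r4, hr4, e4⟩ := hπe (a := cs * cj') (b := ci * cj' * cs) (by
    rw [map_mul, map_mul, map_mul, hci, hcj, hcs, d.sj])
  rw [Subgroup.coe_mul, Subgroup.coe_mul, Subgroup.coe_mul] at e4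
  have e5 : (cs : G) * cs * cs ∈ Q := by
    have := hπ1 (a := cs * cs * cs) (by rw [map_mul, map_mul, hcs, d.s3])
    exact this
  -- `t` is in `K`
  have htK : (t' : G) ∈ K := by
    rw [h.hK]
    refine ⟨t', ?_, rfl⟩
    rw [SetLike.mem_coe, mem_comap, ← hπ, hπt]
    refine d.mem _ (mul_mem (subset_closure ?_) (subset_closure ?_)) <;> simp
  -- `t` has fixed points
  have hne2 : ∃ q ∈ two Q (t' : G), q ∉ zpowers z := by
    by_contra hcon
    push Not at hcon
    have hinv : ∀ q ∈ Q, (t' : G) * q * (t' : G)⁻¹ * q ∈ zpowers z := by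
      intro q hq
      have h1 := hcon _ (hTt.f_mem hq)
      rw [inv_mem_iff, hTt.comm_self hq] at h1
      exact h1
    have hinv2 : ∀ q ∈ Q, ((ci : G) * ci) * q * ((ci : G) * ci)⁻¹ * q ∈ zpowers z := by
      intro q hq
      have h5 : ⁅rt, q⁆ ∈ zpowers z := hex.comm rt hrt q hq
      have h6 : ((ci : G) * ci) * q * ((ci : G) * ci)⁻¹ * q = (t' * ⁅rt, q⁆ * (t' : G)⁻¹) * (t' * q * (t' : G)⁻¹ * q) := by
        rw [ert, commutatorElement_def]; group
      rw [h6, hTt.fix_z h5]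
      exact mul_mem h5 (hinv q hq)
    obtain ⟨B, hB1, hB2, hBi, hBj, hBs⟩ := exists_between hex (hcn ci) (hcn cj') (hcn cs) (hcz ci) (hcz cj') (hcz cs)
      hinv2 ⟨r1, hr1, e1⟩ ⟨r2, hr2, e2⟩ ⟨r3, hr3, e3⟩ ⟨r4, hr4, e4⟩ e5
    -- every factor is noncentral
    have hall : ∀ n : Fin r, ∃ k ∈ K, ∃ a ∈ A n.succ, k * a * k⁻¹ * a⁻¹ ∉ A n.castSucc := by
      intro n
      obtain ⟨a, ha, ha'⟩ := SetLike.exists_of_lt (h.hmono n)
      refine ⟨t', htK, a, ha, fun h1 => ha' ?_⟩
      have haQ : a ∈ Q := by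
        have h2 : ∀ m : Fin (r + 1), A m ≤ Q := by
          intro m
          have h3 : ∀ k : ℕ, ∀ hk : k < r + 1, A ⟨k, hk⟩ ≤ A (Fin.last r) := by
            intro k hk
            have h4 : Monotone A := Fin.monotone_iff_le_succ.2 fun m => (h.hmono m).le
            exact h4 (Fin.le_last _)
          rw [← h.hAr]
          exact h3 m m.2
        exact h2 _ ha
      have h2 : (t' : G) * a * (t' : G)⁻¹ * a ∈ A n.castSucc := by
        apply h.chain_le
        rw [hZz]
        exact hinv a haQ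
      have h3 : a * a ∈ A n.castSucc := by
        have := mul_mem (inv_mem h1) h2
        have h4 : (((t' : G) * a * (t' : G)⁻¹ * a⁻¹)⁻¹ * ((t' : G) * a * (t' : G)⁻¹ * a)) = a * a := by group
        rwa [h4] at this
      have h4 : a = (a * a)⁻¹ := by
        rw [eq_inv_iff_mul_eq_one, ← mul_assoc]
        have := hex.exp a haQ
        rwa [pow_succ, pow_two] at this
      rw [h4]
      exact inv_mem h3
    -- so there is just one factor
    obtain ⟨n, hn, hn2⟩ := h.hone
    have hr1 : r = 1 := by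
      have hn' : ∀ m : Fin r, m = n := fun m => hn2 m (hall m)
      have h1 : Fintype.card (Fin r) = 1 := Fintype.card_eq_one_iff.2 ⟨n, hn'⟩
      rwa [Fintype.card_fin] at h1
    subst hr1
    have hA1 : A (Fin.last 1) = Q := h.hAr
    have hA0' : A ((0 : Fin 1).castSucc) = Z := h.hA0
    have hA1' : A ((0 : Fin 1).succ) = Q := h.hAr
    obtain ⟨k, hk, b, hb, hkb⟩ := h.hmax 0 B (by rw [hA0', hZz]; exact hB1) (by rw [hA1']; exact hB2)
    apply hkb
    -- `K` normalises `B`
    have hfB : Finite (B : Set G) := inferInstanceAs (Finite B)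
    have hQB : ∀ q ∈ Q, ∀ b ∈ B, q * b * q⁻¹ ∈ B := by
      intro q hq b hb
      have h1 := hex.comm q hq b (hB2.le hb)
      have h2 : q * b * q⁻¹ = ⁅q, b⁆ * b := by rw [commutatorElement_def]; group
      rw [h2]
      exact mul_mem (hB1.le h1) hb
    rw [h.hK] at hk
    obtain ⟨c, hc, rfl⟩ := hk
    rw [SetLike.mem_coe, mem_comap, ← hπ] at hc
    have h1 : Cfsg.pResidual 2 (C ⧸ Cfsg.pCore 3 C) ≤ closure ({i, j, s} : Set (C ⧸ Cfsg.pCore 3 C)) := by
      rw [Cfsg.pResidual, closure_le]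
      intro x hx
      exact d.gen x hx
    have h2 : closure ({i, j, s} : Set (C ⧸ Cfsg.pCore 3 C)) ≤ ((normalizer (B : Set G)).subgroupOf C).map π := by
      rw [closure_le]
      have key : ∀ c : C, (∀ b ∈ B, (c : G) * b * (c : G)⁻¹ ∈ B) → π c ∈ ((normalizer (B : Set G)).subgroupOf C).map π := by
        intro c hc
        exact ⟨c, mem_subgroupOf.2 (mem_normalizer_fintype hc), rfl⟩
      rintro x (rfl | rfl | rfl)
      · rw [← hci]; exact key ci hBi
      · rw [← hcj]; exact key cj' hBj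
      · rw [← hcs]; exact key cs hBs
    obtain ⟨n', hn', hn3⟩ := h2 (h1 hc)
    obtain ⟨q, hq, e⟩ := hπe hn3.symm
    have h3 : (n' : G) ∈ normalizer (B : Set G) := mem_subgroupOf.1 hn'
    have h4 : (C.subtype c : G) = n' * q := e
    rw [h4]
    have h5 := (mem_normalizer_iff.1 h3 (q * b * q⁻¹)).1 (hQB q hq b hb)
    have h6 : (n' : G) * q * b * ((n' : G) * q)⁻¹ = n' * (q * b * q⁻¹) * (n' : G)⁻¹ := by group
    rw [h6]
    exact h5
  have hcards := hTt.card_cases hne hne2
  -- the subgroup `C`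
  have hCe : C = centralizer ({z} : Set G) := by
    ext c
    rw [memC, mem_centralizer_singleton_iff]
  have hZcard : Nat.card Z = 3 := by rw [hZz, hex.card_z]
  -- the local hypothesis
  have hHy : Hy Q z t' :=
    { ex := hex
      nor := hnor
      idx := fun P hP hPz => h.idx hP (fun p hp => memC.2 (hPz p hp))
      tt := hTt
      tcen := htcen
      card1 := hcards.1
      card2 := hcards.2
      irr := by
        intro B hB hzB hb hcB
        obtain ⟨b, hb, hbz⟩ := hb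
        by_contra hcon
        have hlt : Nat.card B ≤ 9 := by
          have h1 : Nat.card B ∣ 3 ^ 3 := by
            have := Subgroup.card_dvd_of_le hB
            rw [hcards.1] at this
            exact this
          obtain ⟨k, hk, hk2⟩ := (Nat.dvd_prime_pow Nat.prime_three).1 h1
          have h2 : k ≠ 3 := by
            rintro rfl
            apply hcon
            have := Subgroup.eq_of_le_of_card_ge hB (by rw [hk2, hcards.1]; norm_num)
            rw [this]
          rw [hk2]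
          exact (show 3 ^ k ≤ 3 ^ 2 from Nat.pow_le_pow_right (by norm_num) (by omega))
        exact not_scalar hTt hB hzB hb hbz hlt (hcB ci (hcz ci)) (hcz ci) hrt ert }
  obtain ⟨g, hg1, hg2⟩ := h.hZQ
  have hgz : g * z * g⁻¹ ∈ Z.map (MulAut.conj g).toMonoidHom := ⟨z, by rw [hZz]; exact mem_zpowers z, rfl⟩
  have hGl : Gl Q z t' g S :=
    { hy := hHy
      cQ := h.hCQ
      QS := h.QS
      Sz := fun s hs => memC.1 (h.SC hs)
      cS := by
        intro y hy hys
        rw [← hZz, h.hZ]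
        exact ⟨hy, mem_centralizer_iff.2 hys⟩
      solv := by
        rw [← hCe]
        exact isSolvable_of_dvd h.cardC.1
      pcore := by
        intro N hN1 hN2 hN3
        have hNC : N ≤ C := fun n hn => memC.2 (hN1 n hn)
        have h1 : N.subgroupOf C ≤ Cfsg.pCore 3 C := by
          refine Cfsg.Agent.Lib.Cores.le_pCore ?_ ?_
          · constructor
            intro n hn c
            rw [mem_subgroupOf] at hn ⊢
            exact hN2 c (hcz c) n hn
          · exact hN3.of_equiv (subgroupOfEquivOfLe hNC).symm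
        intro n hn
        exact (h.mem_Q (c := ⟨n, hNC hn⟩)).2 (h1 (mem_subgroupOf.2 hn))
      gx := hg1 hgz
      gxz := by
        intro h1
        apply hg2
        have h2 : Z.map (MulAut.conj g).toMonoidHom ≤ Z := by
          rw [hZz, MonoidHom.map_zpowers, zpowers_le]
          exact h1
        refine Subgroup.eq_of_le_of_card_ge h2 ?_
        have h3 : Nat.card (Z.map (MulAut.conj g).toMonoidHom) = Nat.card Z :=
          (Nat.card_congr (Z.equivMapOfInjective _ (MulAut.conj g).injective).toEquiv).symm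
        rw [h3] }
  refine ⟨z, t', g, ⟨hGl, ?_, h.cardS, ?_⟩⟩
  · rw [← hCe]; exact h.cardC.1
  · -- `t` lies in the normal subgroups containing `S`
    intro N hN hSN
    -- `cs` lies in `N`
    have hcsN : (cs : G) ∈ N := by
      have h1 : (cs : C) ^ 9 = 1 := by
        have h2 := hex.exp _ e5
        have h3 : ((cs * cs * cs : C) : G) ^ 3 = 1 := h2
        have h4 : (cs * cs * cs : C) ^ 3 = 1 := Subtype.ext h3
        rw [← h4]
        simp only [pow_succ, pow_zero, one_mul, mul_assoc]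
      have hp : IsPGroup 3 (zpowers cs) := by
        refine IsPGroup.of_card_dvd_pow (n := 2) ?_
        rw [Nat.card_zpowers]
        exact orderOf_dvd_of_pow_eq_one (by rw [← h1]; norm_num)
      obtain ⟨P, hP⟩ := hp.exists_le_sylow
      obtain ⟨k, hk⟩ := MulAction.exists_smul_eq C P (S.subtype h.SC)
      have hky : k * cs * k⁻¹ ∈ (S.subtype h.SC : Subgroup C) := by
        rw [← hk]
        exact Subgroup.smul_mem_pointwise_smul cs (MulAut.conj k) (P : Subgroup C) (hP (Subgroup.mem_zpowers _))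
      have h2 : (k : G) * cs * (k : G)⁻¹ ∈ N := hSN hky
      have h3 := hN (k : G)⁻¹ (hcz k⁻¹) _ h2
      have h4 : (k : G)⁻¹ * ((k : G) * cs * (k : G)⁻¹) * ((k : G)⁻¹)⁻¹ = cs := by group
      rwa [h4] at h3
    have hu : (cs : G) * ci * (cs : G)⁻¹ * (ci : G)⁻¹ ∈ N := by
      have h1 := hN ci (hcz ci) _ (inv_mem hcsN)
      have h2 : (cs : G) * ci * (cs : G)⁻¹ * (ci : G)⁻¹ = cs * (ci * (cs : G)⁻¹ * (ci : G)⁻¹) := by group
      rw [h2]
      exact mul_mem hcsN h1
    have hQN : Q ≤ N := h.QS.trans hSN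
    have h1 : π ((cs * ci * cs⁻¹ * ci⁻¹) * (cs * ci * cs⁻¹ * ci⁻¹)) = π t' := by
      have hsi : s * i * s⁻¹ = j := by rw [d.si, mul_inv_cancel_right]
      simp only [map_mul, map_inv, hci, hcs, hπt]
      rw [hsi]
      have h2 : i⁻¹ = (i * i) * i := by
        rw [inv_eq_iff_mul_eq_one, ← mul_assoc, ← mul_assoc, mul_assoc]
        exact d.tt
      have h3 : j * i = (i * i) * (i * j) := by
        rw [d.rel, ← mul_assoc, d.tt, one_mul]
      have ht1 : ∀ x, (i * i) * ((i * i) * x) = x := by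
        intro x; rw [← mul_assoc, d.tt, one_mul]
      calc j * i⁻¹ * (j * i⁻¹) = (j * ((i * i) * i)) * (j * ((i * i) * i)) := by rw [h2]
        _ = ((i * i) * (j * i)) * ((i * i) * (j * i)) := by
          rw [← mul_assoc j (i * i) i, ← d.cen j, mul_assoc (i * i) j i]
        _ = (i * j) * (i * j) := by rw [h3, ht1]
        _ = i * (j * i) * j := by simp only [mul_assoc]
        _ = i * ((i * i) * (i * j)) * j := by rw [h3]
        _ = ((i * i) * (i * i)) * (j * j) := by simp only [mul_assoc]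
        _ = i * i := by rw [d.tt, d.ij, one_mul]
    obtain ⟨q, hq, e⟩ := hπe h1
    have h2 : (t' : G) = ((cs * ci * cs⁻¹ * ci⁻¹) * (cs * ci * cs⁻¹ * ci⁻¹) : C) * q⁻¹ := by
      rw [e]; group
    rw [h2]
    exact mul_mem (mul_mem hu hu) (inv_mem (hQN hq))

end St

end Cfsg.Agent.H351.OE
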