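import Cfsg.Agent.H351.OE.Elim
import Cfsg.Agent.H351.OE.Full2
import Cfsg.Agent.StdO8.Model

/-!
# S3372: the final step
-/

set_option autoImplicit false
set_option linter.unusedSectionVars false
set_option linter.unusedVariables false

namespace Cfsg.Agent.H351.OE

open Subgroup Cfsg Cfsg.Agent.OrdDiv

universe u

theorem exists_omega {F : Type} [Field F] [Fintype F] (hF : Fintype.card F = 2) :
    Nonempty (POmega F (quadFormPlus 4 F) ≃* Omega (ZMod 2) (quadFormPlus 4 (ZMod 2))) := by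
  have h : Fintype.card F = Fintype.card (ZMod 2) := by rw [hF, ZMod.card]
  have e : F ≃+* ZMod 2 := FiniteField.ringEquivOfCardEq h
  have e1 : Cfsg.POmega F (Cfsg.quadFormPlus 4 F) ≃* Cfsg.POmega (ZMod 2) (Cfsg.quadFormPlus 4 (ZMod 2)) :=
    Cfsg.Agent.LieClassical.OrthFinite.quotientCenterCongr (Cfsg.Agent.StdO8.Model.omCongr e)
  have e2 : Cfsg.POmega (ZMod 2) (Cfsg.quadFormPlus 4 (ZMod 2)) ≃*
      Cfsg.Omega (ZMod 2) (Cfsg.quadFormPlus 4 (ZMod 2)) :=
    (QuotientGroup.quotientMulEquivOfEq Cfsg.Agent.StdO8.Model.center_eq).trans QuotientGroup.quotientBot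
  exact ⟨e1.trans e2⟩

theorem not_dvd_omega {F : Type} [Field F] [Fintype F] (hF : Fintype.card F = 2) :
    ¬ 3 ^ 6 ∣ Nat.card (POmega F (quadFormPlus 4 F)) := by
  have h1 := Cfsg.Agent.S0293.result (F := F) rfl 4 le_rfl
  rw [hF] at h1
  intro h2
  have h3 : 3 ^ 6 ∣ 2 ^ (4 * (4 - 1)) * (2 ^ 4 - 1) * ∏ i ∈ Finset.range (4 - 1), (2 ^ (2 * (i + 1)) - 1) := by
    rw [← h1]; exact h2.mul_left _
  revert h3
  decide +kernel

variable {G : Type u} [Group G] [Finite G]

theorem aut_dvd {N : Subgroup G} (hN : N.Normal) (hc : centralizer (N : Set G) = ⊥) :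
    Nat.card G ∣ Nat.card (MulAut N) := by
  have hfA : Finite (MulAut N) := Finite.of_injective (fun e : MulAut N => (e : N → N)) DFunLike.coe_injective
  let f : G →* MulAut N := MulAut.conjNormal
  have hf : Function.Injective f := by
    rw [injective_iff_map_eq_one]
    intro g hg
    have h1 : g ∈ centralizer (N : Set G) := by
      rw [mem_centralizer_iff]
      intro n hn
      have h2 : ((f g) ⟨n, hn⟩ : G) = n := by rw [hg]; rfl
      have h3 : g * n * g⁻¹ = n := h2
      exact (mul_inv_eq_iff_eq_mul.1 h3).symm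
    rw [hc, mem_bot] at h1
    exact h1
  exact Subgroup.card_dvd_of_injective f hf

theorem Full.final {Q : Subgroup G} {z t g : G} {S : Sylow 3 G} (h : Full Q z t g S)
    (hK : IsKnownSimple' (layer G)) :
    ∃ N : Subgroup G, N.Normal ∧ Nonempty (N ≃* Cfsg.Omega (ZMod 2) (Cfsg.quadFormPlus 4 (ZMod 2))) ∧
      Subgroup.centralizer (N : Set G) = ⊥ ∧ (N.index = 3 ∨ N.index = 6) := by
  obtain ⟨hn, hs, hna, hz, hc, hgf⟩ := h.toGl.simple
  obtain ⟨F, _, _, hF, ⟨e⟩⟩ := elim table.{0} table.{u} hK h.e3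
  obtain ⟨e'⟩ := exists_omega hF
  refine ⟨layer G, hn, ⟨e.trans e'⟩, hc, ?_⟩
  have h1 := aut_dvd hn hc
  have h2 : Nat.card (MulAut (layer G)) = 6 * Nat.card (layer G) := by
    have : Fact (Nat.Prime 2) := ⟨Nat.prime_two⟩
    have h3 := Cfsg.Agent.S0817.result (F := F) 2 1 le_rfl (by rw [hF, pow_one]) 4 le_rfl
    rw [if_pos rfl, if_pos rfl] at h3
    rw [Nat.card_congr (MulAut.congr e).toEquiv, h3, Nat.card_congr e.toEquiv]
  have h3 : (layer G).index ∣ 6 := by
    rw [h2, ← Subgroup.card_mul_index (layer G), mul_comm 6] at h1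
    exact Nat.dvd_of_mul_dvd_mul_left Nat.card_pos h1
  have h4 : 3 ∣ (layer G).index := by
    by_contra h5
    have h6 := h.card_G.1
    rw [← Subgroup.card_mul_index (layer G)] at h6
    have h7 : 3 ^ 6 ∣ Nat.card (layer G) :=
      (Nat.Coprime.pow_left 6 ((Nat.Prime.coprime_iff_not_dvd Nat.prime_three).2 h5)).dvd_of_dvd_mul_right h6
    rw [Nat.card_congr e.toEquiv] at h7
    exact not_dvd_omega hF h7
  have h5 : (layer G).index ≤ 6 := Nat.le_of_dvd (by norm_num) h3
  interval_cases hi : (layer G).index <;> revert h3 h4 <;> decide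

end Cfsg.Agent.H351.OE
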