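import Cfsg.Agent.H351.OE.Start

/-!
# S3372: the global hypothesis from the hypotheses of the statement
-/

set_option autoImplicit false
set_option linter.unusedSectionVars false

namespace Cfsg.Agent.H351.OE

open Subgroup Cfsg
open scoped commutatorElement

variable {G : Type*} [Group G] [Finite G]

/-- everything which is used about `G` -/
structure Full (Q : Subgroup G) (z t g : G) (S : Sylow 3 G) : Prop extends Gl Q z t g S where
  cardC : Nat.card (centralizer ({z} : Set G)) ∣ 2 ^ 4 * 3 ^ 6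
  cardS : Nat.card S = 3 ^ 6
  tS : ∀ N : Subgroup G, (∀ c, c * z = z * c → ∀ n ∈ N, c * n * c⁻¹ ∈ N) → (S : Subgroup G) ≤ N → t ∈ N

namespace St

variable {S : Sylow 3 G} {Z C Q K : Subgroup G} {r : ℕ} {A : Fin (r + 1) → Subgroup G}
  {i j s : C ⧸ Cfsg.pCore 3 C}

theorem mem_C (h : St S Z C Q K r A i j s) {z : G} (hz : Z = zpowers z) {c : G} : c ∈ C ↔ c * z = z * c := by
  rw [h.hCZ, hz, mem_centralizer_iff]
  constructor
  · intro h1
    exact (h1 z (mem_zpowers z)).symm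
  · intro h1 y hy
    obtain ⟨n, rfl⟩ := hy
    exact ((show Commute c z from h1).zpow_right n).eq.symm

theorem mk_eq (h : St S Z C Q K r A i j s) {a b : C}
    (hab : (QuotientGroup.mk' (Cfsg.pCore 3 C)) a = (QuotientGroup.mk' (Cfsg.pCore 3 C)) b) :
    ∃ q ∈ Q, (a : G) = b * q := by
  have h1 : (a : C)⁻¹ * b ∈ Cfsg.pCore 3 C := QuotientGroup.eq.1 hab
  have h2 := (h.mem_Q (c := a⁻¹ * b)).2 h1
  refine ⟨((a⁻¹ * b : C) : G)⁻¹, inv_mem h2, ?_⟩
  rw [Subgroup.coe_mul, Subgroup.coe_inv]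
  group

theorem mk_one (h : St S Z C Q K r A i j s) {a : C}
    (ha : (QuotientGroup.mk' (Cfsg.pCore 3 C)) a = 1) : (a : G) ∈ Q :=
  (h.mem_Q).2 ((QuotientGroup.eq_one_iff a).1 ha)

theorem mk_Q (h : St S Z C Q K r A i j s) {a : C} (ha : (a : G) ∈ Q) :
    (QuotientGroup.mk' (Cfsg.pCore 3 C)) a = 1 := (QuotientGroup.eq_one_iff a).2 ((h.mem_Q).1 ha)

theorem nor (h : St S Z C Q K r A i j s) {c : G} (hc : c ∈ C) {q : G} (hq : q ∈ Q) : c * q * c⁻¹ ∈ Q := by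
  have h1 : (⟨q, h.QC hq⟩ : C) ∈ Cfsg.pCore 3 C := (h.mem_Q).1 hq
  have hn : (Cfsg.pCore 3 C).Normal := Cfsg.Agent.Lib.Cores.pCore_normal 3
  exact (h.mem_Q (c := ⟨c, hc⟩ * ⟨q, h.QC hq⟩ * ⟨c, hc⟩⁻¹)).2 (hn.conj_mem _ h1 _)

/-- powers of three dividing `48` -/
theorem le_three {n m : ℕ} (h1 : n ∣ 48) (h2 : n ∣ 3 ^ m) : n ≤ 3 := by
  have h3 : Nat.Coprime n 16 := by
    apply Nat.Coprime.coprime_dvd_left h2
    exact Nat.Coprime.pow_left m (by norm_num)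
  have h4 : n ∣ 3 := by
    apply Nat.Coprime.dvd_of_dvd_mul_left h3
    exact h1
  exact Nat.le_of_dvd (by norm_num) h4

theorem idx (h : St S Z C Q K r A i j s) {P : Subgroup G} (hP : IsPGroup 3 P) (hPC : P ≤ C) :
    Nat.card P ≤ 3 * Nat.card (P ⊓ Q : Subgroup G) := by
  have hF : Fact (Nat.Prime 3) := ⟨Nat.prime_three⟩
  let f : P →* C ⧸ Cfsg.pCore 3 C := (QuotientGroup.mk' (Cfsg.pCore 3 C)).comp (Subgroup.inclusion hPC)
  have h1 := Subgroup.card_mul_index f.ker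
  rw [Subgroup.index_ker] at h1
  have h2 : Nat.card f.range ≤ 3 := by
    obtain ⟨m, hm⟩ := IsPGroup.iff_card.1 hP
    refine le_three (m := m) ((Subgroup.card_subgroup_dvd_card _).trans h.data.dvd) ?_
    rw [← hm]
    exact Subgroup.card_range_dvd f
  have h3 : Nat.card f.ker = Nat.card (P ⊓ Q : Subgroup G) := by
    refine Nat.card_congr
      { toFun := fun p => ⟨(p : P), (p : P).2, h.mk_one (a := Subgroup.inclusion hPC (p : P)) (MonoidHom.mem_ker.1 p.2)⟩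
        invFun := fun q => ⟨⟨q, q.2.1⟩, MonoidHom.mem_ker.2 (h.mk_Q (a := ⟨q, hPC q.2.1⟩) q.2.2)⟩
        left_inv := fun p => rfl
        right_inv := fun q => rfl }
  rw [h3] at h1
  rw [← h1, mul_comm]
  exact Nat.mul_le_mul_right _ h2

theorem cardC (h : St S Z C Q K r A i j s) : Nat.card C ∣ 2 ^ 4 * 3 ^ 6 ∧ 3 ^ 6 ∣ Nat.card C := by
  have h1 := Subgroup.card_mul_index (Cfsg.pCore 3 C)
  have h2 : Nat.card (Cfsg.pCore 3 C) = 3 ^ 5 := by
    rw [← h.hQcard]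
    rw [h.hQ]
    exact (Nat.card_congr ((Cfsg.pCore 3 C).equivMapOfInjective C.subtype C.subtype_injective).toEquiv)
  rw [h2] at h1
  have h3 : Nat.card (C ⧸ Cfsg.pCore 3 C) = (Cfsg.pCore 3 C).index := rfl
  have h4 := h.data.dvd
  have h5 := h.data.three
  rw [h3] at h4 h5
  rw [← h1]
  constructor
  · have := Nat.mul_dvd_mul_left (3 ^ 5) h4
    exact this
  · have := Nat.mul_dvd_mul_left (3 ^ 5) h5
    exact this

theorem cardS (h : St S Z C Q K r A i j s) : Nat.card S = 3 ^ 6 := by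
  have hF : Fact (Nat.Prime 3) := ⟨Nat.prime_three⟩
  obtain ⟨k, hk⟩ := IsPGroup.iff_card.1 S.isPGroup'
  have h1 : Nat.card S ∣ 2 ^ 4 * 3 ^ 6 := (Subgroup.card_dvd_of_le h.SC).trans h.cardC.1
  have h2 : 3 ^ 6 ∣ Nat.card S := by
    have h3 : 3 ^ 6 ∣ Nat.card G := h.cardC.2.trans (Subgroup.card_subgroup_dvd_card C)
    exact S.pow_dvd_card_of_pow_dvd_card h3
  have hk' : Nat.card S = 3 ^ k := hk
  rw [hk'] at h1 h2 ⊢
  have h4 : 3 ^ k ∣ 3 ^ 6 := by
    apply Nat.Coprime.dvd_of_dvd_mul_left _ h1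
    exact Nat.Coprime.pow _ _ (by norm_num)
  exact Nat.dvd_antisymm h4 h2

end St

end Cfsg.Agent.H351.OE
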