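import Cfsg.Agent.H351.OE.Simple
import Cfsg.Agent.H343.ElimOrth
import Cfsg.Agent.H128.Val3

/-!
# S3372: tools for the elimination
-/

set_option autoImplicit false
set_option linter.unusedSectionVars false
set_option linter.unusedVariables false

namespace Cfsg.Agent.H351.OE

open Subgroup Cfsg H343

variable {X : Type*} [Group X]

theorem E3.vv (h : E3 X) : padicValNat 3 (Nat.card X) = 5 ∨ padicValNat 3 (Nat.card X) = 6 := by
  have := h.fin
  have hF : Fact (Nat.Prime 3) := ⟨Nat.prime_three⟩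
  have h0 : Nat.card X ≠ 0 := Nat.card_pos.ne'
  have h1 := (padicValNat_dvd_iff_le h0).mp h.d5
  have h2 : ¬ 7 ≤ padicValNat 3 (Nat.card X) := fun h' => h.n7 ((padicValNat_dvd_iff_le h0).mpr h')
  omega

theorem E3.six_of_vv (h : E3 X) (h6 : padicValNat 3 (Nat.card X) = 6) : 3 ^ 6 ∣ Nat.card X := by
  have := h.fin
  have hF : Fact (Nat.Prime 3) := ⟨Nat.prime_three⟩
  exact (padicValNat_dvd_iff_le Nat.card_pos.ne').mpr h6.ge

theorem E3.pair (h : E3 X) {A B : Type*} [Group A] [Group B] (P : CommPair A B X) (hA : 27 ∣ Nat.card A) :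
    Nat.card B ∣ N0 := by
  have := h.fin
  obtain ⟨d, ⟨a, rfl⟩, -, hd⟩ := h.c27 P.f.range (by
    rwa [← Nat.card_congr (MonoidHom.ofInjective P.hf).toEquiv])
  exact (card_dvd_centralizer P.g P.hg _ (P.comm a)).trans hd

theorem E3.pair' (h : E3 X) {A B : Type*} [Group A] [Group B] (P : CommPair A B X) {d : A} (hd : orderOf d = 3)
    (hdc : d ∉ center A) (hB : 9 ∣ Nat.card B) : Nat.card (centralizer ({d} : Set A)) ∣ N0 := by
  have := h.fin
  have hfA : Finite A := Finite.of_injective _ P.hf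
  have hfB : Finite B := Finite.of_injective _ P.hg
  let φ : (zpowers d) × B →* X := MonoidHom.noncommCoprod (P.f.comp (zpowers d).subtype) P.g (fun a b => P.comm _ _)
  have hφ : Function.Injective φ := by
    rw [injective_iff_map_eq_one]
    rintro ⟨a, b⟩ hab
    have h1 : P.f a * P.g b = 1 := hab
    have ha : a = 1 := by
      by_contra ha
      have h2 : (a : A) ∈ center A := by
        rw [mem_center_iff]
        intro x
        apply P.hf
        have h3 : P.f (a : A) = P.g b⁻¹ := by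
          rw [map_inv]; exact eq_inv_of_mul_eq_one_left h1
        rw [map_mul, map_mul, h3, P.comm]
      have h3 : zpowers (a : A) = zpowers d := by
        apply Subgroup.eq_of_le_of_card_ge
        · rw [zpowers_le]; exact a.2
        · rw [Nat.card_zpowers, Nat.card_zpowers, hd]
          have h4 : orderOf (a : A) ∣ 3 := by
            have h6 := Subgroup.orderOf_dvd_natCard _ a.2
            rwa [Nat.card_zpowers, hd] at h6
          rcases (Nat.dvd_prime Nat.prime_three).1 h4 with h5 | h5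
          · exact absurd (Subtype.ext (orderOf_eq_one_iff.1 h5)) ha
          · exact h5.ge
      have h4 : d ∈ zpowers (a : A) := by rw [h3]; exact mem_zpowers d
      exact hdc ((zpowers_le.2 h2) h4)
    subst ha
    have hb : b = 1 := by
      apply P.hg
      rw [OneMemClass.coe_one, map_one, one_mul] at h1
      rw [h1, map_one]
    rw [hb]; rfl
  have hc : 27 ∣ Nat.card φ.range := by
    rw [← Nat.card_congr (MonoidHom.ofInjective hφ).toEquiv, Nat.card_prod, Nat.card_zpowers, hd]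
    exact Nat.mul_dvd_mul_left 3 hB
  obtain ⟨_, ⟨⟨a, b⟩, rfl⟩, -, h1⟩ := h.c27 φ.range hc
  have h2 : (centralizer ({d} : Set A)).map P.f ≤ centralizer ({φ (a, b)} : Set X) := by
    rintro _ ⟨c, hc, rfl⟩
    rw [mem_centralizer_singleton_iff]
    have hc' : Commute c d := mem_centralizer_singleton_iff.1 hc
    have h3 : c * (a : A) = a * c := by
      obtain ⟨i, hi⟩ := a.2
      rw [← hi]
      exact (hc'.zpow_right i).eq
    change P.f c * (P.f a * P.g b) = P.f a * P.g b * P.f c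
    rw [← mul_assoc, ← map_mul, h3, map_mul, mul_assoc, P.comm, mul_assoc]
  have h3 := Subgroup.card_dvd_of_le h2
  rw [Subgroup.card_map_of_injective P.hf] at h3
  exact h3.trans h1

theorem E3.hasAb (h : E3 X) {N : ℕ} (hN : H128.AbelianClassical.HasAb 3 X N) :
    3 ∣ N.factorial ∧ (3 ^ 6 ∣ Nat.card X → 9 ∣ N.factorial) := by
  have := h.fin
  refine ⟨?_, fun h6 => ?_⟩
  · have := H128.Val3.dvd_factorial (c := 4) h.d5 h.ab hN
    simpa using this
  · have := H128.Val3.dvd_factorial (c := 4) h6 h.ab hN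
    simpa using this

theorem E3.three_le (h : E3 X) {N : ℕ} (hN : H128.AbelianClassical.HasAb 3 X N) : 3 ≤ N := by
  by_contra hc
  have h1 := (h.hasAb hN).1
  have : N = 0 ∨ N = 1 ∨ N = 2 := by omega
  rcases this with rfl | rfl | rfl <;> revert h1 <;> decide

theorem E3.six_le (h : E3 X) {N : ℕ} (hN : H128.AbelianClassical.HasAb 3 X N) (h6 : 3 ^ 6 ∣ Nat.card X) : 6 ≤ N := by
  by_contra hc
  have h1 := (h.hasAb hN).2 h6
  have : N < 6 := by omega
  interval_cases N <;> revert h1 <;> decide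

/-- the list of admissible `q` -/
theorem qlist0 {q : ℕ} (hq : IsPrimePow q) (h : q * (q ^ 2 - 1) ∣ 2 * N0) : q ∈ [2, 3] := by
  obtain ⟨p, k, hp, hk, rfl⟩ := (isPrimePow_nat_iff _).mp hq
  have h1 : p ^ k ∣ 2 * N0 := (Dvd.intro _ rfl).trans h
  have h2 : p ∣ 2 * N0 := (dvd_pow_self p hk.ne').trans h1
  have h3 : p ∈ [2, 3] := by
    have h4 : p ∣ 2 ^ 5 * 3 ^ 6 := by
      have : 2 ^ 5 * 3 ^ 6 = 2 * N0 := by decide
      rw [this]; exact h2
    rcases (Nat.Prime.dvd_mul hp).mp h4 with h4 | h4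
    · rw [(Nat.prime_dvd_prime_iff_eq hp Nat.prime_two).mp (hp.dvd_of_dvd_pow h4)]; decide
    · rw [(Nat.prime_dvd_prime_iff_eq hp Nat.prime_three).mp (hp.dvd_of_dvd_pow h4)]; decide
  have h5 : k < 8 := by
    by_contra hcon
    have h7 : p ^ 8 ∣ 2 * N0 := (pow_dvd_pow p (by omega)).trans h1
    have h8 : ∀ p ∈ [2, 3], ¬ p ^ 8 ∣ 2 * N0 := by decide +kernel
    exact h8 p h3 h7
  have h9 : ∀ p ∈ [2, 3], ∀ k < 8, 0 < k → p ^ k * ((p ^ k) ^ 2 - 1) ∣ 2 * N0 →
      p ^ k ∈ [2, 3] := by decide +kernel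
  exact h9 p h3 k h5 hk h

/-! ### valuations -/

section Val

theorem three_dvd_sq_sub {q : ℕ} (h : ¬ 3 ∣ q) : 3 ∣ q ^ 2 - 1 := by
  have h1 : q % 3 = 1 ∨ q % 3 = 2 := by omega
  have h2 : q ^ 2 % 3 = 1 := by
    rcases h1 with h | h <;> rw [Nat.pow_mod, h]
  omega

theorem v_even {q k : ℕ} (hq1 : 1 < q) (hq : ¬ 3 ∣ q) (hk : k ≠ 0) :
    padicValNat 3 (q ^ (2 * k) - 1) = padicValNat 3 (q ^ 2 - 1) + padicValNat 3 k := by
  have hF : Fact (Nat.Prime 3) := ⟨Nat.prime_three⟩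
  have h1 := padicValNat.pow_sub_pow (p := 3) (x := q ^ 2) (y := 1) (by decide) (Nat.one_lt_pow (by norm_num) hq1)
    (three_dvd_sq_sub hq) (fun h => hq (Nat.prime_three.dvd_of_dvd_pow h)) hk
  rwa [one_pow, ← pow_mul] at h1

theorem v_one {q j : ℕ} (hq1 : 1 < q) (hq : q % 3 = 1) (hj : j ≠ 0) :
    padicValNat 3 (q ^ j - 1) = padicValNat 3 (q ^ 2 - 1) + padicValNat 3 j := by
  have hF : Fact (Nat.Prime 3) := ⟨Nat.prime_three⟩
  have h1 := padicValNat.pow_sub_pow (p := 3) (x := q) (y := 1) (by decide) hq1 (by omega) (by omega) hj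
  have h2 := padicValNat.pow_sub_pow (p := 3) (x := q) (y := 1) (by decide) hq1 (by omega) (by omega)
    (show (2 : ℕ) ≠ 0 by norm_num)
  rw [one_pow] at h1 h2
  rw [h1, h2, padicValNat.eq_zero_of_not_dvd (show ¬ 3 ∣ 2 by norm_num), add_zero]

theorem v_two {q j : ℕ} (hq1 : 1 < q) (hq : q % 3 = 2) (hj : Odd j) :
    padicValNat 3 (q ^ j + 1) = padicValNat 3 (q ^ 2 - 1) + padicValNat 3 j := by
  have hF : Fact (Nat.Prime 3) := ⟨Nat.prime_three⟩
  have h1 := padicValNat.pow_add_pow (p := 3) (x := q) (y := 1) (by decide) (by omega) (by omega) hj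
  rw [one_pow] at h1
  have h2 : q ^ 2 - 1 = (q + 1) * (q - 1) := by
    have := Nat.sq_sub_sq q 1
    rwa [one_pow] at this
  rw [h1, h2, padicValNat.mul (by omega) (by omega), padicValNat.eq_zero_of_not_dvd (show ¬ 3 ∣ q - 1 by omega), add_zero]

theorem v_one_zero {q j : ℕ} (hq : q % 3 = 1) : padicValNat 3 (q ^ j + 1) = 0 := by
  apply padicValNat.eq_zero_of_not_dvd
  have h1 : q ^ j % 3 = 1 := by rw [Nat.pow_mod, hq, one_pow]; rfl
  omega

theorem v_two_zero {q j : ℕ} (hq : q % 3 = 2) (hj : Odd j) : padicValNat 3 (q ^ j - 1) = 0 := by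
  apply padicValNat.eq_zero_of_not_dvd
  obtain ⟨k, rfl⟩ := hj
  have h1 : q ^ (2 * k + 1) % 3 = 2 := by
    rw [pow_succ, pow_mul, Nat.mul_mod, Nat.pow_mod, Nat.pow_mod q 2, hq]; norm_num
  omega

theorem v_even_add_zero {q k : ℕ} (hq : ¬ 3 ∣ q) : padicValNat 3 (q ^ (2 * k) + 1) = 0 := by
  apply padicValNat.eq_zero_of_not_dvd
  have h1 : q % 3 = 1 ∨ q % 3 = 2 := by omega
  have h2 : q ^ 2 % 3 = 1 := by
    rcases h1 with h | h <;> rw [Nat.pow_mod, h]
  have h3 : q ^ (2 * k) % 3 = 1 := by rw [pow_mul, Nat.pow_mod, h2, one_pow]; rfl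
  omega

theorem v_pow_zero {q j : ℕ} (hq : ¬ 3 ∣ q) : padicValNat 3 (q ^ j) = 0 := by
  apply padicValNat.eq_zero_of_not_dvd
  exact fun h => hq (Nat.prime_three.dvd_of_dvd_pow h)

theorem v_sq_pos {q : ℕ} (hq1 : 1 < q) (hq : ¬ 3 ∣ q) : 1 ≤ padicValNat 3 (q ^ 2 - 1) := by
  have hF : Fact (Nat.Prime 3) := ⟨Nat.prime_three⟩
  have h0 : q ^ 2 - 1 ≠ 0 := by
    have : 1 < q ^ 2 := Nat.one_lt_pow (by norm_num) hq1
    omega
  exact one_le_padicValNat_of_dvd h0 (three_dvd_sq_sub hq)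

theorem pow_sub_ne {q j : ℕ} (hq1 : 1 < q) (hj : j ≠ 0) : q ^ j - 1 ≠ 0 := by
  have : 1 < q ^ j := Nat.one_lt_pow hj hq1
  omega

theorem pow_add_ne {q j : ℕ} : q ^ j + 1 ≠ 0 := by omega

/-- the valuation of `c` from `den * c = num` -/
theorem v_of {d c n : ℕ} (hd : d ≠ 0) (hc : c ≠ 0) (h : d * c = n) :
    padicValNat 3 c + padicValNat 3 d = padicValNat 3 n := by
  have hF : Fact (Nat.Prime 3) := ⟨Nat.prime_three⟩
  rw [← h, padicValNat.mul hd hc, add_comm]

end Val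

end Cfsg.Agent.H351.OE
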