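import Cfsg.Agent.H351.OE.Full2

/-!
# S3372: the action of `s ∈ S \ Q` on `Q/Z`, subgroups of order `27`
-/

set_option autoImplicit false
set_option linter.unusedSectionVars false
set_option linter.unusedVariables false

namespace Cfsg.Agent.H351.OE

open Subgroup Cfsg
open scoped commutatorElement

variable {G : Type*} [Group G]

/-- nontrivial elements of conjugates of `⟨z⟩` -/
def ZC (z d : G) : Prop := d ≠ 1 ∧ ∃ k : G, d ∈ zpowers (k * z * k⁻¹)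

theorem ZC.inv {z d : G} (h : ZC z d) : ZC z d⁻¹ := by
  obtain ⟨h1, k, hk⟩ := h
  exact ⟨inv_ne_one.2 h1, k, inv_mem hk⟩

theorem ZC.conj {z d : G} (h : ZC z d) (c : G) : ZC z (c * d * c⁻¹) := by
  obtain ⟨h1, k, hk⟩ := h
  refine ⟨fun h2 => h1 (conj_eq_one_iff.1 h2), c * k, ?_⟩
  rw [mem_zpowers_conj] at hk ⊢
  have : (c * k)⁻¹ * (c * d * c⁻¹) * (c * k) = k⁻¹ * d * k := by group
  rw [this]; exact hk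

theorem ZC.of_mem {z d : G} (hd : d ∈ zpowers z) (h1 : d ≠ 1) : ZC z d :=
  ⟨h1, 1, by rw [one_mul, inv_one, mul_one]; exact hd⟩

theorem ZC.of_conj {z d : G} {c : G} (h : ZC z (c * d * c⁻¹)) : ZC z d := by
  have := h.conj c⁻¹
  have e : c⁻¹ * (c * d * c⁻¹) * c⁻¹⁻¹ = d := by group
  rwa [e] at this

/-- bilinearity -/
theorem Ex.comm_zpow_left {Q : Subgroup G} {z : G} (h : Ex Q z) {a b : G} (ha : a ∈ Q) (hb : b ∈ Q) (n : ℤ) :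
    ⁅a ^ n, b⁆ = ⁅a, b⁆ ^ n := by
  have h1 := congrArg (fun c : zpowers z => (c : G)) (map_zpow (h.cm hb) ⟨a, ha⟩ n)
  simpa [Ex.cm] using h1

theorem Ex.comm_zpow_right {Q : Subgroup G} {z : G} (h : Ex Q z) {a b : G} (ha : a ∈ Q) (hb : b ∈ Q) (n : ℤ) :
    ⁅a, b ^ n⁆ = ⁅a, b⁆ ^ n := by
  rw [← inv_inj, commutatorElement_inv, h.comm_zpow_left hb ha, ← inv_zpow, commutatorElement_inv]

/-- elements of `Q` congruent to elements of `ZC` -/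
theorem ZC.congr {Q : Subgroup G} {z : G} (h : Ex Q z) {w e : G} (hw : ZC z w) (hwQ : w ∈ Q) (hwz : w ∉ zpowers z)
    (he : e * w⁻¹ ∈ zpowers z) : ZC z e := by
  obtain ⟨q, hq, hq2⟩ := h.exists_conj hwQ hwz he
  rw [inv_mul_cancel_right] at hq2
  rw [← hq2]
  exact hw.conj q

/-- the situation of a standard element `s` -/
structure Std (Q : Subgroup G) (z t x s f x1 x2 f1 f2 : G) : Prop where
  hy : Hy Q z t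
  xQ : x ∈ Q
  xz : x ∉ zpowers z
  zc : ZC z x
  sQ : s ∉ Q
  sz : s * z = z * s
  sx : s * x = x * s
  s3 : s ^ 3 = 1
  fQ : f ∈ Q
  fx : f * x = x * f
  fs : ⁅f, s⁆ = x
  hx1 : x1 ∈ one Q t
  hx2 : x2 ∈ two Q t
  hf1 : f1 ∈ one Q t
  hf2 : f2 ∈ two Q t
  ex : x = x1 * x2
  ef : f = f1 * f2
  x1z : x1 ∉ zpowers z
  x2z : x2 ∉ zpowers z

namespace Std

variable {Q : Subgroup G} {z t x s f x1 x2 f1 f2 : G} (h : Std Q z t x s f x1 x2 f1 f2)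

include h

theorem exQ : Ex Q z := h.hy.ex

theorem x1Q : x1 ∈ Q := h.hy.tt.one_le h.hx1
theorem x2Q : x2 ∈ Q := h.hy.tt.two_le h.hx2
theorem f1Q : f1 ∈ Q := h.hy.tt.one_le h.hf1
theorem f2Q : f2 ∈ Q := h.hy.tt.two_le h.hf2

theorem comm1 {u : G} (hu : u ∈ one Q t) : ⁅u, s⁆ ∈ one Q t := by
  have h1 : ⁅u, s⁆ = u * (s * u * s⁻¹)⁻¹ := by simp only [commutatorElement_def]; group
  rw [h1]
  exact mul_mem hu (inv_mem (h.hy.one_conj h.sz hu))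

theorem comm2 {u : G} (hu : u ∈ two Q t) : ⁅u, s⁆ ∈ two Q t := by
  have h1 : ⁅u, s⁆ = u * (s * u * s⁻¹)⁻¹ := by simp only [commutatorElement_def]; group
  rw [h1]
  exact mul_mem hu (inv_mem (h.hy.two_conj h.sz hu))

/-- `⁅a b, s⁆ = ⁅a, s⁆ ⁅b, s⁆` modulo `Z`, exactly for `a ∈ one`, `b ∈ two` -/
theorem comm_mul {a b : G} (ha : a ∈ one Q t) (hb : b ∈ two Q t) : ⁅a * b, s⁆ = ⁅a, s⁆ * ⁅b, s⁆ := by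
  have e1 : ⁅a * b, s⁆ = a * ⁅b, s⁆ * (s * a⁻¹ * s⁻¹) := by simp only [commutatorElement_def]; group
  have e2 : a * ⁅b, s⁆ = ⁅b, s⁆ * a := h.hy.tt.one_two ha (h.comm2 hb)
  have e3 : ⁅b, s⁆ * a * (s * a⁻¹ * s⁻¹) = ⁅b, s⁆ * ⁅a, s⁆ := by simp only [commutatorElement_def]; group
  rw [e1, e2, e3]
  exact (h.hy.tt.one_two (h.comm1 ha) (h.comm2 hb)).symm

theorem x1s : ⁅x1, s⁆ ∈ zpowers z := by
  have h1 : ⁅x1 * x2, s⁆ = 1 := by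
    rw [← h.ex]
    exact commutatorElement_eq_one_iff_mul_comm.2 h.sx.symm
  rw [h.comm_mul h.hx1 h.hx2] at h1
  have h2 : ⁅x1, s⁆ = ⁅x2, s⁆⁻¹ := eq_inv_of_mul_eq_one_left h1
  apply h.hy.tt.inter (h.comm1 h.hx1)
  rw [h2]
  exact inv_mem (h.comm2 h.hx2)

theorem x2s : ⁅x2, s⁆ ∈ zpowers z := by
  have h1 : ⁅x1 * x2, s⁆ = 1 := by
    rw [← h.ex]
    exact commutatorElement_eq_one_iff_mul_comm.2 h.sx.symm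
  rw [h.comm_mul h.hx1 h.hx2] at h1
  have h2 : ⁅x2, s⁆ = ⁅x1, s⁆⁻¹ := eq_inv_of_mul_eq_one_right h1
  rw [h2]
  exact inv_mem h.x1s

theorem f1s : ⁅f1, s⁆ * x1⁻¹ ∈ zpowers z := by
  have h1 := h.fs
  rw [h.ef, h.comm_mul h.hf1 h.hf2, h.ex] at h1
  have h3 : x1⁻¹ * ⁅f1, s⁆ = x2 * ⁅f2, s⁆⁻¹ := by
    rw [eq_mul_inv_iff_mul_eq, mul_assoc, h1]; group
  have h2 : x1⁻¹ * ⁅f1, s⁆ ∈ zpowers z := by
    apply h.hy.tt.inter (mul_mem (inv_mem h.hx1) (h.comm1 h.hf1))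
    rw [h3]
    exact mul_mem h.hx2 (inv_mem (h.comm2 h.hf2))
  have h4 := h.exQ.comm_z h.x1Q h2
  rw [mul_inv_cancel_left] at h4
  have h5 : ⁅f1, s⁆ * x1⁻¹ = x1⁻¹ * ⁅f1, s⁆ := by
    rw [mul_inv_eq_iff_eq_mul]; exact h4
  rw [h5]; exact h2

theorem f2s : ⁅f2, s⁆ * x2⁻¹ ∈ zpowers z := by
  have h1 := h.fs
  rw [h.ef, h.comm_mul h.hf1 h.hf2, h.ex] at h1
  have h3 : ⁅f2, s⁆ * x2⁻¹ = ⁅f1, s⁆⁻¹ * x1 := by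
    rw [mul_inv_eq_iff_eq_mul, eq_comm, mul_assoc, inv_mul_eq_iff_eq_mul, h1]
  rw [h3, ← inv_mem_iff]
  have h4 : (⁅f1, s⁆⁻¹ * x1)⁻¹ = x1⁻¹ * (⁅f1, s⁆ * x1⁻¹) * x1 := by group
  rw [h4, mul_assoc, ← h.exQ.comm_z h.x1Q h.f1s, inv_mul_cancel_left]
  exact h.f1s

/-- the commutator with `s` is central with respect to `x1` -/
theorem comm1_x1 {u : G} (hu : u ∈ one Q t) : ⁅u, s⁆ ∈ zpowers x1 ⊔ zpowers z := by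
  refine h.hy.mem_of_comm_one h.hx1 h.x1z (h.comm1 hu) ?_
  -- `s` fixes the commutator `⁅u, x1⁆`
  have hcz : ∀ c ∈ zpowers z, s * c * s⁻¹ = c := by
    rintro _ ⟨i, rfl⟩
    simp only
    rw [((show Commute s z from h.sz).zpow_right i).eq, mul_inv_cancel_right]
  have huQ := h.hy.tt.one_le hu
  have h1 : ⁅s * u * s⁻¹, s * x1 * s⁻¹⁆ = ⁅u, x1⁆ := by
    have e : ⁅s * u * s⁻¹, s * x1 * s⁻¹⁆ = s * ⁅u, x1⁆ * s⁻¹ := by simp only [commutatorElement_def]; group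
    rw [e, hcz _ (h.exQ.comm u huQ x1 h.x1Q)]
  have h2 : s * x1 * s⁻¹ = ⁅x1, s⁆⁻¹ * x1 := by simp only [commutatorElement_def]; group
  have hsu : s * u * s⁻¹ ∈ Q := h.hy.nor s h.sz u huQ
  have h3 : ⁅s * u * s⁻¹, s * x1 * s⁻¹⁆ = ⁅s * u * s⁻¹, x1⁆ := by
    rw [h2, h.exQ.comm_mul' hsu (h.exQ.zle (inv_mem h.x1s)) h.x1Q,
      commutatorElement_eq_one_iff_mul_comm.2 (h.exQ.comm_z hsu (inv_mem h.x1s)), one_mul]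
  have h4 : ⁅u, s⁆ = u * (s * u * s⁻¹)⁻¹ := by simp only [commutatorElement_def]; group
  have h5 : ⁅⁅u, s⁆, x1⁆ = 1 := by
    rw [h4, h.exQ.comm_mul huQ (inv_mem hsu) h.x1Q]
    have h6 : ⁅(s * u * s⁻¹)⁻¹, x1⁆ = ⁅s * u * s⁻¹, x1⁆⁻¹ := by
      have := h.exQ.comm_zpow_left hsu h.x1Q (-1)
      rwa [zpow_neg_one, zpow_neg_one] at this
    rw [h6, ← h3, h1, mul_inv_cancel]
  exact commutatorElement_eq_one_iff_mul_comm.1 h5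

theorem comm2_x2 {u : G} (hu : u ∈ two Q t) : ⁅u, s⁆ ∈ zpowers x2 ⊔ zpowers z := by
  refine h.hy.mem_of_comm_two h.hx2 h.x2z (h.comm2 hu) ?_
  have hcz : ∀ c ∈ zpowers z, s * c * s⁻¹ = c := by
    rintro _ ⟨i, rfl⟩
    simp only
    rw [((show Commute s z from h.sz).zpow_right i).eq, mul_inv_cancel_right]
  have huQ := h.hy.tt.two_le hu
  have h1 : ⁅s * u * s⁻¹, s * x2 * s⁻¹⁆ = ⁅u, x2⁆ := by
    have e : ⁅s * u * s⁻¹, s * x2 * s⁻¹⁆ = s * ⁅u, x2⁆ * s⁻¹ := by simp only [commutatorElement_def]; group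
    rw [e, hcz _ (h.exQ.comm u huQ x2 h.x2Q)]
  have h2 : s * x2 * s⁻¹ = ⁅x2, s⁆⁻¹ * x2 := by simp only [commutatorElement_def]; group
  have hsu : s * u * s⁻¹ ∈ Q := h.hy.nor s h.sz u huQ
  have h3 : ⁅s * u * s⁻¹, s * x2 * s⁻¹⁆ = ⁅s * u * s⁻¹, x2⁆ := by
    rw [h2, h.exQ.comm_mul' hsu (h.exQ.zle (inv_mem h.x2s)) h.x2Q,
      commutatorElement_eq_one_iff_mul_comm.2 (h.exQ.comm_z hsu (inv_mem h.x2s)), one_mul]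
  have h4 : ⁅u, s⁆ = u * (s * u * s⁻¹)⁻¹ := by simp only [commutatorElement_def]; group
  have h5 : ⁅⁅u, s⁆, x2⁆ = 1 := by
    rw [h4, h.exQ.comm_mul huQ (inv_mem hsu) h.x2Q]
    have h6 : ⁅(s * u * s⁻¹)⁻¹, x2⁆ = ⁅s * u * s⁻¹, x2⁆⁻¹ := by
      have := h.exQ.comm_zpow_left hsu h.x2Q (-1)
      rwa [zpow_neg_one, zpow_neg_one] at this
    rw [h6, ← h3, h1, mul_inv_cancel]
  exact commutatorElement_eq_one_iff_mul_comm.1 h5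

theorem om_mem : ⁅f1, x1⁆ ∈ zpowers z := h.exQ.comm f1 h.f1Q x1 h.x1Q

theorem nor_s : ∀ q ∈ Q, s * q * s⁻¹ ∈ Q := h.hy.nor s h.sz

/-- the class in `V` of a product -/
theorem pr_comm {q : G} (hq : q ∈ Q) (hc : ⁅q, s⁆ ∈ Q) :
    h.exQ.pr ⟨⁅q, s⁆, hc⟩ = h.exQ.pr ⟨q, hq⟩ - h.exQ.op h.nor_s h.sz (h.exQ.pr ⟨q, hq⟩) := by
  rw [h.exQ.op_mk, sub_eq_add_neg, ← h.exQ.pr_inv, ← h.exQ.pr_mul]
  congr 1
  apply Subtype.ext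
  change ⁅q, s⁆ = q * (s * q * s⁻¹)⁻¹
  simp only [commutatorElement_def]; group

theorem pr_fix {q : G} (hq : q ∈ Q) (hc : ⁅q, s⁆ ∈ zpowers z) :
    h.exQ.op h.nor_s h.sz (h.exQ.pr ⟨q, hq⟩) = h.exQ.pr ⟨q, hq⟩ := by
  have h1 := h.pr_comm hq (h.exQ.zle hc)
  rw [(h.exQ.pr_eq_zero).2 hc] at h1
  exact (sub_eq_zero.1 h1.symm).symm

theorem pr_f1 : h.exQ.op h.nor_s h.sz (h.exQ.pr ⟨f1, h.f1Q⟩) = h.exQ.pr ⟨f1, h.f1Q⟩ - h.exQ.pr ⟨x1, h.x1Q⟩ := by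
  have hc : ⁅f1, s⁆ ∈ Q := h.hy.tt.one_le (h.comm1 h.hf1)
  have h1 := h.pr_comm h.f1Q hc
  have h2 : h.exQ.pr ⟨⁅f1, s⁆, hc⟩ = h.exQ.pr ⟨x1, h.x1Q⟩ := by
    rw [eq_comm, h.exQ.pr_eq]
    change x1⁻¹ * ⁅f1, s⁆ ∈ zpowers z
    have h3 : x1⁻¹ * ⁅f1, s⁆ = x1⁻¹ * (⁅f1, s⁆ * x1⁻¹) * x1 := by group
    rw [h3, mul_assoc, ← h.exQ.comm_z h.x1Q h.f1s, inv_mul_cancel_left]
    exact h.f1s
  rw [h2] at h1
  rw [h1, sub_sub_cancel]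

theorem pr_f2 : h.exQ.op h.nor_s h.sz (h.exQ.pr ⟨f2, h.f2Q⟩) = h.exQ.pr ⟨f2, h.f2Q⟩ - h.exQ.pr ⟨x2, h.x2Q⟩ := by
  have hc : ⁅f2, s⁆ ∈ Q := h.hy.tt.two_le (h.comm2 h.hf2)
  have h1 := h.pr_comm h.f2Q hc
  have h2 : h.exQ.pr ⟨⁅f2, s⁆, hc⟩ = h.exQ.pr ⟨x2, h.x2Q⟩ := by
    rw [eq_comm, h.exQ.pr_eq]
    change x2⁻¹ * ⁅f2, s⁆ ∈ zpowers z
    have h3 : x2⁻¹ * ⁅f2, s⁆ = x2⁻¹ * (⁅f2, s⁆ * x2⁻¹) * x2 := by group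
    rw [h3, mul_assoc, ← h.exQ.comm_z h.x2Q h.f2s, inv_mul_cancel_left]
    exact h.f2s
  rw [h2] at h1
  rw [h1, sub_sub_cancel]

theorem pr_zpow {a : G} (ha : a ∈ Q) (n : ℤ) : h.exQ.pr ⟨a ^ n, zpow_mem ha n⟩ = n • h.exQ.pr ⟨a, ha⟩ := by
  have key : ∀ n : ℕ, h.exQ.pr ⟨a ^ n, pow_mem ha n⟩ = n • h.exQ.pr ⟨a, ha⟩ := by
    intro n
    induction n with
    | zero =>
      rw [zero_smul]
      exact (h.exQ.pr_eq_zero).2 (by change a ^ 0 ∈ zpowers z; rw [pow_zero]; exact one_mem _)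
    | succ n ih =>
      rw [succ_nsmul, ← ih, ← h.exQ.pr_mul]
      congr 1
      apply Subtype.ext
      exact pow_succ a n
  obtain ⟨k, rfl | rfl⟩ := n.eq_nat_or_neg
  · rw [natCast_zsmul, ← key]
    congr 1
    apply Subtype.ext
    exact zpow_natCast a k
  · rw [neg_smul, natCast_zsmul, ← key, ← h.exQ.pr_inv]
    congr 1
    apply Subtype.ext
    change a ^ (-(k : ℤ)) = (a ^ k)⁻¹
    rw [zpow_neg, zpow_natCast]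

/-- elements of `⟨x1, z⟩` -/
theorem mem_sup {a c : G} (haQ : a ∈ Q) (hc : c ∈ zpowers a ⊔ zpowers z) : ∃ i : ℤ, ∃ ζ ∈ zpowers z, c = a ^ i * ζ := by
  obtain ⟨_, ⟨i, rfl⟩, ζ, hζ, rfl⟩ := mem_sup_comm (by
    rintro _ ⟨j, rfl⟩ b hb
    exact h.exQ.comm_z (zpow_mem haQ j) hb) hc
  exact ⟨i, ζ, hζ, rfl⟩

theorem om_ne : ⁅f1, x1⁆ ≠ 1 := by
  intro h1
  have h2 := h.hy.mem_of_comm_one h.hx1 h.x1z h.hf1 (commutatorElement_eq_one_iff_mul_comm.1 h1)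
  obtain ⟨i, ζ, hζ, e⟩ := h.mem_sup h.x1Q h2
  -- `f1` is fixed
  have h3 : h.exQ.pr ⟨f1, h.f1Q⟩ = i • h.exQ.pr ⟨x1, h.x1Q⟩ := by
    rw [← h.pr_zpow h.x1Q, h.exQ.pr_eq]
    change f1⁻¹ * x1 ^ i ∈ zpowers z
    rw [e, mul_inv_rev, inv_mul_cancel_right]
    exact inv_mem hζ
  have h4 := h.pr_f1
  rw [h3, map_zsmul, h.pr_fix h.x1Q h.x1s, eq_sub_iff_add_eq, add_eq_left] at h4
  exact h.x1z ((h.exQ.pr_eq_zero (a := ⟨x1, h.x1Q⟩)).1 h4)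

theorem om2 : ⁅f2, x2⁆ = ⁅f1, x1⁆⁻¹ := by
  have h1 : ⁅f, x⁆ = 1 := commutatorElement_eq_one_iff_mul_comm.2 h.fx
  have c1 : ⁅f1, x2⁆ = 1 := commutatorElement_eq_one_iff_mul_comm.2 (h.hy.tt.one_two h.hf1 h.hx2)
  have c2 : ⁅f2, x1⁆ = 1 := commutatorElement_eq_one_iff_mul_comm.2 (h.hy.tt.one_two h.hx1 h.hf2).symm
  rw [h.ef, h.ex, h.exQ.comm_mul h.f1Q h.f2Q (mul_mem h.x1Q h.x2Q), h.exQ.comm_mul' h.f1Q h.x1Q h.x2Q,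
    h.exQ.comm_mul' h.f2Q h.x1Q h.x2Q, c1, c2, mul_one, one_mul] at h1
  exact eq_inv_of_mul_eq_one_right h1

theorem comm_zpow_zpow {a b : G} (hab : ⁅a, b⁆ = 1) (m n : ℤ) : ⁅a ^ m, b ^ n⁆ = 1 := by
  have h1 : Commute a b := commutatorElement_eq_one_iff_mul_comm.1 hab
  exact commutatorElement_eq_one_iff_mul_comm.2 (h1.zpow_zpow m n)

/-- elements of `one` -/
theorem key_one {u : G} (hu : u ∈ one Q t) : ∃ m : ℤ, ⁅u, x1⁆ = ⁅f1, x1⁆ ^ m ∧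
    ∃ i : ℤ, ∃ ζ ∈ zpowers z, u = x1 ^ i * ζ * f1 ^ m := by
  have huQ := h.hy.tt.one_le hu
  have h1 : z ∈ zpowers ⁅f1, x1⁆ := mem_zpowers_of_three h.exQ.order h.om_mem h.om_ne
  have h2 : ⁅u, x1⁆ ∈ zpowers ⁅f1, x1⁆ :=
    (zpowers_le.2 h1 : zpowers z ≤ _) (h.exQ.comm u huQ x1 h.x1Q)
  obtain ⟨m, hm⟩ := h2
  simp only at hm
  have h3 : ⁅u * f1 ^ (-m), x1⁆ = 1 := by
    rw [h.exQ.comm_mul huQ (zpow_mem h.f1Q _) h.x1Q, h.exQ.comm_zpow_left h.f1Q h.x1Q, ← hm, ← zpow_add,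
      add_neg_cancel, zpow_zero]
  have h4 := h.hy.mem_of_comm_one h.hx1 h.x1z (mul_mem hu (zpow_mem h.hf1 _))
    (commutatorElement_eq_one_iff_mul_comm.1 h3)
  obtain ⟨i, ζ, hζ, e⟩ := h.mem_sup h.x1Q h4
  refine ⟨m, hm.symm, i, ζ, hζ, ?_⟩
  rw [← e, zpow_neg, inv_mul_cancel_right]

/-- elements of `two` -/
theorem key_two {u : G} (hu : u ∈ two Q t) : ∃ m : ℤ, ⁅u, x2⁆ = ⁅f2, x2⁆ ^ m ∧
    ∃ i : ℤ, ∃ ζ ∈ zpowers z, u = x2 ^ i * ζ * f2 ^ m := by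
  have huQ := h.hy.tt.two_le hu
  have h0 : ⁅f2, x2⁆ ≠ 1 := by
    rw [h.om2]; exact inv_ne_one.2 h.om_ne
  have h1 : z ∈ zpowers ⁅f2, x2⁆ := mem_zpowers_of_three h.exQ.order (h.exQ.comm f2 h.f2Q x2 h.x2Q) h0
  have h2 : ⁅u, x2⁆ ∈ zpowers ⁅f2, x2⁆ :=
    (zpowers_le.2 h1 : zpowers z ≤ _) (h.exQ.comm u huQ x2 h.x2Q)
  obtain ⟨m, hm⟩ := h2
  simp only at hm
  have h3 : ⁅u * f2 ^ (-m), x2⁆ = 1 := by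
    rw [h.exQ.comm_mul huQ (zpow_mem h.f2Q _) h.x2Q, h.exQ.comm_zpow_left h.f2Q h.x2Q, ← hm, ← zpow_add,
      add_neg_cancel, zpow_zero]
  have h4 := h.hy.mem_of_comm_two h.hx2 h.x2z (mul_mem hu (zpow_mem h.hf2 _))
    (commutatorElement_eq_one_iff_mul_comm.1 h3)
  obtain ⟨i, ζ, hζ, e⟩ := h.mem_sup h.x2Q h4
  refine ⟨m, hm.symm, i, ζ, hζ, ?_⟩
  rw [← e, zpow_neg, inv_mul_cancel_right]

theorem pr_mul' {a b : G} (ha : a ∈ Q) (hb : b ∈ Q) (hab : a * b ∈ Q) :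
    h.exQ.pr ⟨a * b, hab⟩ = h.exQ.pr ⟨a, ha⟩ + h.exQ.pr ⟨b, hb⟩ := rfl

theorem pr_z {a : G} (haQ : a ∈ Q) (ha : a ∈ zpowers z) : h.exQ.pr ⟨a, haQ⟩ = 0 := (h.exQ.pr_eq_zero).2 ha

/-- **the structure of the action of `s`** -/
theorem key {q : G} (hq : q ∈ Q) : ∃ m n : ℤ, ⁅q, x1⁆ = ⁅f1, x1⁆ ^ m ∧ ⁅q, x2⁆ = ⁅f1, x1⁆ ^ (-n) ∧
    ∃ i j : ℤ, h.exQ.pr ⟨q, hq⟩ = i • h.exQ.pr ⟨x1, h.x1Q⟩ + j • h.exQ.pr ⟨x2, h.x2Q⟩ +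
      (m • h.exQ.pr ⟨f1, h.f1Q⟩ + n • h.exQ.pr ⟨f2, h.f2Q⟩) := by
  obtain ⟨u, hu, v, hv, rfl⟩ := h.hy.tt.exists_decomp hq
  have huQ := h.hy.tt.one_le hu
  have hvQ := h.hy.tt.two_le hv
  obtain ⟨m, hm, i, ζ, hζ, e1⟩ := h.key_one hu
  obtain ⟨n, hn, j, ζ', hζ', e2⟩ := h.key_two hv
  have c1 : ⁅v, x1⁆ = 1 := commutatorElement_eq_one_iff_mul_comm.2 (h.hy.tt.one_two h.hx1 hv).symm
  have c2 : ⁅u, x2⁆ = 1 := commutatorElement_eq_one_iff_mul_comm.2 (h.hy.tt.one_two hu h.hx2)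
  refine ⟨m, n, ?_, ?_, i, j, ?_⟩
  · rw [h.exQ.comm_mul huQ hvQ h.x1Q, c1, mul_one, hm]
  · rw [h.exQ.comm_mul huQ hvQ h.x2Q, c2, one_mul, hn, h.om2, inv_zpow, zpow_neg]
  · have p1 : h.exQ.pr ⟨u, huQ⟩ = i • h.exQ.pr ⟨x1, h.x1Q⟩ + m • h.exQ.pr ⟨f1, h.f1Q⟩ := by
      have hζQ := h.exQ.zle hζ
      have e : (⟨u, huQ⟩ : Q) = ⟨x1 ^ i, zpow_mem h.x1Q i⟩ * ⟨ζ, hζQ⟩ * ⟨f1 ^ m, zpow_mem h.f1Q m⟩ := Subtype.ext e1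
      rw [e, h.exQ.pr_mul, h.exQ.pr_mul, h.pr_z hζQ hζ, add_zero, h.pr_zpow h.x1Q, h.pr_zpow h.f1Q]
    have p2 : h.exQ.pr ⟨v, hvQ⟩ = j • h.exQ.pr ⟨x2, h.x2Q⟩ + n • h.exQ.pr ⟨f2, h.f2Q⟩ := by
      have hζQ := h.exQ.zle hζ'
      have e : (⟨v, hvQ⟩ : Q) = ⟨x2 ^ j, zpow_mem h.x2Q j⟩ * ⟨ζ', hζQ⟩ * ⟨f2 ^ n, zpow_mem h.f2Q n⟩ := Subtype.ext e2
      rw [e, h.exQ.pr_mul, h.exQ.pr_mul, h.pr_z hζQ hζ', add_zero, h.pr_zpow h.x2Q, h.pr_zpow h.f2Q]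
    rw [h.pr_mul' huQ hvQ, p1, p2]
    abel

/-- the commutator with `s` -/
theorem pr_comm' {q : G} (hq : q ∈ Q) {m n i j : ℤ}
    (e : h.exQ.pr ⟨q, hq⟩ = i • h.exQ.pr ⟨x1, h.x1Q⟩ + j • h.exQ.pr ⟨x2, h.x2Q⟩ +
      (m • h.exQ.pr ⟨f1, h.f1Q⟩ + n • h.exQ.pr ⟨f2, h.f2Q⟩)) :
    h.exQ.op h.nor_s h.sz (h.exQ.pr ⟨q, hq⟩) = h.exQ.pr ⟨q, hq⟩ -
      (m • h.exQ.pr ⟨x1, h.x1Q⟩ + n • h.exQ.pr ⟨x2, h.x2Q⟩) := by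
  rw [e]
  simp only [map_add, map_zsmul, h.pr_f1, h.pr_f2, h.pr_fix h.x1Q h.x1s, h.pr_fix h.x2Q h.x2s, smul_sub]
  abel

/-- cubes of the elements of `Q s` lie in `Z` -/
theorem cube_mem {q : G} (hq : q ∈ Q) : (q * s) ^ 3 ∈ zpowers z := by
  obtain ⟨m, n, -, -, i, j, e⟩ := h.key hq
  have h1 := h.pr_comm' hq e
  obtain ⟨w, hw⟩ : ∃ w, w = m • h.exQ.pr ⟨x1, h.x1Q⟩ + n • h.exQ.pr ⟨x2, h.x2Q⟩ := ⟨_, rfl⟩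
  rw [← hw] at h1
  have h2 : h.exQ.op h.nor_s h.sz w = w := by
    rw [hw, map_add, map_zsmul, map_zsmul, h.pr_fix h.x1Q h.x1s, h.pr_fix h.x2Q h.x2s]
  have hq1 := h.nor_s q hq
  have hq2 := h.nor_s _ hq1
  have h3 : (q * s) ^ 3 = q * (s * q * s⁻¹) * (s * (s * q * s⁻¹) * s⁻¹) := by
    have h4 : (q * s) ^ 3 = q * (s * q * s⁻¹) * (s * (s * q * s⁻¹) * s⁻¹) * s ^ 3 := by
      rw [pow_succ, pow_two, pow_succ, pow_two]; group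
    rw [h4, h.s3, mul_one]
  have h4 : q * (s * q * s⁻¹) * (s * (s * q * s⁻¹) * s⁻¹) ∈ Q := mul_mem (mul_mem hq hq1) hq2
  rw [h3]
  apply (h.exQ.pr_eq_zero (a := ⟨_, h4⟩)).1
  have h5 : (⟨_, h4⟩ : Q) = ⟨q, hq⟩ * ⟨_, hq1⟩ * ⟨_, hq2⟩ := rfl
  rw [h5, h.exQ.pr_mul, h.exQ.pr_mul]
  have h6 : h.exQ.pr ⟨_, hq1⟩ = h.exQ.pr ⟨q, hq⟩ - w := by rw [← h1, h.exQ.op_mk]
  have h7 : h.exQ.pr ⟨_, hq2⟩ = h.exQ.pr ⟨q, hq⟩ - w - w := by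
    have : h.exQ.pr ⟨_, hq2⟩ = h.exQ.op h.nor_s h.sz (h.exQ.pr ⟨_, hq1⟩) := (h.exQ.op_mk h.nor_s h.sz ⟨_, hq1⟩).symm
    rw [this, h6, map_sub, h1, h2]
  rw [h6, h7]
  have h8 := h.exQ.three_V (h.exQ.pr ⟨q, hq⟩)
  have h9 := h.exQ.three_V w
  calc h.exQ.pr ⟨q, hq⟩ + (h.exQ.pr ⟨q, hq⟩ - w) + (h.exQ.pr ⟨q, hq⟩ - w - w)
      = (h.exQ.pr ⟨q, hq⟩ + h.exQ.pr ⟨q, hq⟩ + h.exQ.pr ⟨q, hq⟩) - (w + w + w) := by abel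
    _ = 0 := by rw [h8, h9, sub_zero]

end Std

end Cfsg.Agent.H351.OE
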