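import Mathlib

/-!
# S3372: a module lemma for `SL(2,3)` in characteristic three

`exists_invariant` : a group `V` of exponent three and order `81` with operators `I`, `J`, `S` satisfying the relations
of `SL(2,3)` with `I ^ 2 = -1` has a proper nontrivial invariant subgroup.
-/

set_option autoImplicit false

namespace Cfsg.Agent.H351.OE.Mod

variable {V : Type*} [AddCommGroup V]

theorem exists_invariant [Finite V] (h3 : ∀ v : V, v + v + v = 0) (hcard : Nat.card V = 81)
    (I J S : AddMonoid.End V) (hI : I * I = -1) (hJ : J * J = -1) (hIJ : I * J = -(J * I))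
    (hSI : S * I = J * S) (hSJ : S * J = I * J * S) (hS : S * S * S = 1) :
    ∃ B : AddSubgroup V, B ≠ ⊥ ∧ B ≠ ⊤ ∧ (∀ v ∈ B, I v ∈ B) ∧ (∀ v ∈ B, J v ∈ B) ∧ (∀ v ∈ B, S v ∈ B) := by
  have h3' : (3 : AddMonoid.End V) = 0 := by
    ext v
    have : (3 : AddMonoid.End V) v = v + v + v := by
      rw [show (3 : AddMonoid.End V) = 1 + 1 + 1 by norm_num]; rfl
    rw [this, h3]; rfl
  -- the element commuting with everything
  obtain ⟨n, hn⟩ : ∃ n : AddMonoid.End V, n = I + J + I * J := ⟨_, rfl⟩
  have hJI : J * I = -(I * J) := by rw [hIJ, neg_neg]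
  have hnn : n * n = 0 := by
    have e1 : n * n = I * I + J * J + (I * J) * (I * J) + (I * J + J * I) + (I * (I * J) + (I * J) * I)
        + (J * (I * J) + (I * J) * J) := by rw [hn]; noncomm_ring
    have e2 : (I * J) * (I * J) = -1 := by
      calc (I * J) * (I * J) = I * (J * I) * J := by noncomm_ring
        _ = -((I * I) * (J * J)) := by rw [hJI]; noncomm_ring
        _ = -1 := by rw [hI, hJ]; noncomm_ring
    have e3 : (I * J) * I = -(I * (I * J)) := by
      calc (I * J) * I = I * (J * I) := by noncomm_ring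
        _ = _ := by rw [hJI]; noncomm_ring
    have e4 : J * (I * J) = -((I * J) * J) := by
      calc J * (I * J) = (J * I) * J := by noncomm_ring
        _ = _ := by rw [hJI]; noncomm_ring
    rw [e1, e2, e3, e4, hJI, hI, hJ]
    have : (-1 : AddMonoid.End V) + -1 + -1 + (I * J + -(I * J)) + (I * (I * J) + -(I * (I * J)))
        + (-(I * J * J) + I * J * J) = -3 := by
      rw [show (3 : AddMonoid.End V) = 1 + 1 + 1 by norm_num]; abel
    rw [this, h3', neg_zero]
  have hSn : S * n = n * S := by
    have e1 : S * (I * J) = I * S := by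
      calc S * (I * J) = (S * I) * J := by noncomm_ring
        _ = J * (S * J) := by rw [hSI]; noncomm_ring
        _ = (J * I) * J * S := by rw [hSJ]; noncomm_ring
        _ = -(I * (J * J)) * S := by rw [hJI]; noncomm_ring
        _ = I * S := by rw [hJ]; noncomm_ring
    calc S * n = S * I + S * J + S * (I * J) := by rw [hn]; noncomm_ring
      _ = J * S + I * J * S + I * S := by rw [hSI, hSJ, e1]
      _ = n * S := by rw [hn]; noncomm_ring
  -- `e = (1 - n) S`
  obtain ⟨e, he⟩ : ∃ e : AddMonoid.End V, e = (1 - n) * S := ⟨_, rfl⟩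
  have hcube : (1 - n) * (1 - n) * (1 - n) = 1 := by
    have : (1 - n) * (1 - n) * (1 - n) = 1 - 3 * n + 3 * (n * n) - n * n * n := by
      rw [show (3 : AddMonoid.End V) = 1 + 1 + 1 by norm_num]; noncomm_ring
    rw [this, hnn, h3']; noncomm_ring
  have hcomS : (1 - n) * S = S * (1 - n) := by
    rw [sub_mul, mul_sub, hSn, one_mul, mul_one]
  have he3 : e * e * e = 1 := by
    have : e * e * e = ((1 - n) * (1 - n) * (1 - n)) * (S * S * S) := by
      rw [he]
      calc (1 - n) * S * ((1 - n) * S) * ((1 - n) * S) = (1 - n) * (S * (1 - n)) * (S * (1 - n)) * S := by noncomm_ring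
        _ = (1 - n) * ((1 - n) * S) * ((1 - n) * S) * S := by rw [hcomS]
        _ = (1 - n) * (1 - n) * (S * (1 - n)) * S * S := by noncomm_ring
        _ = (1 - n) * (1 - n) * ((1 - n) * S) * S * S := by rw [hcomS]
        _ = _ := by noncomm_ring
    rw [this, hcube, hS, mul_one]
  -- `e` commutes with `I`, `J`, `S`
  have hJIJ : J * (I * J) = I := by
    calc J * (I * J) = (J * I) * J := by noncomm_ring
      _ = -(I * (J * J)) := by rw [hJI]; noncomm_ring
      _ = I := by rw [hJ]; noncomm_ring
  have hIIJ : I * (I * J) = -J := by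
    calc I * (I * J) = (I * I) * J := by noncomm_ring
      _ = -J := by rw [hI]; noncomm_ring
  have hIJI : (I * J) * I = J := by
    calc (I * J) * I = I * (J * I) := by noncomm_ring
      _ = -(I * (I * J)) := by rw [hJI]; noncomm_ring
      _ = J := by rw [hIIJ, neg_neg]
  have hIJJ : (I * J) * J = -I := by
    calc (I * J) * J = I * (J * J) := by noncomm_ring
      _ = -I := by rw [hJ]; noncomm_ring
  have hIJIJ : (I * J) * (I * J) = -1 := by
    calc (I * J) * (I * J) = ((I * J) * I) * J := by noncomm_ring
      _ = -1 := by rw [hIJI, hJ]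
  have heI : e * I = I * e := by
    have e1 : (1 - n) * J = I * (1 - n) := by
      rw [sub_mul, mul_sub, one_mul, mul_one, hn, add_mul, add_mul, mul_add, mul_add, hJ, hIJJ, hI, hIIJ]
      abel
    calc e * I = (1 - n) * (S * I) := by rw [he]; noncomm_ring
      _ = ((1 - n) * J) * S := by rw [hSI]; noncomm_ring
      _ = I * e := by rw [e1, he]; noncomm_ring
  have heS : e * S = S * e := by
    calc e * S = ((1 - n) * S) * S := by rw [he]
      _ = (S * (1 - n)) * S := by rw [hcomS]
      _ = S * e := by rw [he]; noncomm_ring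
  have heJ : e * J = J * e := by
    have e1 : (1 - n) * (I * J) = J * (1 - n) := by
      rw [sub_mul, mul_sub, one_mul, mul_one, hn, add_mul, add_mul, mul_add, mul_add, hIIJ, hJIJ, hIJIJ, hJI, hJ]
      abel
    calc e * J = (1 - n) * (S * J) := by rw [he]; noncomm_ring
      _ = ((1 - n) * (I * J)) * S := by rw [hSJ]; noncomm_ring
      _ = J * e := by rw [e1, he]; noncomm_ring
  have hne : Nontrivial V := by
    rw [← Finite.one_lt_card_iff_nontrivial, hcard]; norm_num
  by_cases h1 : e = 1
  · -- `S = 1 + n` is in the algebra generated by `I`, `J`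
    have hS1 : S = 1 + n := by
      have e1 : (1 + n) * (1 - n) = 1 := by
        have : (1 + n) * (1 - n) = 1 - n * n := by noncomm_ring
        rw [this, hnn, sub_zero]
      calc S = ((1 + n) * (1 - n)) * S := by rw [e1, one_mul]
        _ = (1 + n) * e := by rw [he]; noncomm_ring
        _ = 1 + n := by rw [h1, mul_one]
    have hu : (I + J) * (I + J) = 1 := by
      have : (I + J) * (I + J) = I * I + J * J + (I * J + J * I) := by noncomm_ring
      rw [this, hI, hJ, hJI]
      have h4 : (-1 : AddMonoid.End V) + -1 + (I * J + -(I * J)) = 1 - 3 := by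
        rw [show (3 : AddMonoid.End V) = 1 + 1 + 1 by norm_num]; abel
      rw [h4, h3', sub_zero]
    obtain ⟨v, hv0, hv⟩ : ∃ v : V, v ≠ 0 ∧ I v + J v = v := by
      by_contra hcon
      push Not at hcon
      have h4 : ∀ w : V, w + (I w + J w) = 0 := by
        intro w
        by_contra h5
        apply hcon _ h5
        have h6 := DFunLike.congr_fun hu w
        have h7 : I (I w + J w) + J (I w + J w) = w := h6
        rw [map_add I w, map_add J w, add_add_add_comm, h7]
        rw [add_comm w]
      have h5 : J = -1 - I := by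
        ext w
        have := h4 w
        change J w = -w - I w
        rw [add_comm (I w), ← add_assoc] at this
        rw [eq_sub_iff_add_eq]
        have h8 : w + (J w + I w) = 0 := by rw [← add_assoc]; exact this
        exact eq_neg_of_add_eq_zero_right h8
      have h6 : J * J = 1 + I + I + I * I := by rw [h5]; noncomm_ring
      rw [hJ, hI] at h6
      have h7 : I = 1 := by
        have : (1 : AddMonoid.End V) + I + I + -1 = I + I := by abel
        rw [this] at h6
        have h9 : I + I + I = 0 := by
          have : I + I + I = 3 * I := by rw [show (3 : AddMonoid.End V) = 1 + 1 + 1 by norm_num]; noncomm_ring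
          rw [this, h3', zero_mul]
        rw [← h6] at h9
        rw [neg_add_eq_zero] at h9
        exact h9.symm
      rw [h7, one_mul] at hI
      obtain ⟨w, hw⟩ := exists_ne (0 : V)
      have h8 := DFunLike.congr_fun hI w
      change w = -w at h8
      have h9 : w + w = 0 := by nth_rw 1 [h8]; exact neg_add_cancel w
      have h10 := h3 w
      rw [h9, zero_add] at h10
      exact hw h10
    -- `B = ⟨v, I v⟩`
    have hIv : I (I v) = -v := DFunLike.congr_fun hI v
    have hJv : J v = v - I v := by rw [eq_sub_iff_add_eq, add_comm]; exact hv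
    have hJIv : J (I v) = -v - I v := by
      have h4 := DFunLike.congr_fun hJI v
      change J (I v) = -(I (J v)) at h4
      rw [h4, hJv, map_sub, hIv]; abel
    obtain ⟨B, hB⟩ : ∃ B : AddSubgroup V, B = AddSubgroup.zmultiples v ⊔ AddSubgroup.zmultiples (I v) := ⟨_, rfl⟩
    have hvB : v ∈ B := by rw [hB]; exact AddSubgroup.mem_sup_left (AddSubgroup.mem_zmultiples v)
    have hIvB : I v ∈ B := by rw [hB]; exact AddSubgroup.mem_sup_right (AddSubgroup.mem_zmultiples (I v))
    have hgen : ∀ F : AddMonoid.End V, F v ∈ B → F (I v) ∈ B → ∀ w ∈ B, F w ∈ B := by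
      intro F h4 h5 w hw
      rw [hB, AddSubgroup.mem_sup] at hw
      obtain ⟨y, hy, y', hy', rfl⟩ := hw
      obtain ⟨m, rfl⟩ := AddSubgroup.mem_zmultiples_iff.1 hy
      obtain ⟨m', rfl⟩ := AddSubgroup.mem_zmultiples_iff.1 hy'
      rw [map_add, map_zsmul, map_zsmul]
      exact add_mem (AddSubgroup.zsmul_mem _ h4 _) (AddSubgroup.zsmul_mem _ h5 _)
    have hBI : ∀ w ∈ B, I w ∈ B := hgen I hIvB (by rw [hIv]; exact neg_mem hvB)
    have hBJ : ∀ w ∈ B, J w ∈ B :=
      hgen J (by rw [hJv]; exact sub_mem hvB hIvB) (by rw [hJIv]; exact sub_mem (neg_mem hvB) hIvB)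
    refine ⟨B, ?_, ?_, hBI, hBJ, ?_⟩
    · intro h4
      rw [h4, AddSubgroup.mem_bot] at hvB
      exact hv0 hvB
    · intro h4
      have h5 : Nat.card B ≤ 9 := by
        have h6 : Nat.card (AddSubgroup.zmultiples v) ≤ 3 := by
          rw [Nat.card_zmultiples]
          apply Nat.le_of_dvd (by norm_num)
          apply addOrderOf_dvd_of_nsmul_eq_zero
          rw [show (3 : ℕ) = 1 + 1 + 1 from rfl, add_nsmul, add_nsmul, one_nsmul, h3]
        have h7 : Nat.card (AddSubgroup.zmultiples (I v)) ≤ 3 := by
          rw [Nat.card_zmultiples]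
          apply Nat.le_of_dvd (by norm_num)
          apply addOrderOf_dvd_of_nsmul_eq_zero
          rw [show (3 : ℕ) = 1 + 1 + 1 from rfl, add_nsmul, add_nsmul, one_nsmul, h3]
        have h8 : Nat.card B ≤ Nat.card (AddSubgroup.zmultiples v × AddSubgroup.zmultiples (I v)) := by
          apply Nat.card_le_card_of_surjective
            (fun p => (⟨p.1 + p.2, by rw [hB]; exact AddSubgroup.add_mem_sup p.1.2 p.2.2⟩ : B))
          rintro ⟨w, hw⟩
          rw [hB, AddSubgroup.mem_sup] at hw
          obtain ⟨y, hy, y', hy', h9⟩ := hw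
          exact ⟨(⟨y, hy⟩, ⟨y', hy'⟩), Subtype.ext h9⟩
        rw [Nat.card_prod] at h8
        exact h8.trans (Nat.mul_le_mul h6 h7)
      rw [h4, AddSubgroup.card_top, hcard] at h5
      norm_num at h5
    · intro w hw
      rw [hS1, hn]
      change w + (I w + J w + I (J w)) ∈ B
      exact add_mem hw (add_mem (add_mem (hBI w hw) (hBJ w hw)) (hBI _ (hBJ w hw)))
  · -- the kernel of `e - 1`
    have hnil : (e - 1) * ((e - 1) * (e - 1)) = 0 := by
      have : (e - 1) * ((e - 1) * (e - 1)) = e * e * e - 1 - 3 * (e * e) + 3 * e := by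
        rw [show (3 : AddMonoid.End V) = 1 + 1 + 1 by norm_num]; noncomm_ring
      rw [this, he3, h3']; noncomm_ring
    refine ⟨(e - 1).ker, ?_, ?_, ?_, ?_, ?_⟩
    · intro h4
      apply h1
      have hinj : ∀ w : V, (e - 1) w = 0 → w = 0 := fun w hw =>
        (AddSubgroup.mem_bot).1 (h4 ▸ (AddMonoidHom.mem_ker.2 hw))
      rw [← sub_eq_zero]
      ext w
      apply hinj; apply hinj
      exact DFunLike.congr_fun hnil w
    · intro h4
      apply h1
      rw [← sub_eq_zero]
      ext w
      have : w ∈ (e - 1).ker := by rw [h4]; trivial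
      exact AddMonoidHom.mem_ker.1 this
    · intro v hv
      replace hv : (e - 1) v = 0 := hv
      change (e - 1) (I v) = 0
      have h4 : (e - 1) * I = I * (e - 1) := by rw [sub_mul, mul_sub, heI, one_mul, mul_one]
      have h5 := DFunLike.congr_fun h4 v
      change (e - 1) (I v) = I ((e - 1) v) at h5
      rw [h5, hv, map_zero]
    · intro v hv
      replace hv : (e - 1) v = 0 := hv
      change (e - 1) (J v) = 0
      have h4 : (e - 1) * J = J * (e - 1) := by rw [sub_mul, mul_sub, heJ, one_mul, mul_one]
      have h5 := DFunLike.congr_fun h4 v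
      change (e - 1) (J v) = J ((e - 1) v) at h5
      rw [h5, hv, map_zero]
    · intro v hv
      replace hv : (e - 1) v = 0 := hv
      change (e - 1) (S v) = 0
      have h4 : (e - 1) * S = S * (e - 1) := by rw [sub_mul, mul_sub, heS, one_mul, mul_one]
      have h5 := DFunLike.congr_fun h4 v
      change (e - 1) (S v) = S ((e - 1) v) at h5
      rw [h5, hv, map_zero]

end Cfsg.Agent.H351.OE.Mod
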