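import Cfsg.Agent.H351.OE.Loc

/-!
# S3372: subgroups of order `27` of `S` contain a conjugate of `Z`
-/

set_option autoImplicit false
set_option linter.unusedSectionVars false
set_option linter.unusedVariables false

namespace Cfsg.Agent.H351.OE

open Subgroup Cfsg
open scoped commutatorElement

variable {G : Type*} [Group G]

theorem Ex.smul_mod {Q : Subgroup G} {z : G} (h : Ex Q z) (v : h.V) (i : ℤ) : i • v = (i % 3) • v := by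
  have h3 : (3 : ℤ) • v = 0 := by
    have := h.three_V v
    rw [show (3 : ℤ) = 1 + 1 + 1 by norm_num, add_smul, add_smul, one_smul]
    exact this
  conv_lhs => rw [← Int.emod_add_mul_ediv i 3, add_smul, mul_comm, mul_smul, h3, smul_zero, add_zero]

namespace Std

variable {Q : Subgroup G} {z t x s f x1 x2 f1 f2 : G} (h : Std Q z t x s f x1 x2 f1 f2)

include h

theorem pr_x : h.exQ.pr ⟨x, h.xQ⟩ = h.exQ.pr ⟨x1, h.x1Q⟩ + h.exQ.pr ⟨x2, h.x2Q⟩ := by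
  rw [← h.exQ.pr_mul]
  congr 1
  exact Subtype.ext h.ex

/-- the conjugate of `x` under `t` -/
theorem xt : t * x * t⁻¹ ∈ Q ∧ t * x * t⁻¹ ∉ zpowers z ∧ ZC z (t * x * t⁻¹) := by
  refine ⟨h.hy.tt.norm x h.xQ, ?_, h.zc.conj t⟩
  intro h1
  apply h.xz
  have h2 := h.hy.tt.fix_z h1
  rw [h.hy.tt.tqt] at h2
  rw [h2]; exact h1

theorem pr_xt : h.exQ.pr ⟨t * x * t⁻¹, h.xt.1⟩ = - h.exQ.pr ⟨x1, h.x1Q⟩ + h.exQ.pr ⟨x2, h.x2Q⟩ := by
  -- `t x1 t⁻¹ x1 ∈ Z`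
  have h1 : t * x1 * t⁻¹ * x1 ∈ zpowers z := by
    have h4 := h.hy.tt.f_mem h.x1Q
    have h5 : t * x1 * t⁻¹ ∈ one Q t := by
      have h6 := h.hy.tt.m_mem_one h.x1Q
      have h7 : t * x1 * t⁻¹ = (t * x1 * t⁻¹ * x1⁻¹) * x1 := by group
      rw [h7]; exact mul_mem h6 h.hx1
    have h6 : (x1 * (t * x1 * t⁻¹))⁻¹ ∈ one Q t := inv_mem (mul_mem h.hx1 h5)
    have h7 := h.hy.tt.inter h6 h4
    rw [inv_mem_iff, h.hy.tt.comm_self h.x1Q] at h7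
    exact h7
  have h2 : t * x2 * t⁻¹ = x2 := by
    rw [mul_inv_eq_iff_eq_mul]
    exact (mem_two.1 h.hx2).2.symm
  have h3 : t * x1 * t⁻¹ ∈ Q := h.hy.tt.norm x1 h.x1Q
  have e1 : (⟨t * x * t⁻¹, h.xt.1⟩ : Q) = ⟨_, h3⟩ * ⟨x2, h.x2Q⟩ := by
    apply Subtype.ext
    change t * x * t⁻¹ = (t * x1 * t⁻¹) * x2
    rw [h.ex]
    calc t * (x1 * x2) * t⁻¹ = (t * x1 * t⁻¹) * (t * x2 * t⁻¹) := by group
      _ = _ := by rw [h2]
  rw [e1, h.exQ.pr_mul]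
  congr 1
  rw [← h.exQ.pr_inv, eq_comm, h.exQ.pr_eq]
  change (x1⁻¹)⁻¹ * (t * x1 * t⁻¹) ∈ zpowers z
  rw [inv_inv, h.hy.tt.comm_self h.x1Q]
  exact h1

/-- elements of `Q` with the same class -/
theorem zc_of_pr {w e : G} (hwQ : w ∈ Q) (hwz : w ∉ zpowers z) (hw : ZC z w) (heQ : e ∈ Q)
    (he : h.exQ.pr ⟨e, heQ⟩ = h.exQ.pr ⟨w, hwQ⟩) : ZC z e := by
  refine ZC.congr h.exQ hw hwQ hwz ?_
  have h1 := (h.exQ.pr_eq).1 he.symm
  change w⁻¹ * e ∈ zpowers z at h1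
  have h2 := h.exQ.comm_z hwQ h1
  rw [mul_inv_cancel_left] at h2
  rw [h2, mul_inv_cancel_right]
  exact h1

theorem zc_of_pr_neg {w e : G} (hwQ : w ∈ Q) (hwz : w ∉ zpowers z) (hw : ZC z w) (heQ : e ∈ Q)
    (he : h.exQ.pr ⟨e, heQ⟩ = - h.exQ.pr ⟨w, hwQ⟩) : ZC z e := by
  have h1 : ZC z e⁻¹ := by
    refine h.zc_of_pr hwQ hwz hw (inv_mem heQ) ?_
    have : (⟨e⁻¹, inv_mem heQ⟩ : Q) = (⟨e, heQ⟩ : Q)⁻¹ := rfl
    rw [this, h.exQ.pr_inv, he, neg_neg]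
  have := h1.inv
  rwa [inv_inv] at this

/-- the class of `e = x1 ^ m x2 ^ n` -/
theorem zc_of_mn {e : G} (heQ : e ∈ Q) {m n : ℤ}
    (he : h.exQ.pr ⟨e, heQ⟩ = m • h.exQ.pr ⟨x1, h.x1Q⟩ + n • h.exQ.pr ⟨x2, h.x2Q⟩)
    (hm : m % 3 ≠ 0) (hn : n % 3 ≠ 0) : ZC z e := by
  rw [h.exQ.smul_mod _ m, h.exQ.smul_mod _ n] at he
  have hm' : m % 3 = 1 ∨ m % 3 = 2 := by omega
  have hn' : n % 3 = 1 ∨ n % 3 = 2 := by omega
  have h2 : ∀ v : h.exQ.V, (2 : ℤ) • v = - v := by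
    intro v
    have h3 := h.exQ.three_V v
    rw [show (2 : ℤ) = 1 + 1 by norm_num, add_smul, one_smul]
    exact eq_neg_of_add_eq_zero_left h3
  rcases hm' with hm' | hm' <;> rcases hn' with hn' | hn' <;> rw [hm', hn'] at he
  · rw [one_smul, one_smul, ← h.pr_x] at he
    exact h.zc_of_pr h.xQ h.xz h.zc heQ he
  · rw [one_smul, h2] at he
    refine h.zc_of_pr_neg h.xt.1 h.xt.2.1 h.xt.2.2 heQ ?_
    rw [he, h.pr_xt]; abel
  · rw [one_smul, h2, ← h.pr_xt] at he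
    exact h.zc_of_pr h.xt.1 h.xt.2.1 h.xt.2.2 heQ he
  · rw [h2, h2, ← neg_add, ← h.pr_x] at he
    exact h.zc_of_pr_neg h.xQ h.xz h.zc heQ he

/-- the commutator of an element of an abelian subgroup with `q s` -/
theorem step {d q : G} (hd : d ∈ Q) (hq : q ∈ Q) (hc : d * ⁅d, q * s⁆ = ⁅d, q * s⁆ * d) (hcz : ⁅d, q * s⁆ ∈ zpowers z →
    ⁅d, q * s⁆ = 1) : ZC z ⁅d, q * s⁆ ∨ ∃ i j : ℤ, h.exQ.pr ⟨d, hd⟩ = i • h.exQ.pr ⟨x1, h.x1Q⟩ + j • h.exQ.pr ⟨x2, h.x2Q⟩ := by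
  obtain ⟨m, n, hm, hn, i, j, e⟩ := h.key hd
  have hqsz : (q * s) * z = z * (q * s) := by
    have h1 : Commute q z := h.exQ.zc q hq
    exact (h1.mul_left h.sz).eq
  have hdy := h.hy.nor (q * s) hqsz d hd
  have e1 : ⁅d, q * s⁆ = d * ((q * s) * d * (q * s)⁻¹)⁻¹ := by rw [commutatorElement_def]; group
  have heQ : ⁅d, q * s⁆ ∈ Q := by rw [e1]; exact mul_mem hd (inv_mem hdy)
  -- its class
  have p1 : h.exQ.pr ⟨_, hdy⟩ = h.exQ.op h.nor_s h.sz (h.exQ.pr ⟨d, hd⟩) := by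
    rw [h.exQ.op_mk, h.exQ.pr_eq]
    change ((q * s) * d * (q * s)⁻¹)⁻¹ * (s * d * s⁻¹) ∈ zpowers z
    have h2 : ((q * s) * d * (q * s)⁻¹)⁻¹ * (s * d * s⁻¹) = ⁅q, (s * d * s⁻¹)⁻¹⁆ := by
      rw [commutatorElement_def]; group
    rw [h2]
    exact h.exQ.comm q hq _ (inv_mem (h.nor_s d hd))
  have p2 : h.exQ.pr ⟨_, heQ⟩ = m • h.exQ.pr ⟨x1, h.x1Q⟩ + n • h.exQ.pr ⟨x2, h.x2Q⟩ := by
    have e2 : (⟨_, heQ⟩ : Q) = ⟨d, hd⟩ * (⟨_, hdy⟩ : Q)⁻¹ := Subtype.ext e1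
    rw [e2, h.exQ.pr_mul, h.exQ.pr_inv, p1, h.pr_comm' hd e]
    abel
  -- the commutator
  have h3 : ∃ ζ ∈ zpowers z, ⁅d, q * s⁆ = x1 ^ m * x2 ^ n * ζ := by
    have h4 : (⟨_, mul_mem (zpow_mem h.x1Q m) (zpow_mem h.x2Q n)⟩ : Q) =
      ⟨x1 ^ m, zpow_mem h.x1Q m⟩ * ⟨x2 ^ n, zpow_mem h.x2Q n⟩ := rfl
    have h5 : h.exQ.pr ⟨_, mul_mem (zpow_mem h.x1Q m) (zpow_mem h.x2Q n)⟩ = h.exQ.pr ⟨_, heQ⟩ := by
      rw [p2, h4, h.exQ.pr_mul, h.pr_zpow h.x1Q, h.pr_zpow h.x2Q]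
    have h6 := (h.exQ.pr_eq).1 h5
    exact ⟨_, h6, by simp only [mul_inv_cancel_left]⟩
  obtain ⟨ζ, hζ, e3⟩ := h3
  have h4 : ⁅d, ⁅d, q * s⁆⁆ = ⁅f1, x1⁆ ^ (m * m - n * n) := by
    rw [e3, h.exQ.comm_mul' hd (mul_mem (zpow_mem h.x1Q m) (zpow_mem h.x2Q n)) (h.exQ.zle hζ),
      commutatorElement_eq_one_iff_mul_comm.2 (h.exQ.comm_z hd hζ), mul_one,
      h.exQ.comm_mul' hd (zpow_mem h.x1Q m) (zpow_mem h.x2Q n), h.exQ.comm_zpow_right hd h.x1Q,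
      h.exQ.comm_zpow_right hd h.x2Q, hm, hn, ← zpow_mul, ← zpow_mul, ← zpow_add]
    congr 1
    ring
  have h5 : (3 : ℤ) ∣ m * m - n * n := by
    have h6 : ⁅f1, x1⁆ ^ (m * m - n * n) = 1 := by
      rw [← h4]; exact commutatorElement_eq_one_iff_mul_comm.2 hc
    have h7 : orderOf ⁅f1, x1⁆ = 3 :=
      orderOf_eq_prime (h.exQ.exp _ (h.exQ.zle h.om_mem)) h.om_ne
    have h8 := orderOf_dvd_iff_zpow_eq_one.2 h6
    rw [h7] at h8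
    exact_mod_cast h8
  by_cases hm0 : m % 3 = 0
  · right
    have hn0 : n % 3 = 0 := by
      have h6 : (m * m - n * n) % 3 = 0 := Int.emod_eq_zero_of_dvd h5
      have : n % 3 = 0 ∨ n % 3 = 1 ∨ n % 3 = 2 := by omega
      rcases this with h | h | h
      · exact h
      · exfalso; simp [Int.sub_emod, Int.mul_emod, h, hm0] at h6
      · exfalso; simp [Int.sub_emod, Int.mul_emod, h, hm0] at h6
    refine ⟨i, j, ?_⟩
    rw [e, h.exQ.smul_mod _ m, h.exQ.smul_mod _ n, hm0, hn0, zero_smul, zero_smul, add_zero, add_zero]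
  · left
    have hn0 : n % 3 ≠ 0 := by
      intro hn0
      have h6 : (m * m - n * n) % 3 = 0 := Int.emod_eq_zero_of_dvd h5
      have : m % 3 = 1 ∨ m % 3 = 2 := by omega
      rcases this with h | h <;> simp [Int.sub_emod, Int.mul_emod, h, hn0] at h6
    exact h.zc_of_mn heQ p2 hm0 hn0

/-- **The main lemma.** -/
theorem exists_zc [Finite G] {D : Subgroup G} {q : G} (hq : q ∈ Q) (hD : q * s ∈ D)
    (h9 : 9 ≤ Nat.card (D ⊓ Q : Subgroup G)) (hab : ∀ a ∈ D ⊓ Q, ∀ b ∈ D ⊓ Q, a * b = b * a) : ∃ d ∈ D, ZC z d := by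
  by_contra hcon
  push Not at hcon
  have hz : ∀ c ∈ D, c ∈ zpowers z → c = 1 := by
    intro c hc hcz
    by_contra h1
    exact hcon c hc (ZC.of_mem hcz h1)
  have h1 : ∀ d (hd : d ∈ D ⊓ Q), ∃ i j : ℤ, h.exQ.pr ⟨d, hd.2⟩ = i • h.exQ.pr ⟨x1, h.x1Q⟩ + j • h.exQ.pr ⟨x2, h.x2Q⟩ := by
    intro d hd
    have heD : ⁅d, q * s⁆ ∈ D := by
      rw [commutatorElement_def]
      exact mul_mem (mul_mem (mul_mem hd.1 hD) (inv_mem hd.1)) (inv_mem hD)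
    have hqsz : (q * s) * z = z * (q * s) := by
      have h1 : Commute q z := h.exQ.zc q hq
      exact (h1.mul_left h.sz).eq
    have heQ : ⁅d, q * s⁆ ∈ Q := by
      have e1 : ⁅d, q * s⁆ = d * ((q * s) * d * (q * s)⁻¹)⁻¹ := by rw [commutatorElement_def]; group
      rw [e1]; exact mul_mem hd.2 (inv_mem (h.hy.nor (q * s) hqsz d hd.2))
    rcases h.step hd.2 hq (hab d hd _ ⟨heD, heQ⟩) (hz _ heD) with h2 | h2
    · exact absurd h2 (hcon _ heD)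
    · exact h2
  -- counting
  have hfV : Finite h.exQ.V := Nat.finite_of_card_ne_zero (by rw [h.exQ.card_V]; norm_num)
  classical
  let φ : (D ⊓ Q : Subgroup G) → h.exQ.V := fun d => h.exQ.pr ⟨d, d.2.2⟩
  have hφ : Function.Injective φ := by
    intro a b hab'
    have h2 := (h.exQ.pr_eq).1 hab'
    have h3 := hz _ (mul_mem (inv_mem a.2.1) b.2.1) h2
    exact Subtype.ext (inv_mul_eq_one.1 h3)
  let T : Finset h.exQ.V := (Finset.univ : Finset (Fin 3 × Fin 3)).image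
    (fun p => ((p.1 : ℕ) : ℤ) • h.exQ.pr ⟨x1, h.x1Q⟩ + ((p.2 : ℕ) : ℤ) • h.exQ.pr ⟨x2, h.x2Q⟩)
  have hT : T.card ≤ 9 := by
    refine Finset.card_image_le.trans ?_
    simp
  have hmem : ∀ i j : ℤ, i • h.exQ.pr ⟨x1, h.x1Q⟩ + j • h.exQ.pr ⟨x2, h.x2Q⟩ ∈ T := by
    intro i j
    rw [h.exQ.smul_mod _ i, h.exQ.smul_mod _ j]
    rw [Finset.mem_image]
    refine ⟨(⟨(i % 3).toNat, by omega⟩, ⟨(j % 3).toNat, by omega⟩), Finset.mem_univ _, ?_⟩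
    simp only
    rw [Int.toNat_of_nonneg (by omega), Int.toNat_of_nonneg (by omega)]
  have hsub : Set.range φ ⊆ (T : Set h.exQ.V) := by
    rintro _ ⟨d, rfl⟩
    obtain ⟨i, j, e⟩ := h1 d d.2
    change h.exQ.pr ⟨d, d.2.2⟩ ∈ T
    rw [e]; exact hmem i j
  have heq : Set.range φ = (T : Set h.exQ.V) := by
    apply Set.eq_of_subset_of_ncard_le hsub _ (Set.toFinite _)
    rw [Set.ncard_coe_finset]
    have h2 : (Set.range φ).ncard = Nat.card (D ⊓ Q : Subgroup G) := by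
      rw [← Set.image_univ, Set.ncard_image_of_injective _ hφ, Set.ncard_univ]
    rw [h2]
    omega
  have hx : h.exQ.pr ⟨x, h.xQ⟩ ∈ Set.range φ := by
    rw [heq, h.pr_x]
    have := hmem 1 1
    rw [one_smul, one_smul] at this
    exact this
  obtain ⟨d, hd⟩ := hx
  exact hcon d d.2.1 (h.zc_of_pr h.xQ h.xz h.zc d.2.2 hd)

end Std

end Cfsg.Agent.H351.OE
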