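import Cfsg.Agent.H351.OE.Ext

/-!
# S3372: two extraspecial groups

* `Ce Q z` : `Q` is extraspecial with centre `⟨z⟩`, normal in `C(z)` and of index at most three in `3`-subgroups of `C(z)`.
* `exists_pair` : if `Ce Q z`, `Ce Q' x`, `x ∈ Q \ ⟨z⟩` then `x = [f, s]` with `f ∈ Q ∩ Q'` and `s ∈ C_{Q'}(z) \ Q`.
* `Hy Q z t` : the working hypothesis; `Hy.not_mem_one`, `Hy.not_mem_two`.
-/

set_option autoImplicit false
set_option linter.unusedSectionVars false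

namespace Cfsg.Agent.H351.OE

open Subgroup
open scoped commutatorElement

variable {G : Type*} [Group G]

/-- `Q` is extraspecial with centre `⟨z⟩` and large in `C(z)` -/
structure Ce (Q : Subgroup G) (z : G) : Prop where
  ex : Ex Q z
  nor : ∀ c, c * z = z * c → ∀ q ∈ Q, c * q * c⁻¹ ∈ Q
  idx : ∀ P : Subgroup G, IsPGroup 3 P → (∀ p ∈ P, p * z = z * p) → Nat.card P ≤ 3 * Nat.card (P ⊓ Q : Subgroup G)

theorem mem_zpowers_of_three {z c : G} (hz : orderOf z = 3) (hc : c ∈ zpowers z) (hc1 : c ≠ 1) : z ∈ zpowers c := by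
  have h1 : zpowers c ≤ zpowers z := by rw [zpowers_le]; exact hc
  have hf : Finite (zpowers z) := Nat.finite_of_card_ne_zero (by rw [Nat.card_zpowers, hz]; norm_num)
  have h2 : Nat.card (zpowers c) ∣ 3 := by
    have := Subgroup.card_dvd_of_le h1
    rwa [Nat.card_zpowers z, hz] at this
  rcases (Nat.dvd_prime Nat.prime_three).1 h2 with h3 | h3
  · exfalso
    rw [Nat.card_zpowers, orderOf_eq_one_iff] at h3
    exact hc1 h3
  · have h4 := Subgroup.eq_of_le_of_card_ge h1 (by rw [h3, Nat.card_zpowers, hz])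
    rw [h4]; exact mem_zpowers z

theorem eq_or_of_three {x c : G} (hx : orderOf x = 3) (hc : c ∈ zpowers x) (hc1 : c ≠ 1) : c = x ∨ c = x⁻¹ := by
  obtain ⟨i, rfl⟩ := hc
  have h3 : x ^ (3 : ℤ) = 1 := by
    have := pow_orderOf_eq_one x
    rw [hx] at this
    exact_mod_cast this
  have h1 : x ^ i = x ^ (i % 3) := by
    conv_lhs => rw [← Int.emod_add_mul_ediv i 3, zpow_add, zpow_mul, h3, one_zpow, mul_one]
  have h2 : i % 3 = 0 ∨ i % 3 = 1 ∨ i % 3 = 2 := by omega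
  simp only at hc1 ⊢
  rcases h2 with h2 | h2 | h2
  · exfalso; apply hc1; rw [h1, h2, zpow_zero]
  · left; rw [h1, h2, zpow_one]
  · right
    rw [h1, h2, eq_inv_iff_mul_eq_one]
    have : x ^ (2 : ℤ) * x = x ^ (3 : ℤ) := by
      rw [show (3 : ℤ) = 2 + 1 by norm_num, zpow_add, zpow_one]
    rw [this, h3]

theorem comm_of_sup {A : Subgroup G} {s : G} (hA : ∀ a ∈ A, ∀ b ∈ A, a * b = b * a) (hs : ∀ a ∈ A, a * s = s * a) :
    ∀ a ∈ A ⊔ zpowers s, ∀ b ∈ A ⊔ zpowers s, a * b = b * a := by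
  have h1 : A ⊔ zpowers s ≤ centralizer (A : Set G) := by
    refine sup_le (fun a ha => mem_centralizer_iff.2 fun b hb => hA b hb a ha) ?_
    rw [zpowers_le]
    exact mem_centralizer_iff.2 fun b hb => hs b hb
  have h2 : A ⊔ zpowers s ≤ centralizer ({s} : Set G) := by
    refine sup_le (fun a ha => mem_centralizer_singleton_iff.2 (hs a ha)) ?_
    rw [zpowers_le]
    exact mem_centralizer_singleton_iff.2 rfl
  intro a ha b hb
  have h3 : A ⊔ zpowers s ≤ centralizer ({a} : Set G) := by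
    refine sup_le (fun c hc => mem_centralizer_singleton_iff.2 (mem_centralizer_iff.1 (h1 ha) c hc)) ?_
    rw [zpowers_le]
    exact mem_centralizer_singleton_iff.2 (mem_centralizer_singleton_iff.1 (h2 ha)).symm
  exact (mem_centralizer_singleton_iff.1 (h3 hb)).symm

/-- **The pair lemma.** -/
theorem exists_pair {Q Q' : Subgroup G} {z x : G} (h : Ce Q z) (h' : Ce Q' x) (hx : x ∈ Q) (hxz : x ∉ zpowers z) :
    z ∈ Q' ∧ 27 ≤ Nat.card (Q ⊓ Q' : Subgroup G) ∧ (∀ a ∈ Q ⊓ Q', ∀ b ∈ Q ⊓ Q', a * b = b * a) ∧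
    ∃ s f : G, s ∈ Q' ∧ s ∉ Q ∧ s * z = z * s ∧ s * x = x * s ∧ s ^ 3 = 1 ∧ f ∈ Q ∧ f ∈ Q' ∧ f * x = x * f ∧
      ⁅f, s⁆ = x := by
  have hfQ := h.ex.finite
  have hfQ' := h'.ex.finite
  have hzx : z ∉ zpowers x := fun h1 => hxz (mem_zpowers_of_three h'.ex.order h1 h.ex.z1)
  have hint : ∀ c, c ∈ zpowers z → c ∈ zpowers x → c = 1 := by
    intro c h1 h2
    by_contra h3
    have h4 := mem_zpowers_of_three h.ex.order h1 h3
    exact hzx ((zpowers_le.2 h2 : zpowers c ≤ zpowers x) h4)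
  -- `A = C_Q(x)`
  obtain ⟨A, hA⟩ : ∃ A : Subgroup G, A = Q ⊓ centralizer ({x} : Set G) := ⟨_, rfl⟩
  have hAQ : A ≤ Q := by rw [hA]; exact inf_le_left
  have hfA : Finite A := Finite.of_injective _ (Subgroup.inclusion_injective hAQ)
  have hAx : ∀ a ∈ A, a * x = x * a := by
    intro a ha
    rw [hA] at ha
    exact mem_centralizer_singleton_iff.1 ha.2
  have hAc : Nat.card A = 81 := by rw [hA]; exact h.ex.card_cent hx hxz
  have hAp : IsPGroup 3 A := IsPGroup.of_card (n := 4) (by rw [hAc]; norm_num)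
  have hidx := h'.idx A hAp hAx
  rw [hAc] at hidx
  -- commutators of `A` lie in `Q'`
  have hnA : ((A ⊓ Q').subgroupOf A).Normal := by
    constructor
    intro a ha b
    rw [mem_subgroupOf] at ha ⊢
    refine ⟨(b * a * b⁻¹).2, ?_⟩
    exact h'.nor b (hAx b b.2) a ha.2
  have hcA : ∀ a ∈ A, ∀ b ∈ A, ⁅a, b⁆ ∈ Q' := by
    intro a ha b hb
    have h1 : ((A ⊓ Q').subgroupOf A).index ≤ 3 := by
      have h2 := Subgroup.card_mul_index ((A ⊓ Q').subgroupOf A)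
      rw [Nat.card_congr (Subgroup.subgroupOfEquivOfLe (inf_le_left : A ⊓ Q' ≤ A)).toEquiv, hAc] at h2
      by_contra h3
      push Not at h3
      have h4 : 4 ≤ ((A ⊓ Q').subgroupOf A).index := h3
      have h5 : Nat.card (A ⊓ Q' : Subgroup G) * 4 ≤ 81 := by
        rw [← h2]; exact Nat.mul_le_mul_left _ h4
      omega
    have hcq : ∀ u v : A ⧸ (A ⊓ Q').subgroupOf A, u * v = v * u := by
      have h2 : Nat.card (A ⧸ (A ⊓ Q').subgroupOf A) ≤ 3 := h1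
      have h3 : Nat.card (A ⧸ (A ⊓ Q').subgroupOf A) ∣ 3 ^ 4 := by
        have := Subgroup.index_dvd_card ((A ⊓ Q').subgroupOf A)
        rw [hAc] at this
        exact this
      obtain ⟨k, hk, hk2⟩ := (Nat.dvd_prime_pow Nat.prime_three).1 h3
      have hk1 : k ≤ 1 := by
        by_contra h4
        have h5 : 2 ≤ k := by omega
        have := Nat.pow_le_pow_right (show 0 < 3 by norm_num) h5
        omega
      have hcyc : IsCyclic (A ⧸ (A ⊓ Q').subgroupOf A) := by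
        rcases Nat.eq_zero_or_pos k with h4 | h4
        · rw [h4, pow_zero] at hk2
          have := (Nat.card_eq_one_iff_unique.1 hk2).1
          exact isCyclic_of_subsingleton
        · have : k = 1 := by omega
          rw [this, pow_one] at hk2
          have : Fact (Nat.Prime 3) := ⟨Nat.prime_three⟩
          exact isCyclic_of_prime_card hk2
      intro u v
      exact IsCyclic.isMulCommutative.is_comm.comm u v
    have h2 := hcq (QuotientGroup.mk ⟨a, ha⟩) (QuotientGroup.mk ⟨b, hb⟩)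
    rw [← QuotientGroup.mk_mul, ← QuotientGroup.mk_mul, QuotientGroup.eq] at h2
    -- (ab)⁻¹ (ba) ∈ ...
    have h3 : ((⟨a, ha⟩ * ⟨b, hb⟩ : A)⁻¹ * (⟨b, hb⟩ * ⟨a, ha⟩) : A) ∈ (A ⊓ Q').subgroupOf A := h2
    have h4 := hnA.conj_mem _ h3 (⟨b, hb⟩ * ⟨a, ha⟩)
    rw [mem_subgroupOf] at h4
    have h5 : (b * a) * ((a * b)⁻¹ * (b * a)) * (b * a)⁻¹ ∈ Q' := h4.2
    have h6 : (b * a) * ((a * b)⁻¹ * (b * a)) * (b * a)⁻¹ = ⁅b, a⁆ := by
      simp only [commutatorElement_def]; group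
    rw [h6, ← inv_mem_iff, commutatorElement_inv] at h5
    exact h5
  have hzQ' : z ∈ Q' := by
    have h1 : ∃ a ∈ A, ∃ b ∈ A, a * b ≠ b * a := by
      by_contra hcon
      push Not at hcon
      have := h.ex.card_abelian hAQ hcon
      omega
    obtain ⟨a, ha, b, hb, hab⟩ := h1
    have h2 := h.ex.comm a (hAQ ha) b (hAQ hb)
    have h3 : ⁅a, b⁆ ≠ 1 := fun h4 => hab (commutatorElement_eq_one_iff_mul_comm.1 h4)
    exact (zpowers_le.2 (hcA a ha b hb) : zpowers ⁅a, b⁆ ≤ Q') (mem_zpowers_of_three h.ex.order h2 h3)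
  -- `F = Q ∩ Q'`
  have hFab : ∀ a ∈ Q ⊓ Q', ∀ b ∈ Q ⊓ Q', a * b = b * a := by
    intro a ha b hb
    apply commutatorElement_eq_one_iff_mul_comm.1
    exact hint _ (h.ex.comm a ha.1 b hb.1) (h'.ex.comm a ha.2 b hb.2)
  have hF27 : 27 ≤ Nat.card (Q ⊓ Q' : Subgroup G) := by
    have hf : Finite (Q ⊓ Q' : Subgroup G) :=
      Finite.of_injective _ (Subgroup.inclusion_injective (inf_le_left : Q ⊓ Q' ≤ Q))
    have h1 : Nat.card (A ⊓ Q' : Subgroup G) ≤ Nat.card (Q ⊓ Q' : Subgroup G) :=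
      Nat.card_le_card_of_injective _ (Subgroup.inclusion_injective (inf_le_inf_right Q' hAQ))
    omega
  -- `A' = C_{Q'}(z)`
  have hA'c : Nat.card (Q' ⊓ centralizer ({z} : Set G) : Subgroup G) = 81 := h'.ex.card_cent hzQ' hzx
  have hex : ∃ s ∈ Q' ⊓ centralizer ({z} : Set G), s ∉ Q := by
    by_contra hcon
    push Not at hcon
    have h1 : Q' ⊓ centralizer ({z} : Set G) ≤ Q ⊓ Q' := fun s hs => ⟨hcon s hs, hs.1⟩
    have h2 := h.ex.card_abelian (inf_le_left.trans' h1 : Q' ⊓ centralizer ({z} : Set G) ≤ Q)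
      (fun a ha b hb => hFab a (h1 ha) b (h1 hb))
    omega
  obtain ⟨s, hs, hsQ⟩ := hex
  have hsz : s * z = z * s := mem_centralizer_singleton_iff.1 hs.2
  have hsx : s * x = x * s := h'.ex.zc s hs.1
  have hf : ∃ f ∈ Q ⊓ Q', f * s ≠ s * f := by
    by_contra hcon
    push Not at hcon
    have hle : Q ⊓ Q' ⊔ zpowers s ≤ Q' := sup_le inf_le_right (by rw [zpowers_le]; exact hs.1)
    have h2 := h'.ex.card_abelian hle (comm_of_sup hFab hcon)
    have hfS : Finite (Q ⊓ Q' ⊔ zpowers s : Subgroup G) := Finite.of_injective _ (Subgroup.inclusion_injective hle)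
    have h3 : Q ⊓ Q' = Q ⊓ Q' ⊔ zpowers s := Subgroup.eq_of_le_of_card_ge le_sup_left (h2.trans hF27)
    have h4 : s ∈ Q ⊓ Q' := by rw [h3]; exact mem_sup_right (mem_zpowers s)
    exact hsQ h4.1
  obtain ⟨f, hf, hfs⟩ := hf
  refine ⟨hzQ', hF27, hFab, ?_⟩
  have h1 : ⁅f, s⁆ ∈ zpowers x := h'.ex.comm f hf.2 s hs.1
  have h2 : ⁅f, s⁆ ≠ 1 := fun h4 => hfs (commutatorElement_eq_one_iff_mul_comm.1 h4)
  rcases eq_or_of_three h'.ex.order h1 h2 with h3 | h3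
  · exact ⟨s, f, hs.1, hsQ, hsz, hsx, h'.ex.exp s hs.1, hf.1, hf.2, h'.ex.zc f hf.2, h3⟩
  · refine ⟨s, f⁻¹, hs.1, hsQ, hsz, hsx, h'.ex.exp s hs.1, inv_mem hf.1, inv_mem hf.2,
      h'.ex.zc _ (inv_mem hf.2), ?_⟩
    have h4 : ⁅f * f⁻¹, s⁆ = ⁅f, s⁆ * ⁅f⁻¹, s⁆ := h'.ex.comm_mul hf.2 (inv_mem hf.2) hs.1
    rw [mul_inv_cancel, commutatorElement_one_left, h3] at h4
    exact (inv_mul_eq_one.1 h4.symm).symm

/-- the working hypothesis -/
structure Hy (Q : Subgroup G) (z t : G) : Prop extends Ce Q z where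
  tt : Tt Q z t
  tcen : ∀ c, c * z = z * c → ⁅t, c⁆ ∈ Q
  card1 : Nat.card (one Q t) = 27
  card2 : Nat.card (two Q t) = 27
  irr : ∀ B ≤ one Q t, z ∈ B → (∃ b ∈ B, b ∉ zpowers z) → (∀ c, c * z = z * c → ∀ b ∈ B, c * b * c⁻¹ ∈ B) →
    one Q t ≤ B

namespace Hy

variable {Q : Subgroup G} {z t : G} (h : Hy Q z t)

include h

theorem two_conj {c q : G} (hc : c * z = z * c) (hq : q ∈ two Q t) : c * q * c⁻¹ ∈ two Q t := by
  obtain ⟨hqQ, hqt⟩ := mem_two.1 hq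
  have hc' : c⁻¹ * z = z * c⁻¹ := (Commute.inv_left (show Commute c z from hc)).eq
  have h1 := h.tcen c⁻¹ hc'
  have h2 : c⁻¹ * t * c = t * ⁅t, c⁻¹⁆ := by
    have e : t * ⁅t, c⁻¹⁆ = (t * t) * c⁻¹ * t⁻¹ * c := by simp only [commutatorElement_def]; group
    rw [e, h.tt.tt, one_mul, h.tt.tinv]
  obtain ⟨r, hr⟩ : ∃ r, r = ⁅t, c⁻¹⁆ := ⟨_, rfl⟩
  rw [← hr] at h1 h2
  have h3 : ⁅r, q⁆ ∈ zpowers z := h.ex.comm r h1 q hqQ
  have hyQ : c * q * c⁻¹ ∈ Q := h.nor c hc q hqQ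
  have hcζ : c * ⁅r, q⁆ = ⁅r, q⁆ * c := by
    obtain ⟨i, hi⟩ := h3
    rw [← hi]
    exact ((show Commute c z from hc).zpow_right i).eq
  have htζ : t * ⁅r, q⁆ = ⁅r, q⁆ * t := by
    have := h.tt.fix_z h3
    rwa [mul_inv_eq_iff_eq_mul] at this
  have h4 : t * (c * q * c⁻¹) * t⁻¹ = ⁅r, q⁆ * (c * q * c⁻¹) := by
    calc t * (c * q * c⁻¹) * t⁻¹ = c * (c⁻¹ * t * c) * q * (c⁻¹ * t * c)⁻¹ * c⁻¹ := by group
      _ = c * (t * ⁅r, q⁆ * q * t⁻¹) * c⁻¹ := by rw [h2]; simp only [commutatorElement_def]; group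
      _ = c * (⁅r, q⁆ * (t * q * t⁻¹)) * c⁻¹ := by rw [htζ]; group
      _ = (c * ⁅r, q⁆) * q * c⁻¹ := by rw [← hqt, mul_inv_cancel_right]; group
      _ = _ := by rw [hcζ]; group
  have h5 := h.tt.tqt (q := c * q * c⁻¹)
  rw [h4] at h5
  have h6 : t * (⁅r, q⁆ * (c * q * c⁻¹)) * t⁻¹ = ⁅r, q⁆ * (t * (c * q * c⁻¹) * t⁻¹) := by
    rw [← mul_assoc, htζ]; group
  rw [h6, h4, ← mul_assoc, mul_eq_right] at h5
  have h7 := h.tt.z_self h3 (eq_inv_of_mul_eq_one_left h5)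
  rw [h7, one_mul, mul_inv_eq_iff_eq_mul] at h4
  exact mem_two.2 ⟨hyQ, h4.symm⟩

theorem one_conj {c q : G} (hc : c * z = z * c) (hq : q ∈ one Q t) : c * q * c⁻¹ ∈ one Q t := by
  obtain ⟨hqQ, hqt⟩ := mem_one.1 hq
  rw [mem_one]
  refine ⟨h.nor c hc q hqQ, fun a ha => ?_⟩
  have hc' : c⁻¹ * z = z * c⁻¹ := (Commute.inv_left (show Commute c z from hc)).eq
  have h1 := h.two_conj hc' ha
  rw [inv_inv] at h1
  have h2 := hqt _ h1
  calc a * (c * q * c⁻¹) = c * ((c⁻¹ * a * c) * q) * c⁻¹ := by group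
    _ = c * (q * (c⁻¹ * a * c)) * c⁻¹ := by rw [h2]
    _ = _ := by group

theorem mem_of_comm_one {x y : G} (hx : x ∈ one Q t) (hxz : x ∉ zpowers z) (hy : y ∈ one Q t) (hxy : y * x = x * y) :
    y ∈ zpowers x ⊔ zpowers z := by
  refine mem_of_comm27 h.card1 h.ex.order (h.tt.z_mem_one (mem_zpowers z)) (fun p hp => h.ex.zc p (h.tt.one_le hp)) hx hxz
    ?_ hy hxy
  by_contra hcon
  push Not at hcon
  exact hxz (h.tt.cen_one hx (fun b hb => (hcon b hb).symm))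

theorem mem_of_comm_two {x y : G} (hx : x ∈ two Q t) (hxz : x ∉ zpowers z) (hy : y ∈ two Q t) (hxy : y * x = x * y) :
    y ∈ zpowers x ⊔ zpowers z := by
  refine mem_of_comm27 h.card2 h.ex.order (h.tt.z_mem_two (mem_zpowers z)) (fun p hp => h.ex.zc p (h.tt.two_le hp)) hx hxz
    ?_ hy hxy
  by_contra hcon
  push Not at hcon
  exact hxz (h.tt.cen_two hx (fun b hb => (hcon b hb).symm))

/-- the common computation -/
theorem comm_decomp {f s : G} (hf : f ∈ Q) (hs : s * z = z * s) : ∃ a ∈ one Q t, ∃ b ∈ two Q t, f = a * b ∧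
    ⁅a, s⁆ ∈ one Q t ∧ ⁅b, s⁆ ∈ two Q t ∧ ⁅f, s⁆ = ⁅a, s⁆ * ⁅b, s⁆ := by
  obtain ⟨a, ha, b, hb, rfl⟩ := h.tt.exists_decomp hf
  have ha' := h.one_conj hs ha
  have hb' := h.two_conj hs hb
  have h1 : ⁅a, s⁆ = a * (s * a * s⁻¹)⁻¹ := by simp only [commutatorElement_def]; group
  have h2 : ⁅b, s⁆ = b * (s * b * s⁻¹)⁻¹ := by simp only [commutatorElement_def]; group
  have h3 : ⁅a, s⁆ ∈ one Q t := by rw [h1]; exact mul_mem ha (inv_mem ha')
  have h4 : ⁅b, s⁆ ∈ two Q t := by rw [h2]; exact mul_mem hb (inv_mem hb')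
  refine ⟨a, ha, b, hb, rfl, h3, h4, ?_⟩
  have e1 : ⁅a * b, s⁆ = a * ⁅b, s⁆ * (s * a⁻¹ * s⁻¹) := by simp only [commutatorElement_def]; group
  have e2 : a * ⁅b, s⁆ = ⁅b, s⁆ * a := h.tt.one_two ha h4
  have e3 : ⁅b, s⁆ * a * (s * a⁻¹ * s⁻¹) = ⁅b, s⁆ * ⁅a, s⁆ := by simp only [commutatorElement_def]; group
  rw [e1, e2, e3]
  exact (h.tt.one_two h3 h4).symm

theorem fix_of_sup {x s c : G} (hs : s * z = z * s) (hsx : s * x = x * s) (hc : c ∈ zpowers x ⊔ zpowers z) :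
    s * c = c * s := by
  have h1 : zpowers x ⊔ zpowers z ≤ centralizer ({s} : Set G) := by
    refine sup_le ?_ ?_ <;> rw [zpowers_le]
    · exact mem_centralizer_singleton_iff.2 hsx.symm
    · exact mem_centralizer_singleton_iff.2 hs.symm
  exact (mem_centralizer_singleton_iff.1 (h1 hc)).symm

theorem not_mem_one {x f s : G} (hxz : x ∉ zpowers z) (hf : f ∈ Q) (hfx : f * x = x * f)
    (hs : s * z = z * s) (hsx : s * x = x * s) (e : ⁅f, s⁆ = x) : x ∉ one Q t := by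
  intro hx
  obtain ⟨a, ha, b, hb, rfl, h1, h2, h3⟩ := h.comm_decomp hf hs
  have hbx : b * x = x * b := (h.tt.one_two hx hb).symm
  have hax : a * x = x * a := by
    have : a = (a * b) * b⁻¹ := by group
    rw [this]
    have h4 : Commute b x := hbx
    have h5 : Commute (a * b) x := hfx
    exact (h5.mul_left h4.inv_left).eq
  have h4 := h.mem_of_comm_one hx hxz ha hax
  have h5 := h.fix_of_sup hs hsx h4
  have h6 : ⁅a, s⁆ = 1 := commutatorElement_eq_one_iff_mul_comm.2 h5.symm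
  rw [h6, one_mul, e] at h3
  rw [← h3] at h2
  exact hxz (h.tt.inter hx h2)

theorem not_mem_two {x f s : G} (hxz : x ∉ zpowers z) (hf : f ∈ Q) (hfx : f * x = x * f)
    (hs : s * z = z * s) (hsx : s * x = x * s) (e : ⁅f, s⁆ = x) : x ∉ two Q t := by
  intro hx
  obtain ⟨a, ha, b, hb, rfl, h1, h2, h3⟩ := h.comm_decomp hf hs
  have hax : a * x = x * a := h.tt.one_two ha hx
  have hbx : b * x = x * b := by
    have : b = a⁻¹ * (a * b) := by group
    rw [this]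
    have h4 : Commute a x := hax
    have h5 : Commute (a * b) x := hfx
    exact (h4.inv_left.mul_left h5).eq
  have h4 := h.mem_of_comm_two hx hxz hb hbx
  have h5 := h.fix_of_sup hs hsx h4
  have h6 : ⁅b, s⁆ = 1 := commutatorElement_eq_one_iff_mul_comm.2 h5.symm
  rw [h6, mul_one, e] at h3
  rw [← h3] at h1
  exact hxz (h.tt.inter h1 hx)

/-- the components of `x` -/
theorem exists_comp {x : G} (hx : x ∈ Q) (h1 : x ∉ one Q t) (h2 : x ∉ two Q t) : ∃ a ∈ one Q t, ∃ b ∈ two Q t,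
    x = a * b ∧ a ∉ zpowers z ∧ b ∉ zpowers z ∧ a = ⁅t, x⁆ := by
  refine ⟨_, h.tt.m_mem_one hx, _, h.tt.f_mem hx, h.tt.decomp hx, ?_, ?_, rfl⟩
  · intro h3
    apply h2
    rw [h.tt.decomp hx]
    exact mul_mem (h.tt.z_mem_two h3) (h.tt.f_mem hx)
  · intro h3
    apply h1
    rw [h.tt.decomp hx]
    exact mul_mem (h.tt.m_mem_one hx) (h.tt.z_mem_one h3)

/-- a normal subgroup containing `x` -/
theorem le_of_comp {R : Subgroup G} (hR : ∀ c, c * z = z * c → ∀ r ∈ R, c * r * c⁻¹ ∈ R) (hzR : z ∈ R) {x a b : G}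
    (hxR : x ∈ R) (ha : a ∈ one Q t) (haz : a ∉ zpowers z) (hat : a = ⁅t, x⁆) (hx : x = a * b) :
    one Q t ≤ R ∧ b ∈ R := by
  have haR : a ∈ R := by
    rw [hat, commutatorElement_def]
    exact mul_mem (hR t h.tt.tz x hxR) (inv_mem hxR)
  refine ⟨?_, ?_⟩
  · have h1 := h.irr (R ⊓ one Q t) inf_le_right ⟨hzR, h.tt.z_mem_one (mem_zpowers z)⟩ ⟨a, ⟨haR, ha⟩, haz⟩
      (fun c hc q hq => ⟨hR c hc q hq.1, h.one_conj hc hq.2⟩)
    exact h1.trans inf_le_left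
  · have : b = a⁻¹ * x := by rw [hx]; group
    rw [this]
    exact mul_mem (inv_mem haR) hxR

/-- the centralizer in `Q` of such a normal subgroup -/
theorem cen_le {R : Subgroup G} (h1 : one Q t ≤ R) {b : G} (hb : b ∈ R) (hb2 : b ∈ two Q t) (hbz : b ∉ zpowers z)
    {y : G} (hy : y ∈ Q) (hyR : ∀ r ∈ R, y * r = r * y) : y ∈ zpowers b ⊔ zpowers z := by
  obtain ⟨u, hu, v, hv, rfl⟩ := h.tt.exists_decomp hy
  have h3 : u ∈ zpowers z := by
    apply h.tt.cen_one hu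
    intro c hc
    have h4 := hyR c (h1 hc)
    have h5 : Commute (u * v) c := h4
    have h6 : Commute v c := (h.tt.one_two hc hv).symm
    have h7 := h5.mul_left h6.inv_left
    rw [mul_inv_cancel_right] at h7
    exact h7.eq
  have h4 : u * v ∈ two Q t := mul_mem (h.tt.z_mem_two h3) hv
  exact h.mem_of_comm_two hb2 hbz h4 (hyR b hb)

end Hy

end Cfsg.Agent.H351.OE
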