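import Cfsg.Agent.H351.OE.Conj
import Cfsg.Agent.H261.Reduction
import Cfsg.Agent.SignalizersComponents.CoprimeGen

/-!
# S3372: reduction to a simple group

* `Gl Q z t g S` : the global hypothesis.
* `Gl.bot_of_prime` : `O_{3'}(G) = 1`; `Gl.bot_of_three` : `O_3(G) = 1`.
* `Gl.simple` : `layer G` is simple, contains `z`, and has trivial centralizer.
-/

set_option autoImplicit false
set_option linter.unusedSectionVars false

namespace Cfsg.Agent.H351.OE

open Subgroup Cfsg
open scoped commutatorElement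
open Cfsg.Agent.SignalizersComponents.Components

variable {G : Type*} [Group G] [Finite G]

/-- the global hypothesis -/
structure Gl (Q : Subgroup G) (z t g : G) (S : Sylow 3 G) : Prop where
  hy : Hy Q z t
  cQ : centralizer (Q : Set G) ≤ Q
  QS : Q ≤ S
  Sz : ∀ s ∈ S, s * z = z * s
  cS : ∀ y ∈ S, (∀ s ∈ S, s * y = y * s) → y ∈ zpowers z
  solv : Group.IsSolvable (centralizer ({z} : Set G))
  pcore : ∀ N : Subgroup G, (∀ n ∈ N, n * z = z * n) → (∀ c, c * z = z * c → ∀ n ∈ N, c * n * c⁻¹ ∈ N) → IsPGroup 3 N →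
    N ≤ Q
  gx : g * z * g⁻¹ ∈ Q
  gxz : g * z * g⁻¹ ∉ zpowers z

omit [Finite G] in
theorem mem_sup_comm {A B : Subgroup G} (hab : ∀ a ∈ A, ∀ b ∈ B, a * b = b * a) {x : G} (hx : x ∈ A ⊔ B) :
    ∃ a ∈ A, ∃ b ∈ B, x = a * b := by
  let P : Subgroup G :=
    { carrier := {x | ∃ a ∈ A, ∃ b ∈ B, x = a * b}
      mul_mem' := by
        rintro _ _ ⟨a, ha, b, hb, rfl⟩ ⟨c, hc, d, hd, rfl⟩
        refine ⟨a * c, A.mul_mem ha hc, b * d, B.mul_mem hb hd, ?_⟩
        calc a * b * (c * d) = a * (b * c) * d := by group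
          _ = a * (c * b) * d := by rw [hab c hc b hb]
          _ = a * c * (b * d) := by group
      one_mem' := ⟨1, A.one_mem, 1, B.one_mem, by simp⟩
      inv_mem' := by
        rintro _ ⟨a, ha, b, hb, rfl⟩
        refine ⟨a⁻¹, A.inv_mem ha, b⁻¹, B.inv_mem hb, ?_⟩
        rw [mul_inv_rev, ← hab a⁻¹ (A.inv_mem ha) b⁻¹ (B.inv_mem hb)] }
  have h1 : A ⊔ B ≤ P := sup_le (fun a ha => ⟨a, ha, 1, B.one_mem, by simp⟩) (fun b hb => ⟨1, A.one_mem, b, hb, by simp⟩)
  exact h1 hx

omit [Finite G] in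
theorem card_sup_le {x z : G} (hx : orderOf x = 3) (hz : orderOf z = 3) (hxz : x * z = z * x) :
    Nat.card (zpowers x ⊔ zpowers z : Subgroup G) ≤ 9 := by
  have hf1 : Finite (zpowers x) := Nat.finite_of_card_ne_zero (by rw [Nat.card_zpowers, hx]; norm_num)
  have hf2 : Finite (zpowers z) := Nat.finite_of_card_ne_zero (by rw [Nat.card_zpowers, hz]; norm_num)
  have h1 : ∀ a ∈ zpowers x, ∀ b ∈ zpowers z, a * b = b * a := by
    rintro _ ⟨i, rfl⟩ _ ⟨j, rfl⟩
    exact ((show Commute x z from hxz).zpow_zpow i j).eq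
  have h2 : Nat.card (zpowers x ⊔ zpowers z : Subgroup G) ≤ Nat.card (zpowers x × zpowers z) := by
    apply Nat.card_le_card_of_surjective
      (fun p => (⟨(p.1 : G) * p.2, mul_mem (mem_sup_left p.1.2) (mem_sup_right p.2.2)⟩ :
        (zpowers x ⊔ zpowers z : Subgroup G)))
    rintro ⟨w, hw⟩
    obtain ⟨a, ha, b, hb, rfl⟩ := mem_sup_comm h1 hw
    exact ⟨(⟨a, ha⟩, ⟨b, hb⟩), rfl⟩
  rw [Nat.card_prod, Nat.card_zpowers, Nat.card_zpowers, hx, hz] at h2
  exact h2

namespace Gl

variable {Q : Subgroup G} {z t g : G} {S : Sylow 3 G} (h : Gl Q z t g S)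

include h

/-- the components of the conjugate `x` of `z` -/
theorem comp : ∃ a ∈ one Q t, ∃ b ∈ two Q t, g * z * g⁻¹ = a * b ∧ a ∉ zpowers z ∧ b ∉ zpowers z ∧
    a = ⁅t, g * z * g⁻¹⁆ := by
  obtain ⟨-, -, -, s, f, -, -, hsz, hsx, -, hf, -, hfx, e⟩ := exists_pair h.hy.toCe (h.hy.toCe.conj g) h.gx h.gxz
  exact h.hy.exists_comp h.gx (h.hy.not_mem_one h.gxz hf hfx hsz hsx e) (h.hy.not_mem_two h.gxz hf hfx hsz hsx e)

/-- normal `3'`-subgroups are trivial -/
theorem bot_of_prime {M : Subgroup G} (hM : M.Normal) (h3 : ¬ 3 ∣ Nat.card M) : M = ⊥ := by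
  have hF : Fact (Nat.Prime 3) := ⟨Nat.prime_three⟩
  -- the centralizer of `z` in `M`
  have hMQ : ∀ y ∈ M, y ∈ Q → y = 1 := by
    intro y hy hyQ
    have h1 : orderOf y ∣ 3 := orderOf_dvd_of_pow_eq_one (h.hy.ex.exp y hyQ)
    rcases (Nat.dvd_prime Nat.prime_three).1 h1 with h2 | h2
    · exact orderOf_eq_one_iff.1 h2
    · exfalso
      apply h3
      rw [← h2]
      have := orderOf_dvd_natCard (⟨y, hy⟩ : M)
      rwa [Subgroup.orderOf_mk] at this
  have hMz : ∀ y ∈ M, y * z = z * y → y = 1 := by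
    intro y hy hyz
    apply hMQ y hy
    apply h.cQ
    rw [mem_centralizer_iff]
    intro q hq
    have h1 : ⁅q, y⁆ ∈ M := by
      rw [commutatorElement_def]
      exact mul_mem (hM.conj_mem y hy q) (inv_mem hy)
    have h2 : ⁅q, y⁆ ∈ Q := by
      have e : ⁅q, y⁆ = q * (y * q⁻¹ * y⁻¹) := by rw [commutatorElement_def]; group
      rw [e]
      exact mul_mem hq (h.hy.nor y hyz _ (inv_mem hq))
    exact commutatorElement_eq_one_iff_mul_comm.1 (hMQ _ h1 h2)
  have hMc : ∀ k : G, ∀ y ∈ M, y * (k * z * k⁻¹) = (k * z * k⁻¹) * y → y = 1 := by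
    intro k y hy hyk
    have h1 := hMz _ (hM.conj_mem y hy k⁻¹) (by rw [inv_inv]; exact conj_comm_iff.1 hyk)
    exact conj_eq_one_iff.1 h1
  -- the elementary abelian group `⟨x, z⟩`
  obtain ⟨x, hx⟩ : ∃ x, x = g * z * g⁻¹ := ⟨_, rfl⟩
  have hxQ : x ∈ Q := by rw [hx]; exact h.gx
  have hxz : x ∉ zpowers z := by rw [hx]; exact h.gxz
  have hcomm : x * z = z * x := h.hy.ex.zc x hxQ
  have hab : ∀ a ∈ zpowers x ⊔ zpowers z, ∀ b ∈ zpowers x ⊔ zpowers z, a * b = b * a := by
    refine comm_of_sup ?_ ?_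
    · rintro _ ⟨i, rfl⟩ _ ⟨j, rfl⟩
      exact (Commute.refl x).zpow_zpow i j
    · rintro _ ⟨i, rfl⟩
      exact ((show Commute x z from hcomm).zpow_left i).eq
  have hleQ : zpowers x ⊔ zpowers z ≤ Q := sup_le (by rw [zpowers_le]; exact hxQ) h.hy.ex.zle
  have hA : Cfsg.IsElementaryAbelian 3 (zpowers x ⊔ zpowers z) :=
    ⟨⟨⟨fun a b => Subtype.ext (hab a a.2 b b.2)⟩⟩, fun a ha => h.hy.ex.exp a (hleQ ha)⟩
  have hA2 : 3 ^ 2 ≤ Nat.card (zpowers x ⊔ zpowers z : Subgroup G) := by
    have h5 : 3 < Nat.card (zpowers x ⊔ zpowers z : Subgroup G) := by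
      by_contra h6
      push Not at h6
      have h7 : zpowers z = zpowers x ⊔ zpowers z :=
        Subgroup.eq_of_le_of_card_ge le_sup_right (by rw [h.hy.ex.card_z]; exact h6)
      exact hxz (h7 ▸ mem_sup_left (mem_zpowers x))
    have h6 : Nat.card (zpowers x ⊔ zpowers z : Subgroup G) ∣ 3 ^ 5 := by
      rw [← h.hy.ex.card]; exact Subgroup.card_dvd_of_le hleQ
    obtain ⟨j, hj, hj2⟩ := (Nat.dvd_prime_pow Nat.prime_three).1 h6
    rw [hj2]
    apply Nat.pow_le_pow_right (by norm_num)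
    by_contra h7
    have h8 : j ≤ 1 := by omega
    have := Nat.pow_le_pow_right (show 0 < 3 by norm_num) h8
    omega
  have hgen := Cfsg.Agent.SignalizersComponents.CoprimeGen.le_iSup_centralizer_ne_one hA hA2 h3
    (by rw [normalizer_eq_top]; exact le_top : zpowers x ⊔ zpowers z ≤ normalizer (M : Set G))
  rw [eq_bot_iff]
  refine hgen.trans (iSup_le ?_)
  rintro ⟨a, ha, ha1⟩ y ⟨hyM, hya⟩
  rw [mem_bot]
  have hya' : y * a = a * y := mem_centralizer_singleton_iff.1 hya
  -- `a` is conjugate into `⟨z⟩`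
  obtain ⟨a', ⟨j, rfl⟩, c, hc, rfl⟩ := mem_sup_comm (fun a ha b hb => hab a (mem_sup_left ha) b (mem_sup_right hb)) ha
  simp only at ha1 hya'
  have hxo : orderOf x = 3 := by
    rw [hx]; exact (h.hy.toCe.conj g).ex.order
  obtain ⟨k, hk⟩ : ∃ k : G, k * z * k⁻¹ ∈ zpowers (x ^ j * c) := by
    by_cases hj : x ^ j ∈ zpowers z
    · have h1 : x ^ j = 1 := by
        by_contra h2
        apply hxz
        have h3 := mem_zpowers_of_three hxo (⟨j, rfl⟩ : x ^ j ∈ zpowers x) h2
        exact (zpowers_le.2 hj : zpowers (x ^ j) ≤ zpowers z) h3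
      rw [h1, one_mul] at ha1 ⊢
      refine ⟨1, ?_⟩
      rw [one_mul, inv_one, mul_one]
      exact mem_zpowers_of_three h.hy.ex.order hc ha1
    · obtain ⟨q, hq, hq2⟩ := h.hy.ex.exists_conj (zpow_mem hxQ j) hj hc
      refine ⟨q * g, ?_⟩
      have h1 : x ^ j * c = q * x ^ j * q⁻¹ := by rw [hq2]; exact h.hy.ex.comm_z (zpow_mem hxQ j) hc
      have h2 : q * g * z * (q * g)⁻¹ = q * x * q⁻¹ := by rw [hx]; group
      rw [h1, h2, mem_zpowers_conj]
      have h3 : q⁻¹ * (q * x * q⁻¹) * q = x := by group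
      rw [h3]
      refine mem_zpowers_of_three hxo ⟨j, rfl⟩ ?_
      intro h4
      rw [h4] at hj
      exact hj (one_mem _)
  obtain ⟨i, hi⟩ := hk
  apply hMc k y hyM
  simp only at hi
  rw [← hi]
  exact ((show Commute y (x ^ j * c) from hya').zpow_right i).eq

/-- a nonabelian subgroup cannot lie in an abelian one -/
theorem not_abelian {A : Subgroup G} (hA : ∀ a ∈ A, ∀ b ∈ A, a * b = b * a) : ¬ one Q t ≤ A := by
  intro h1
  have h2 : one Q t ≤ zpowers z := fun a ha => h.hy.tt.cen_one ha (fun b hb => hA a (h1 ha) b (h1 hb))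
  have h3 := Subgroup.card_dvd_of_le h2
  rw [h.hy.card1, h.hy.ex.card_z] at h3
  norm_num at h3

/-- `z` lies in the nontrivial normal subgroups -/
theorem z_mem {N : Subgroup G} (hN : N.Normal) (hne : N ≠ ⊥) : z ∈ N := by
  have hF : Fact (Nat.Prime 3) := ⟨Nat.prime_three⟩
  have h3 : 3 ∣ Nat.card N := by
    by_contra h1
    exact hne (h.bot_of_prime hN h1)
  obtain ⟨y, hy⟩ := exists_prime_orderOf_dvd_card' 3 h3
  have hy1 : (y : G) ≠ 1 := by
    intro h1
    have h2 : y = 1 := Subtype.ext h1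
    rw [h2, orderOf_one] at hy
    norm_num at hy
  have hp : IsPGroup 3 (zpowers (y : G)) := by
    refine IsPGroup.of_card_dvd_pow (n := 1) ?_
    rw [Nat.card_zpowers, Subgroup.orderOf_coe, hy, pow_one]
  obtain ⟨P, hP⟩ := hp.exists_le_sylow
  obtain ⟨k, hk⟩ := MulAction.exists_smul_eq G P S
  have hky : k * (y : G) * k⁻¹ ∈ (S : Subgroup G) := by
    rw [← hk]
    exact Subgroup.smul_mem_pointwise_smul (y : G) (MulAut.conj k) (P : Subgroup G) (hP (Subgroup.mem_zpowers _))
  have hD1 : N ⊓ (S : Subgroup G) ≠ ⊥ := by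
    intro hb
    have h1 : k * (y : G) * k⁻¹ ∈ N ⊓ (S : Subgroup G) := ⟨hN.conj_mem _ y.2 k, hky⟩
    rw [hb, Subgroup.mem_bot] at h1
    exact hy1 (conj_eq_one_iff.1 h1)
  obtain ⟨w, hw, hw1, hc⟩ := Cfsg.Agent.Characters.CNBasic.exists_mem_center_of_normal (S : Subgroup G) S.isPGroup'
    (N ⊓ (S : Subgroup G)) (S.isPGroup'.to_le inf_le_right) hD1
    (fun s hs d hd => ⟨hN.conj_mem _ hd.1 s, (S : Subgroup G).mul_mem ((S : Subgroup G).mul_mem hs hd.2)
      ((S : Subgroup G).inv_mem hs)⟩)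
  have h1 := h.cS w hw.2 hc
  exact (zpowers_le.2 hw.1 : zpowers w ≤ N) (mem_zpowers_of_three h.hy.ex.order h1 hw1)

/-- normal abelian subgroups are trivial -/
theorem bot_of_abelian {A : Subgroup G} (hA : A.Normal) (hab : ∀ a ∈ A, ∀ b ∈ A, a * b = b * a) : A = ⊥ := by
  by_contra hne
  have hz := h.z_mem hA hne
  obtain ⟨a, ha, b, hb, e, haz, hbz, hat⟩ := h.comp
  have hx : g * z * g⁻¹ ∈ A := hA.conj_mem z hz g
  have h1 := h.hy.le_of_comp (R := A) (fun c _ r hr => hA.conj_mem r hr c) hz hx ha haz hat e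
  exact h.not_abelian hab h1.1

theorem fitting_bot : fittingSubgroup G = ⊥ := by
  have hn : (fittingSubgroup G).Normal := Cfsg.Agent.Lib.Cores.fittingSubgroup_normal
  by_contra hne
  have hnil : Group.IsNilpotent (fittingSubgroup G) := Cfsg.Agent.Lib.Cores.fittingSubgroup_isNilpotent
  have h1 : ((center (fittingSubgroup G)).map (fittingSubgroup G).subtype).Normal := inferInstance
  have h2 := h.bot_of_abelian h1 (by
    rintro _ ⟨a, ha, rfl⟩ _ ⟨b, hb, rfl⟩
    exact congrArg Subtype.val (Subgroup.mem_center_iff.1 hb a))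
  have h3 : center (fittingSubgroup G) = ⊥ := by
    rw [eq_bot_iff]
    intro a ha
    have h4 : (a : G) ∈ (center (fittingSubgroup G)).map (fittingSubgroup G).subtype := ⟨a, ha, rfl⟩
    rw [h2, mem_bot] at h4
    rw [mem_bot]
    exact Subtype.ext h4
  have h4 : Nontrivial (fittingSubgroup G) := (Subgroup.nontrivial_iff_ne_bot _).2 hne
  exact Group.IsNilpotent.center_ne_bot _ h3

/-- components do not centralise `z` -/
theorem not_le_of_component {K : Subgroup G} (hK : IsComponent K) : ¬ ∀ k ∈ K, k * z = z * k := by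
  intro hle
  have h1 : K ≤ centralizer ({z} : Set G) := fun k hk => mem_centralizer_singleton_iff.2 (hle k hk)
  have := h.solv
  have h2 : Group.IsSolvable K := Group.isSolvable_of_isSolvable_injective (Subgroup.inclusion_injective h1)
  exact quasisimple_not_isSolvable hK.2 h2

/-- **The reduction.** -/
theorem simple : (layer G).Normal ∧ IsSimpleGroup (layer G) ∧ ¬ IsMulCommutative (layer G) ∧ z ∈ layer G ∧
    centralizer (layer G : Set G) = ⊥ ∧ generalizedFittingSubgroup G = layer G := by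
  have hF3 : Fact (Nat.Prime 3) := ⟨Nat.prime_three⟩
  have hF := h.fitting_bot
  have hE : generalizedFittingSubgroup G = layer G := by
    rw [Cfsg.Agent.Lib.GenFitting.genFitting_def, hF, sup_bot_eq]
  have hFn : (generalizedFittingSubgroup G).Normal := Cfsg.Agent.Lib.GenFitting.genFitting_normal
  have hEn : (layer G).Normal := by rw [← hE]; exact hFn
  have hCle := Cfsg.Agent.Lib.GenFitting.centralizer_genFitting_le (G := G)
  rw [hE] at hCle
  have hcn : (centralizer (layer G : Set G)).Normal := inferInstance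
  have hCE : centralizer (layer G : Set G) = ⊥ :=
    h.bot_of_abelian hcn (fun a ha b hb => (mem_centralizer_iff.1 hb a (hCle ha)))
  have hEne : layer G ≠ ⊥ := by
    intro hb
    rw [hb] at hCE
    apply h.hy.ex.z1
    have : z ∈ centralizer ((⊥ : Subgroup G) : Set G) := by
      rw [mem_centralizer_iff]
      intro y hy
      rw [Subgroup.mem_bot.1 hy, one_mul, mul_one]
    rw [hCE, mem_bot] at this
    exact this
  have hzE : z ∈ layer G := h.z_mem hEn hEne
  -- a component
  obtain ⟨L, hL⟩ : ∃ L : Subgroup G, IsComponent L := by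
    by_contra hcon
    push Not at hcon
    apply hEne
    rw [eq_bot_iff]
    exact (layer_le_iff).2 fun K hK => absurd hK (hcon K)
  have hLE : L ≤ layer G := component_le_layer hL
  -- decomposition with respect to any component
  have hLM : ∀ L : Subgroup G, IsComponent L → ∀ x ∈ L, (∀ y ∈ L, y * x = x * y) → x = 1 := by
    intro L hL x hx hxc
    have h1 : x ∈ centralizer (layer G : Set G) := by
      have h2 : layer G ≤ centralizer ({x} : Set G) := by
        rw [layer_le_iff]
        intro K hK k hk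
        rw [Subgroup.mem_centralizer_singleton_iff]
        by_cases hKL : K = L
        · subst hKL
          exact hxc k hk
        · exact (mem_centralizer_iff.1 (component_le_centralizer_of_ne hK hL hKL hk) x hx).symm
      rw [mem_centralizer_iff]
      intro y hy
      exact (Subgroup.mem_centralizer_singleton_iff.1 (h2 hy))
    rw [hCE] at h1
    exact Subgroup.mem_bot.1 h1
  have hdec : ∀ L : Subgroup G, IsComponent L → ∀ x ∈ layer G, ∃ a ∈ L, ∃ b ∈ centralizer (L : Set G), x = a * b := by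
    intro L hL x hx
    refine mem_sup_comm (fun a ha b hb => mem_centralizer_iff.1 hb a ha) ?_
    have h1 : layer G ≤ L ⊔ centralizer (L : Set G) := by
      rw [layer_le_iff]
      intro K hK
      by_cases hKL : K = L
      · rw [hKL]; exact le_sup_left
      · exact (component_le_centralizer_of_ne hK hL hKL).trans le_sup_right
    exact h1 hx
  -- uniqueness of the decomposition
  have huq : ∀ L : Subgroup G, IsComponent L → ∀ a ∈ L, ∀ b ∈ centralizer (L : Set G), ∀ a' ∈ L,
      ∀ b' ∈ centralizer (L : Set G), a * b = a' * b' → a = a' := by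
    intro L hL a ha b hb a' ha' b' hb' e
    have h1 : a'⁻¹ * a = b' * b⁻¹ := by
      rw [eq_mul_inv_iff_mul_eq, mul_assoc, e]; group
    have h2 : a'⁻¹ * a = 1 := by
      apply hLM L hL _ (mul_mem (inv_mem ha') ha)
      rw [h1]
      intro y hy
      exact mem_centralizer_iff.1 (mul_mem hb' (inv_mem hb)) y hy
    exact (inv_mul_eq_one.1 h2).symm
  -- the centre of `C_E(z)`
  obtain ⟨a, ha, b, hb, hzab⟩ := hdec L hL z hzE
  have hab : a * b = b * a := mem_centralizer_iff.1 hb a ha
  have ha3 : a ^ 3 = 1 := by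
    have h1 : a ^ 3 * b ^ 3 = 1 * 1 := by
      rw [← (show Commute a b from hab).mul_pow, ← hzab, h.hy.ex.zz, one_mul]
    exact huq L hL _ (pow_mem ha 3) _ (pow_mem hb 3) 1 (one_mem _) 1 (one_mem _) h1
  have ha1 : a ≠ 1 := by
    rintro rfl
    apply h.not_le_of_component hL
    intro x hx
    rw [hzab, one_mul]
    exact mem_centralizer_iff.1 hb x hx
  have haC : ∀ y ∈ layer G, y * z = z * y → a * y = y * a := by
    intro y hy hyz
    obtain ⟨c, hc, d, hd, rfl⟩ := hdec L hL y hy
    have hcd := mem_centralizer_iff.1 hd c hc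
    have had := mem_centralizer_iff.1 hd a ha
    have hcb := mem_centralizer_iff.1 hb c hc
    have h1 : (c * a) * (d * b) = (a * c) * (b * d) := by
      calc (c * a) * (d * b) = c * (a * d) * b := by group
        _ = (c * d) * (a * b) := by rw [had]; group
        _ = (a * b) * (c * d) := by rw [← hzab]; exact hyz
        _ = a * (b * c) * d := by group
        _ = (a * c) * (b * d) := by rw [← hcb]; group
    have h2 := huq L hL _ (mul_mem hc ha) _ (mul_mem hd hb) _ (mul_mem ha hc) _ (mul_mem hb hd) h1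
    calc a * (c * d) = (a * c) * d := by group
      _ = c * (a * d) := by rw [← h2]; group
      _ = c * d * a := by rw [had]; group
  -- the group of the elements of order three in the centre
  let N : Subgroup G :=
    { carrier := {y | y ∈ layer G ∧ y * z = z * y ∧ (∀ w ∈ layer G, w * z = z * w → y * w = w * y) ∧ y ^ 3 = 1}
      mul_mem' := by
        rintro u v ⟨hu1, hu2, hu3, hu4⟩ ⟨hv1, hv2, hv3, hv4⟩
        refine ⟨mul_mem hu1 hv1, ((show Commute u z from hu2).mul_left hv2).eq, fun w hw hwz => ?_, ?_⟩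
        · exact ((show Commute u w from hu3 w hw hwz).mul_left (hv3 w hw hwz)).eq
        · rw [(show Commute u v from hu3 v hv1 hv2).mul_pow, hu4, hv4, one_mul]
      one_mem' := ⟨one_mem _, by simp, fun w _ _ => by simp, one_pow 3⟩
      inv_mem' := by
        rintro u ⟨hu1, hu2, hu3, hu4⟩
        refine ⟨inv_mem hu1, ((show Commute u z from hu2).inv_left).eq, fun w hw hwz => ?_, ?_⟩
        · exact ((show Commute u w from hu3 w hw hwz).inv_left).eq
        · rw [inv_pow, hu4, inv_one] }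
  have hNQ : N ≤ Q := by
    refine h.pcore N (fun n hn => hn.2.1) ?_ ?_
    · rintro c hc n ⟨hn1, hn2, hn3, hn4⟩
      have hc' : c⁻¹ * z = z * c⁻¹ := ((show Commute c z from hc).inv_left).eq
      refine ⟨hEn.conj_mem n hn1 c, ?_, fun w hw hwz => ?_, ?_⟩
      · have h1 : Commute (c * n * c⁻¹) z :=
          ((show Commute c z from hc).mul_left hn2).mul_left hc'
        exact h1.eq
      · have h1 := hn3 (c⁻¹ * w * c) (by have := hEn.conj_mem w hw c⁻¹; rwa [inv_inv] at this)
          ((((show Commute c⁻¹ z from hc').mul_left hwz).mul_left hc).eq)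
        calc c * n * c⁻¹ * w = c * (n * (c⁻¹ * w * c)) * c⁻¹ := by group
          _ = c * ((c⁻¹ * w * c) * n) * c⁻¹ := by rw [h1]
          _ = _ := by group
      · rw [conj_pow, hn4]; group
    · rw [IsPGroup]
      rintro ⟨n, hn⟩
      exact ⟨1, Subtype.ext hn.2.2.2⟩
  have haN : a ∈ N := ⟨hLE ha, by rw [hzab, mul_assoc a b a, ← hab], haC, ha3⟩
  -- `N` has order at most nine
  obtain ⟨u, hu, v, hv, e, huz, hvz, hut⟩ := h.comp
  have hxR : g * z * g⁻¹ ∈ layer G ⊓ Q := ⟨hEn.conj_mem z hzE g, h.gx⟩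
  have hR := h.hy.le_of_comp (R := layer G ⊓ Q) (fun c hc r hr => ⟨hEn.conj_mem r hr.1 c, h.hy.nor c hc r hr.2⟩)
    ⟨hzE, h.hy.ex.zQ⟩ hxR hu huz hut e
  have hNW : N ≤ zpowers v ⊔ zpowers z := by
    intro y hy
    refine h.hy.cen_le hR.1 hR.2 hv hvz (hNQ hy) (fun r hr => ?_)
    exact hy.2.2.1 r hr.1 (h.hy.ex.zc r hr.2)
  have hvo : orderOf v = 3 := orderOf_eq_prime (h.hy.ex.exp v (h.hy.tt.two_le hv)) (by rintro rfl; exact hvz (one_mem _))
  have hN9 : Nat.card N ≤ 9 := by
    have h1 := card_sup_le hvo h.hy.ex.order (h.hy.ex.zc v (h.hy.tt.two_le hv))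
    have hf : Finite (zpowers v ⊔ zpowers z : Subgroup G) := inferInstance
    exact (Nat.card_le_card_of_injective _ (Subgroup.inclusion_injective hNW)).trans h1
  -- conjugates of `a`
  have hcomp : ∀ k : G, k * z = z * k → ∀ L' : Subgroup G, L' = cj k L →
      IsComponent L' ∧ k * a * k⁻¹ ∈ L' ∧ k * a * k⁻¹ ∈ N := by
    intro k hk L' hL'
    refine ⟨by rw [hL']; exact isComponent_conj k hL, ?_, ?_⟩
    · rw [hL', mem_cj]
      have : k⁻¹ * (k * a * k⁻¹) * k = a := by group
      rw [this]; exact ha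
    · obtain ⟨hn1, hn2, hn3, hn4⟩ := haN
      have hk' : k⁻¹ * z = z * k⁻¹ := ((show Commute k z from hk).inv_left).eq
      refine ⟨hEn.conj_mem a hn1 k, ?_, fun w hw hwz => ?_, ?_⟩
      · exact (((show Commute k z from hk).mul_left hn2).mul_left hk').eq
      · have h1 := hn3 (k⁻¹ * w * k) (by have := hEn.conj_mem w hw k⁻¹; rwa [inv_inv] at this)
          ((((show Commute k⁻¹ z from hk').mul_left hwz).mul_left hk).eq)
        calc k * a * k⁻¹ * w = k * (a * (k⁻¹ * w * k)) * k⁻¹ := by group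
          _ = k * ((k⁻¹ * w * k) * a) * k⁻¹ := by rw [h1]
          _ = _ := by group
      · rw [conj_pow, hn4]; group
  -- `S` normalises `L`
  have hSL : ∀ s ∈ S, cj s L = L := by
    intro s hs
    by_contra hne
    have hsz := h.Sz s hs
    have hs2z : (s * s) * z = z * (s * s) := ((show Commute s z from hsz).mul_left hsz).eq
    obtain ⟨hL1, ha1L, ha1N⟩ := hcomp s hsz (cj s L) rfl
    obtain ⟨hL2, ha2L, ha2N⟩ := hcomp (s * s) hs2z (cj (s * s) L) rfl
    have hcc : ∀ k l : G, cj (k * l) L = cj k (cj l L) := by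
      intro k l
      ext y
      rw [mem_cj, mem_cj, mem_cj]
      have : (k * l)⁻¹ * y * (k * l) = l⁻¹ * (k⁻¹ * y * k) * l := by group
      rw [this]
    have hinj : ∀ (k : G) (A B : Subgroup G), cj k A = cj k B → A = B := by
      intro k A B hAB
      ext y
      have h1 : k * y * k⁻¹ ∈ cj k A ↔ k * y * k⁻¹ ∈ cj k B := by rw [hAB]
      rw [mem_cj, mem_cj] at h1
      have h2 : k⁻¹ * (k * y * k⁻¹) * k = y := by group
      rwa [h2] at h1
    have h12 : cj (s * s) L ≠ cj s L := by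
      rw [hcc]
      intro h1
      exact hne (hinj s _ _ h1)
    have h02 : cj (s * s) L ≠ L := by
      intro h1
      -- `s` is a power of `s * s`
      have hstab : ∀ n : ℕ, cj ((s * s) ^ n) L = L := by
        intro n
        induction n with
        | zero =>
          ext y; rw [pow_zero, mem_cj, inv_one, one_mul, mul_one]
        | succ n ih => rw [pow_succ, hcc, h1, ih]
      obtain ⟨m, hm⟩ := (S.isPGroup') ⟨s, hs⟩
      have hm' : s ^ 3 ^ m = 1 := congrArg Subtype.val hm
      have hodd : Odd (3 ^ m) := Odd.pow (by decide)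
      obtain ⟨r, hr⟩ := hodd
      have h3 : (s * s) ^ (r + 1) = s := by
        rw [← pow_two, ← pow_mul]
        have : 2 * (r + 1) = 3 ^ m + 1 := by rw [hr]; ring
        rw [this, pow_succ, hm', one_mul]
      apply hne
      have h4 := hstab (r + 1)
      rwa [h3] at h4
    -- the centralisers
    have hc1 := component_le_centralizer_of_ne hL1 hL (fun h1 => hne h1)
    have hc2 := component_le_centralizer_of_ne hL2 hL h02
    have hc21 := component_le_centralizer_of_ne hL2 hL1 h12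
    obtain ⟨a1, ha1'⟩ : ∃ a1, a1 = s * a * s⁻¹ := ⟨_, rfl⟩
    obtain ⟨a2, ha2'⟩ : ∃ a2, a2 = (s * s) * a * (s * s)⁻¹ := ⟨_, rfl⟩
    rw [← ha1'] at ha1L ha1N
    rw [← ha2'] at ha2L ha2N
    have hao : orderOf a = 3 := orderOf_eq_prime ha3 ha1
    have ha1ne : a1 ≠ 1 := by rw [ha1']; intro h1; exact ha1 (conj_eq_one_iff.1 h1)
    have ha2ne : a2 ≠ 1 := by rw [ha2']; intro h1; exact ha1 (conj_eq_one_iff.1 h1)
    have ha1o : orderOf a1 = 3 := orderOf_eq_prime (ha1N.2.2.2) ha1ne
    have haa1 : a * a1 = a1 * a := haN.2.2.1 a1 ha1N.1 ha1N.2.1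
    have hN' : zpowers a ⊔ zpowers a1 = N := by
      have h1 : zpowers a ⊔ zpowers a1 ≤ N := sup_le (by rw [zpowers_le]; exact haN) (by rw [zpowers_le]; exact ha1N)
      refine Subgroup.eq_of_le_of_card_ge h1 (hN9.trans ?_)
      by_contra h2
      push Not at h2
      have h3 : Nat.card (zpowers a ⊔ zpowers a1 : Subgroup G) ∣ 3 ^ 5 := by
        rw [← h.hy.ex.card]; exact Subgroup.card_dvd_of_le (h1.trans hNQ)
      obtain ⟨j, hj, hj2⟩ := (Nat.dvd_prime_pow Nat.prime_three).1 h3
      have h4 : j ≤ 1 := by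
        by_contra h5
        have h6 : 2 ≤ j := by omega
        have := Nat.pow_le_pow_right (show 0 < 3 by norm_num) h6
        omega
      have h5 : Nat.card (zpowers a ⊔ zpowers a1 : Subgroup G) ≤ 3 := by
        rw [hj2]
        exact Nat.pow_le_pow_right (show 0 < 3 by norm_num) h4
      have h6 : zpowers a = zpowers a ⊔ zpowers a1 :=
        Subgroup.eq_of_le_of_card_ge le_sup_left (by rw [Nat.card_zpowers, hao]; exact h5)
      have h7 : a1 ∈ zpowers a := by rw [h6]; exact mem_sup_right (mem_zpowers a1)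
      have h8 : a1 ∈ L := (zpowers_le.2 ha : zpowers a ≤ L) h7
      exact ha1ne (hLM L hL a1 h8 (fun y hy => mem_centralizer_iff.1 (hc1 ha1L) y hy))
    have h1 : a2 ∈ zpowers a ⊔ zpowers a1 := by rw [hN']; exact ha2N
    obtain ⟨p, hp, q, hq, e2⟩ := mem_sup_comm (by
      rintro _ ⟨i, rfl⟩ _ ⟨j, rfl⟩
      exact ((show Commute a a1 from haa1).zpow_zpow i j).eq) h1
    have hpL : p ∈ L := (zpowers_le.2 ha : zpowers a ≤ L) hp
    have hqL : q ∈ cj s L := (zpowers_le.2 ha1L : zpowers a1 ≤ cj s L) hq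
    have hp1 : p = 1 := by
      apply hLM L hL p hpL
      have e3 : p = a2 * q⁻¹ := by rw [e2]; group
      rw [e3]
      intro y hy
      exact mem_centralizer_iff.1 (mul_mem (hc2 ha2L) (inv_mem (hc1 hqL))) y hy
    rw [hp1, one_mul] at e2
    apply ha2ne
    apply hLM _ hL1 a2 (by rw [e2]; exact hqL)
    intro y hy
    exact mem_centralizer_iff.1 (hc21 ha2L) y hy
  -- hence `a ∈ Z(S)`
  have hacen : ∀ s ∈ S, s * a = a * s := by
    intro s hs
    have h1 := hSL s hs
    have h2 : s * a * s⁻¹ ∈ L := by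
      rw [← h1, mem_cj]
      have : s⁻¹ * (s * a * s⁻¹) * s = a := by group
      rw [this]; exact ha
    have h3 : s * b * s⁻¹ ∈ centralizer (L : Set G) := by
      rw [mem_centralizer_iff]
      intro y hy
      have h4 : s⁻¹ * y * s ∈ L := by
        have h5 : y ∈ L := hy
        rw [← h1, mem_cj] at h5
        exact h5
      have h5 := mem_centralizer_iff.1 hb _ h4
      calc y * (s * b * s⁻¹) = s * ((s⁻¹ * y * s) * b) * s⁻¹ := by group
        _ = s * (b * (s⁻¹ * y * s)) * s⁻¹ := by rw [h5]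
        _ = _ := by group
    have h4 : (s * a * s⁻¹) * (s * b * s⁻¹) = a * b := by
      calc (s * a * s⁻¹) * (s * b * s⁻¹) = s * (a * b) * s⁻¹ := by group
        _ = a * b := by rw [← hzab, h.Sz s hs]; group
    have h5 := huq L hL _ h2 _ h3 a ha b hb h4
    rwa [mul_inv_eq_iff_eq_mul] at h5
  have haz : a ∈ zpowers z := h.cS a (h.QS (hNQ haN)) hacen
  have hzL : z ∈ L := (zpowers_le.2 ha : zpowers a ≤ L) (mem_zpowers_of_three h.hy.ex.order haz ha1)
  have huniq : ∀ K : Subgroup G, IsComponent K → K = L := by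
    intro K hK
    by_contra hne
    apply h.not_le_of_component hK
    intro k hk
    exact (mem_centralizer_iff.1 (component_le_centralizer_of_ne hK hL hne hk) z hzL).symm
  have hEL : layer G = L := by
    refine le_antisymm ?_ hLE
    rw [layer_le_iff]
    intro K hK
    rw [huniq K hK]
  have hcenter : center L = ⊥ := by
    rw [eq_bot_iff]
    intro x hx
    rw [Subgroup.mem_bot]
    apply Subtype.ext
    exact hLM L hL x x.2 (fun y hy => congrArg Subtype.val (Subgroup.mem_center_iff.1 hx ⟨y, hy⟩))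
  have hsimple : IsSimpleGroup L := by
    have h1 : IsSimpleGroup (L ⧸ center L) := hL.2.2
    have e : L ⧸ center L ≃* L := (QuotientGroup.quotientMulEquivOfEq hcenter).trans QuotientGroup.quotientBot
    exact (MulEquiv.isSimpleGroup_congr e).1 h1
  refine ⟨hEn, ?_, ?_, hzE, hCE, hE⟩
  · rw [hEL]; exact hsimple
  · rw [hEL]; exact quasisimple_not_isMulCommutative hL.2

end Gl

end Cfsg.Agent.H351.OE
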