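import Mathlib
import Cfsg.Prelude.Def_Transfer

/-!
# S3372: the groups `SL(2,3)` and `SL(2,3) × C₂`
-/

set_option autoImplicit false

namespace Cfsg.Agent.H351.OE.SLThree

open Subgroup Matrix

/-- the relations of `SL(2,3)` -/
structure Data {H : Type*} [Group H] (i j s : H) : Prop where
  ij : j * j = i * i
  tt : (i * i) * (i * i) = 1
  t1 : i * i ≠ 1
  cen : ∀ h : H, (i * i) * h = h * (i * i)
  rel : i * j = (i * i) * (j * i)
  si : s * i = j * s
  sj : s * j = i * j * s
  s3 : s * s * s = 1
  gen : ∀ h : H, Nat.Coprime (orderOf h) 2 → h ∈ Subgroup.closure ({i, j, s} : Set H)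
  mem : ∀ h ∈ Subgroup.closure ({i, j, s} : Set H), h ∈ Subgroup.closure {h : H | Nat.Coprime (orderOf h) 2}
  dvd : Nat.card H ∣ 48
  three : 3 ∣ Nat.card H

theorem Data.map {H H' : Type*} [Group H] [Group H'] {i j s : H} (h : Data i j s) (e : H ≃* H') :
    Data (e i) (e j) (e s) where
  ij := by rw [← map_mul, ← map_mul, h.ij]
  tt := by rw [← map_mul, ← map_mul, h.tt, map_one]
  t1 := by
    rw [← map_mul]
    intro h1
    exact h.t1 ((MulEquiv.map_eq_one_iff e).1 h1)
  cen := by
    intro k
    obtain ⟨k, rfl⟩ := e.surjective k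
    rw [← map_mul, ← map_mul, ← map_mul, h.cen]
  rel := by rw [← map_mul, ← map_mul, ← map_mul, ← map_mul, h.rel]
  si := by rw [← map_mul, ← map_mul, h.si]
  sj := by rw [← map_mul, ← map_mul, ← map_mul, h.sj]
  s3 := by rw [← map_mul, ← map_mul, h.s3, map_one]
  gen := by
    intro k hk
    obtain ⟨k, rfl⟩ := e.surjective k
    rw [MulEquiv.orderOf_eq] at hk
    have h1 := h.gen k hk
    have h2 : e k ∈ (Subgroup.closure ({i, j, s} : Set H)).map e.toMonoidHom := ⟨k, h1, rfl⟩
    rw [MonoidHom.map_closure] at h2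
    have h3 : (e.toMonoidHom : H → H') '' ({i, j, s} : Set H) = {e i, e j, e s} := by
      rw [Set.image_insert_eq, Set.image_pair]; rfl
    rwa [h3] at h2
  mem := by
    intro k hk
    have h3 : (e.toMonoidHom : H → H') '' ({i, j, s} : Set H) = {e i, e j, e s} := by
      rw [Set.image_insert_eq, Set.image_pair]; rfl
    rw [← h3, ← MonoidHom.map_closure] at hk
    obtain ⟨k, hk, rfl⟩ := hk
    have h1 := h.mem k hk
    have h2 : e.toMonoidHom k ∈ (Subgroup.closure {h : H | Nat.Coprime (orderOf h) 2}).map e.toMonoidHom := ⟨k, h1, rfl⟩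
    rw [MonoidHom.map_closure] at h2
    refine (Subgroup.closure_mono ?_) h2
    rintro _ ⟨y, hy, rfl⟩
    change Nat.Coprime (orderOf (e y)) 2
    rw [MulEquiv.orderOf_eq]
    exact hy
  dvd := by rw [← Nat.card_congr e.toEquiv]; exact h.dvd
  three := by rw [← Nat.card_congr e.toEquiv]; exact h.three

/-- `SL(2,3)` -/
abbrev SL3 := Matrix.SpecialLinearGroup (Fin 2) (ZMod 3)

def iM : SL3 := ⟨!![0,1;2,0], by decide⟩
def jM : SL3 := ⟨!![1,1;1,2], by decide⟩
def sM : SL3 := ⟨!![0,1;2,2], by decide⟩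
def aM : SL3 := ⟨!![1,2;0,1], by decide⟩
def bM : SL3 := ⟨!![1,0;1,1], by decide⟩

theorem closure_top : Subgroup.closure ({iM, jM, sM} : Set SL3) = ⊤ := by
  rw [eq_top_iff]
  intro h _
  have h1 : ∀ h : SL3, ∃ a : Fin 4, ∃ b : Fin 2, ∃ c : Fin 3, h = iM ^ (a:ℕ) * jM ^ (b:ℕ) * sM ^ (c:ℕ) := by
    decide +kernel
  obtain ⟨a, b, c, rfl⟩ := h1 h
  refine mul_mem (mul_mem (pow_mem (subset_closure ?_) _) (pow_mem (subset_closure ?_) _))
    (pow_mem (subset_closure ?_) _) <;> simp

theorem coprime_of_three {H : Type*} [Group H] {a : H} (h : a ^ 3 = 1) : Nat.Coprime (orderOf a) 2 := by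
  have h1 := orderOf_dvd_of_pow_eq_one h
  rcases (Nat.dvd_prime Nat.prime_three).1 h1 with h2 | h2 <;> rw [h2] <;> norm_num

theorem sq_one : ∀ c : Multiplicative (ZMod 2), c ^ 2 = 1 := by decide

theorem data1 : Data iM jM sM where
  ij := by decide
  tt := by decide
  t1 := by decide
  cen := by decide +kernel
  rel := by decide
  si := by decide
  sj := by decide
  s3 := by decide
  gen := by
    intro h _
    rw [closure_top]; trivial
  mem := by
    intro h hh
    revert h
    change Subgroup.closure ({iM, jM, sM} : Set SL3) ≤ _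
    rw [closure_le]
    have hs : sM ∈ Subgroup.closure {h : SL3 | Nat.Coprime (orderOf h) 2} := subset_closure (coprime_of_three (by decide))
    have ha : aM ∈ Subgroup.closure {h : SL3 | Nat.Coprime (orderOf h) 2} := subset_closure (coprime_of_three (by decide))
    have hb : bM ∈ Subgroup.closure {h : SL3 | Nat.Coprime (orderOf h) 2} := subset_closure (coprime_of_three (by decide))
    have e1 : iM = sM * aM := by decide
    have e2 : jM = sM * bM := by decide
    rintro k (rfl | rfl | rfl)
    · exact e1 ▸ mul_mem hs ha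
    · exact e2 ▸ mul_mem hs hb
    · exact hs
  dvd := by
    have : Fintype.card SL3 = 24 := by decide +kernel
    rw [Nat.card_eq_fintype_card, this]; norm_num
  three := by
    have : Fintype.card SL3 = 24 := by decide +kernel
    rw [Nat.card_eq_fintype_card, this]; norm_num

theorem data2 : Data ((iM, 1) : SL3 × Multiplicative (ZMod 2)) (jM, 1) (sM, 1) where
  ij := by
    have := data1.ij
    exact Prod.ext this rfl
  tt := Prod.ext data1.tt rfl
  t1 := fun h => data1.t1 (congrArg Prod.fst h)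
  cen := fun h => Prod.ext (data1.cen h.1) (mul_comm _ _)
  rel := Prod.ext data1.rel rfl
  si := Prod.ext data1.si rfl
  sj := Prod.ext data1.sj rfl
  s3 := Prod.ext data1.s3 rfl
  gen := by
    rintro ⟨h, c⟩ hh
    have hc : c = 1 := by
      have h1 : orderOf c ∣ orderOf ((h, c) : SL3 × Multiplicative (ZMod 2)) := by
        rw [Prod.orderOf]; exact Nat.dvd_lcm_right _ _
      have h2 : orderOf c ∣ 2 := by
        exact orderOf_dvd_of_pow_eq_one (sq_one c)
      have h3 : Nat.Coprime (orderOf c) 2 := Nat.Coprime.coprime_dvd_left h1 hh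
      have h4 : orderOf c ∣ Nat.gcd (orderOf c) 2 := Nat.dvd_gcd dvd_rfl h2
      rw [h3, Nat.dvd_one] at h4
      exact orderOf_eq_one_iff.1 h4
    rw [hc]
    have h1 : (MonoidHom.inl SL3 (Multiplicative (ZMod 2))) h ∈
        (Subgroup.closure ({iM, jM, sM} : Set SL3)).map (MonoidHom.inl SL3 (Multiplicative (ZMod 2))) :=
      ⟨h, by rw [closure_top]; trivial, rfl⟩
    rw [MonoidHom.map_closure, Set.image_insert_eq, Set.image_pair] at h1
    exact h1
  mem := by
    intro k hk
    have h3 : ((MonoidHom.inl SL3 (Multiplicative (ZMod 2)) : SL3 → SL3 × Multiplicative (ZMod 2))) ''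
        ({iM, jM, sM} : Set SL3) = {(iM, 1), (jM, 1), (sM, 1)} := by
      rw [Set.image_insert_eq, Set.image_pair]; rfl
    rw [← h3, ← MonoidHom.map_closure] at hk
    obtain ⟨k, hk, rfl⟩ := hk
    have h1 := data1.mem k hk
    have h2 : (MonoidHom.inl SL3 (Multiplicative (ZMod 2))) k ∈
        (Subgroup.closure {h : SL3 | Nat.Coprime (orderOf h) 2}).map (MonoidHom.inl SL3 (Multiplicative (ZMod 2))) :=
      ⟨k, h1, rfl⟩
    rw [MonoidHom.map_closure] at h2
    refine (Subgroup.closure_mono ?_) h2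
    rintro _ ⟨y, hy, rfl⟩
    change Nat.Coprime (orderOf ((y, 1) : SL3 × Multiplicative (ZMod 2))) 2
    rw [Prod.orderOf, orderOf_one, Nat.lcm_one_right]
    exact hy
  dvd := by
    have : Fintype.card SL3 = 24 := by decide +kernel
    rw [Nat.card_prod, Nat.card_eq_fintype_card, this, Nat.card_eq_fintype_card]
    decide
  three := by
    have : Fintype.card SL3 = 24 := by decide +kernel
    rw [Nat.card_prod, Nat.card_eq_fintype_card, this, Nat.card_eq_fintype_card]
    decide

end Cfsg.Agent.H351.OE.SLThree
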