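import Cfsg.Agent.H351.OE.Facts

/-!
# S3372: facts on the simple group `layer G`
-/

set_option autoImplicit false
set_option linter.unusedSectionVars false
set_option linter.unusedVariables false

namespace Cfsg.Agent.H351.OE

open Subgroup Cfsg
open scoped commutatorElement

/-- the facts on the simple group -/
structure E3 (X : Type*) [Group X] : Prop where
  fin : Finite X
  d5 : 3 ^ 5 ∣ Nat.card X
  n7 : ¬ 3 ^ 7 ∣ Nat.card X
  ab : ∀ A : Subgroup X, IsPGroup 3 A → (∀ a ∈ A, ∀ b ∈ A, a * b = b * a) → Nat.card A ≤ 3 ^ 4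
  c27 : ∀ D : Subgroup X, 27 ∣ Nat.card D → ∃ d ∈ D, orderOf d = 3 ∧ Nat.card (centralizer ({d} : Set X)) ∣ N0
  c9 : ∀ y : X, orderOf y = 9 → Nat.card (centralizer ({y} : Set X)) ∣ N0
  aut : 3 ^ 6 ∣ Nat.card (MulAut X)
  inv : 3 ^ 6 ∣ Nat.card X → ∃ t : X, orderOf t = 2 ∧ 27 ∣ Nat.card (centralizer ({t} : Set X))
  cen : ∀ y : X, orderOf y = 3 → 3 ^ 6 ∣ Nat.card (centralizer ({y} : Set X)) →
    Nat.card (centralizer ({y} : Set X)) ∣ N0
  zen : ∀ D : Subgroup X, IsPGroup 3 D → 3 ^ 6 ∣ Nat.card (centralizer (D : Set X)) → Nat.card D ≤ 3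

variable {G : Type*} [Group G] [Finite G]

omit [Finite G] in
theorem card_centralizer_equiv {G H : Type*} [Group G] [Group H] (e : G ≃* H) (A : Set G) :
    Nat.card (Subgroup.centralizer (e '' A : Set H)) = Nat.card (Subgroup.centralizer (A : Set G)) := by
  refine (Nat.card_congr ?_).symm
  refine
    { toFun := fun c => ⟨e c.1, ?_⟩
      invFun := fun c => ⟨e.symm c.1, ?_⟩
      left_inv := fun c => by simp
      right_inv := fun c => by simp }
  · rw [Subgroup.mem_centralizer_iff]
    rintro _ ⟨a, ha, rfl⟩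
    rw [← map_mul, ← map_mul, Subgroup.mem_centralizer_iff.mp c.2 a ha]
  · rw [Subgroup.mem_centralizer_iff]
    intro a ha
    apply e.injective
    rw [map_mul, map_mul, e.apply_symm_apply]
    exact Subgroup.mem_centralizer_iff.mp c.2 _ ⟨a, ha, rfl⟩

omit [Finite G] in
theorem E3.congr {X Y : Type*} [Group X] [Group Y] (h : E3 X) (e : X ≃* Y) : E3 Y where
  fin := by have := h.fin; exact Finite.of_equiv X e.toEquiv
  d5 := by rw [← Nat.card_congr e.toEquiv]; exact h.d5
  n7 := by rw [← Nat.card_congr e.toEquiv]; exact h.n7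
  ab := by
    intro A hA hab
    have h1 := h.ab (A.map e.symm.toMonoidHom) (hA.map _) (by
      rintro _ ⟨a, ha, rfl⟩ _ ⟨b, hb, rfl⟩
      rw [← map_mul, ← map_mul, hab a ha b hb])
    rwa [Subgroup.card_map_of_injective e.symm.injective] at h1
  c27 := by
    intro D hD
    obtain ⟨d, ⟨d', hd', rfl⟩, ho, hc⟩ := h.c27 (D.map e.symm.toMonoidHom) (by
      rwa [Subgroup.card_map_of_injective e.symm.injective])
    refine ⟨d', hd', ?_, ?_⟩
    · rw [← ho]; exact (MulEquiv.orderOf_eq e.symm d').symm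
    · have h1 := card_centralizer_equiv e.symm ({d'} : Set Y)
      rw [Set.image_singleton] at h1
      rw [← h1]; exact hc
  c9 := by
    intro y hy
    have h1 := card_centralizer_equiv e.symm ({y} : Set Y)
    rw [Set.image_singleton] at h1
    rw [← h1]
    exact h.c9 _ (by rw [MulEquiv.orderOf_eq, hy])
  aut := by
    have h1 : Nat.card (MulAut X) = Nat.card (MulAut Y) := Nat.card_congr (MulAut.congr e).toEquiv
    rw [← h1]; exact h.aut
  inv := by
    intro hY
    obtain ⟨t, ht, h27⟩ := h.inv (by rwa [Nat.card_congr e.toEquiv])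
    refine ⟨e t, by rw [MulEquiv.orderOf_eq, ht], ?_⟩
    have h1 := card_centralizer_equiv e ({t} : Set X)
    rw [Set.image_singleton] at h1
    rw [h1]; exact h27
  cen := by
    intro y hy h6
    have h1 := card_centralizer_equiv e.symm ({y} : Set Y)
    rw [Set.image_singleton] at h1
    rw [← h1] at h6 ⊢
    exact h.cen _ (by rw [MulEquiv.orderOf_eq, hy]) h6
  zen := by
    intro D hD h6
    have h1 := card_centralizer_equiv e.symm (D : Set Y)
    rw [← h1] at h6
    have h2 := h.zen (D.map e.symm.toMonoidHom) (hD.map _) h6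
    rwa [Subgroup.card_map_of_injective e.symm.injective] at h2

omit [Finite G] in
theorem card_centralizer_dvd {L : Subgroup G} (A : Set L) :
    Nat.card (centralizer A) ∣ Nat.card (centralizer (L.subtype '' A : Set G)) := by
  have h1 : (centralizer A).map L.subtype ≤ centralizer (L.subtype '' A : Set G) := by
    rintro _ ⟨c, hc, rfl⟩
    rw [mem_centralizer_iff]
    rintro _ ⟨a, ha, rfl⟩
    rw [← map_mul, ← map_mul, mem_centralizer_iff.1 hc a ha]
  have h2 := Subgroup.card_dvd_of_le h1
  rwa [Subgroup.card_map_of_injective L.subtype_injective] at h2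

omit [Finite G] in
theorem card_centralizer_dvd' {L : Subgroup G} (y : L) :
    Nat.card (centralizer ({y} : Set L)) ∣ Nat.card (centralizer ({(y : G)} : Set G)) := by
  have h1 := card_centralizer_dvd ({y} : Set L)
  rwa [Set.image_singleton] at h1

namespace Full

variable {Q : Subgroup G} {z t g : G} {S : Sylow 3 G} (h : Full Q z t g S)

include h

theorem t_ne : t ≠ 1 := by
  rintro rfl
  have h1 : two Q (1 : G) = Q := by
    ext q
    rw [mem_two]
    simp
  have h2 := h.hy.card2
  rw [h1, h.hy.ex.card] at h2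
  norm_num at h2

theorem card_G : 3 ^ 6 ∣ Nat.card G ∧ ¬ 3 ^ 7 ∣ Nat.card G := by
  have hF : Fact (Nat.Prime 3) := ⟨Nat.prime_three⟩
  constructor
  · rw [← h.cardS]; exact Subgroup.card_subgroup_dvd_card _
  · intro h1
    have h2 : 3 ^ 7 ∣ Nat.card S := S.pow_dvd_card_of_pow_dvd_card h1
    rw [h.cardS] at h2
    exact absurd (Nat.le_of_dvd (by norm_num) h2) (by norm_num)

/-- `3`-subgroups centralised by a Sylow `3`-subgroup -/
theorem central {D : Subgroup G} (hD : IsPGroup 3 D) (h6 : 3 ^ 6 ∣ Nat.card (centralizer (D : Set G))) :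
    ∃ c : G, ∀ d ∈ D, c * d * c⁻¹ ∈ zpowers z := by
  have hF : Fact (Nat.Prime 3) := ⟨Nat.prime_three⟩
  obtain ⟨P, hP⟩ := Sylow.exists_subgroup_card_pow_prime (G := centralizer (D : Set G)) 3 h6
  have hPp : IsPGroup 3 (P.map (centralizer (D : Set G)).subtype) := (IsPGroup.of_card hP).map _
  have hPc : Nat.card (P.map (centralizer (D : Set G)).subtype) = 3 ^ 6 := by
    rw [Subgroup.card_map_of_injective (Subgroup.subtype_injective _), hP]
  obtain ⟨c, hc⟩ := h.conj_into' hPp
  have h1 : cj c (P.map (centralizer (D : Set G)).subtype) = S := by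
    apply Subgroup.eq_of_le_of_card_ge
    · intro y hy
      rw [mem_cj] at hy
      have := hc _ hy
      have e : c * (c⁻¹ * y * c) * c⁻¹ = y := by group
      rwa [e] at this
    · have h2 : Nat.card (S : Subgroup G) = 3 ^ 6 := h.cardS
      rw [card_cj, hPc, h2]
  have h2 : ∀ d ∈ D, ∀ s ∈ S, s * (c * d * c⁻¹) = (c * d * c⁻¹) * s := by
    intro d hd s hs
    have h3 : s ∈ cj c (P.map (centralizer (D : Set G)).subtype) := by rw [h1]; exact hs
    rw [mem_cj] at h3
    obtain ⟨p, -, hp⟩ := h3
    have h4 := mem_centralizer_iff.1 p.2 d hd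
    have h5 : c⁻¹ * s * c = p := hp.symm
    rw [← h5] at h4
    calc s * (c * d * c⁻¹) = c * ((c⁻¹ * s * c) * d) * c⁻¹ := by group
      _ = c * (d * (c⁻¹ * s * c)) * c⁻¹ := by rw [h4]
      _ = _ := by group
  refine ⟨c, fun d hd => ?_⟩
  refine h.cS _ ?_ (h2 d hd)
  -- `c d c⁻¹` lies in `S`
  have hp : IsPGroup 3 (cj c D) := hD.map _
  have h3 := hp.inf_normalizer_sylow S
  have h5 := h3.le (x := c * d * c⁻¹) ⟨mem_cj.2 (by
      have : c⁻¹ * (c * d * c⁻¹) * c = d := by group
      rw [this]; exact hd), by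
      apply centralizer_le_normalizer
      rw [mem_centralizer_iff]
      exact fun s hs => h2 d hd s hs⟩
  exact h5.2

/-- **facts on the layer** -/
theorem e3 : E3 (layer G) := by
  have hF : Fact (Nat.Prime 3) := ⟨Nat.prime_three⟩
  obtain ⟨hn, hs, hna, hz, hc, hgf⟩ := h.toGl.simple
  obtain ⟨L, hL⟩ : ∃ L, L = layer G := ⟨_, rfl⟩
  rw [← hL] at hn hs hna hz hc hgf ⊢
  have hcard : Nat.card L ∣ Nat.card G := Subgroup.card_subgroup_dvd_card L
  have hSL : 3 ^ 6 ∣ Nat.card L → (S : Subgroup G) ≤ L := by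
    intro h6
    obtain ⟨P, hP⟩ := Sylow.exists_subgroup_card_pow_prime (G := L) 3 h6
    have hPp : IsPGroup 3 (P.map L.subtype) := (IsPGroup.of_card hP).map _
    have hPc : Nat.card (P.map L.subtype) = 3 ^ 6 := by
      rw [Subgroup.card_map_of_injective (Subgroup.subtype_injective _), hP]
    obtain ⟨c, hc⟩ := h.conj_into' hPp
    have h1 : cj c (P.map L.subtype) = S := by
      apply Subgroup.eq_of_le_of_card_ge
      · intro y hy
        rw [mem_cj] at hy
        have := hc _ hy
        have e : c * (c⁻¹ * y * c) * c⁻¹ = y := by group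
        rwa [e] at this
      · have h2 : Nat.card (S : Subgroup G) = 3 ^ 6 := h.cardS
        rw [card_cj, hPc, h2]
    rw [← h1]
    intro y hy
    rw [mem_cj] at hy
    obtain ⟨p, -, hp⟩ := hy
    have h2 : c⁻¹ * y * c ∈ L := by rw [← hp]; exact p.2
    have h3 := hn.conj_mem _ h2 c
    have e : c * (c⁻¹ * y * c) * c⁻¹ = y := by group
    rwa [e] at h3
  refine
    { fin := inferInstance
      d5 := ?_
      n7 := fun h7 => h.card_G.2 (h7.trans hcard)
      ab := ?_
      c27 := ?_
      c9 := ?_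
      aut := ?_
      inv := ?_
      cen := ?_
      zen := ?_ }
  · -- `3 ^ 5` divides `|L|`
    obtain ⟨k, x, s, f, x1, x2, f1, f2, hstd, hsS, hx, -, hfQ', h27, hab, hx1t⟩ := h.exists_std
    obtain ⟨R, hR⟩ : ∃ R, R = L ⊓ Q := ⟨_, rfl⟩
    have hxL : x ∈ L := by rw [hx]; exact hn.conj_mem z hz k
    have h1 := h.hy.le_of_comp (R := R) (by
      intro c hc r hr
      rw [hR] at hr ⊢
      exact ⟨hn.conj_mem r hr.1 c, h.hy.nor c hc r hr.2⟩) (by rw [hR]; exact ⟨hz, h.hy.ex.zQ⟩)
      (by rw [hR]; exact ⟨hxL, hstd.xQ⟩) hstd.hx1 hstd.x1z hx1t hstd.ex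
    have hRQ : R ≤ Q := by rw [hR]; exact inf_le_right
    have hRL : R ≤ L := by rw [hR]; exact inf_le_left
    have hne : one Q t ≠ R := by
      intro h2
      apply hstd.x2z
      apply h.hy.tt.inter _ hstd.hx2
      rw [h2]; exact h1.2
    have h81 : 81 ≤ Nat.card R := by
      have hd : Nat.card R ∣ 3 ^ 5 := by
        rw [← h.hy.ex.card]; exact Subgroup.card_dvd_of_le hRQ
      obtain ⟨j, hj, hj2⟩ := (Nat.dvd_prime_pow Nat.prime_three).1 hd
      have h2 : 27 < Nat.card R := by
        by_contra h3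
        push Not at h3
        exact hne (Subgroup.eq_of_le_of_card_ge h1.1 (by rw [h.hy.card1]; exact h3))
      have hj3 : 4 ≤ j := by
        by_contra h5
        have h6 : j ≤ 3 := by omega
        have := Nat.pow_le_pow_right (show 0 < 3 by norm_num) h6
        omega
      rw [hj2]; exact (show 3 ^ 4 ≤ 3 ^ j from Nat.pow_le_pow_right (by norm_num) hj3)
    have hRP : R ≤ (S : Subgroup G) ⊓ L := le_inf (hRQ.trans h.QS) hRL
    have hPc : Nat.card ((S : Subgroup G) ⊓ L : Subgroup G) ∣ 3 ^ 6 := by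
      have h2 : Nat.card (S : Subgroup G) = 3 ^ 6 := h.cardS
      rw [← h2]; exact Subgroup.card_dvd_of_le inf_le_left
    obtain ⟨j, hj, hj2⟩ := (Nat.dvd_prime_pow Nat.prime_three).1 hPc
    by_cases hj5 : 5 ≤ j
    · have h2 : Nat.card ((S : Subgroup G) ⊓ L : Subgroup G) ∣ Nat.card L := Subgroup.card_dvd_of_le inf_le_right
      rw [hj2] at h2
      exact (pow_dvd_pow 3 hj5).trans h2
    · exfalso
      have h3 : Nat.card ((S : Subgroup G) ⊓ L : Subgroup G) ≤ 81 := by
        rw [hj2]; exact (show 3 ^ j ≤ 3 ^ 4 from Nat.pow_le_pow_right (by norm_num) (by omega))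
      have hRP' : R = (S : Subgroup G) ⊓ L := Subgroup.eq_of_le_of_card_ge hRP (h3.trans h81)
      -- elements of `L` commuting with `z`
      have key : ∀ y ∈ L, y ^ 3 = 1 → y * z = z * y → y ∈ Q := by
        intro y hy hy3 hyz
        have hp : IsPGroup 3 (zpowers y) := by
          refine IsPGroup.of_card_dvd_pow (n := 1) ?_
          rw [Nat.card_zpowers, pow_one]
          exact orderOf_dvd_of_pow_eq_one hy3
        obtain ⟨c, hc, hcs⟩ := h.conj_into hp (by
          rintro _ ⟨i, rfl⟩
          exact ((show Commute y z from hyz).zpow_left i).eq)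
        have h4 : c * y * c⁻¹ ∈ R := by
          rw [hRP']
          exact ⟨hcs y (mem_zpowers y), hn.conj_mem y hy c⟩
        have hc' : c⁻¹ * z = z * c⁻¹ := ((show Commute c z from hc).inv_left).eq
        have h5 := h.hy.nor c⁻¹ hc' _ (hRQ h4)
        have e : c⁻¹ * (c * y * c⁻¹) * c⁻¹⁻¹ = y := by group
        rwa [e] at h5
      have key' : ∀ y ∈ L, y ^ 3 = 1 → y * x = x * y → y ∈ cj k Q := by
        intro y hy hy3 hyx
        rw [mem_cj]
        apply key
        · have := hn.conj_mem y hy k⁻¹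
          rwa [inv_inv] at this
        · have := conj_pow (a := k⁻¹) (b := y) (i := 3)
          rw [inv_inv] at this
          rw [this, hy3]; group
        · rw [hx] at hyx
          exact conj_comm_iff.1 hyx
      have hx12 : x1 * x = x * x1 := by
        have h4 := h.hy.tt.one_two hstd.hx1 hstd.hx2
        rw [hstd.ex, mul_assoc, ← h4]
      have hx1L : x1 ∈ L := hRL (h1.1 hstd.hx1)
      have h4 : x1 ∈ Q ⊓ cj k Q := ⟨hstd.x1Q, key' x1 hx1L (h.hy.ex.exp x1 hstd.x1Q) hx12⟩
      have h5 : f ∈ Q ⊓ cj k Q := ⟨hstd.fQ, hfQ'⟩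
      have h6 : ⁅f, x1⁆ = 1 := commutatorElement_eq_one_iff_mul_comm.2 (hab f h5 x1 h4)
      have c2 : ⁅f2, x1⁆ = 1 :=
        commutatorElement_eq_one_iff_mul_comm.2 (h.hy.tt.one_two hstd.hx1 hstd.hf2).symm
      rw [hstd.ef, h.hy.ex.comm_mul hstd.f1Q hstd.f2Q hstd.x1Q, c2, mul_one] at h6
      exact hstd.om_ne h6
  · intro A hA hab
    have h1 := h.card_abelian (A := A.map L.subtype) (hA.map _) (by
      rintro _ ⟨a, ha, rfl⟩ _ ⟨b, hb, rfl⟩
      rw [← map_mul, ← map_mul, hab a ha b hb])
    rwa [Subgroup.card_map_of_injective L.subtype_injective] at h1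
  · intro D hD
    obtain ⟨_, ⟨d, hd, rfl⟩, hzc⟩ := h.exists_zc (D := D.map L.subtype) (by
      rwa [Subgroup.card_map_of_injective L.subtype_injective])
    obtain ⟨ho, hcz⟩ := h.card_zc hzc
    exact ⟨d, hd, by rw [← ho]; exact (Subgroup.orderOf_coe d).symm, (card_centralizer_dvd' d).trans hcz⟩
  · intro y hy
    refine (card_centralizer_dvd' y).trans (h.card_of_nine ?_)
    rw [Subgroup.orderOf_coe, hy]
  · -- automorphisms
    have h1 : Function.Injective (MulAut.conjNormal : G →* MulAut L) := by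
      rw [injective_iff_map_eq_one]
      intro a ha
      have h2 : a ∈ centralizer (L : Set G) := by
        rw [mem_centralizer_iff]
        intro y hy
        have h3 := congrArg (fun φ : MulAut L => ((φ ⟨y, hy⟩ : L) : G)) ha
        simp only [MulAut.conjNormal_apply, MulAut.one_apply] at h3
        rw [mul_inv_eq_iff_eq_mul] at h3
        exact h3.symm
      rw [hc] at h2
      exact mem_bot.1 h2
    have hfa : Finite (MulAut L) := by
      apply Finite.of_injective (fun φ : MulAut L => (φ : L → L))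
      intro a b hab
      exact MulEquiv.ext (congrFun hab)
    exact h.card_G.1.trans (Subgroup.card_dvd_of_injective _ h1)
  · intro h6
    have hSL' := hSL h6
    have htL : t ∈ L := h.tS L (fun c _ n hn' => hn.conj_mem n hn' c) hSL'
    refine ⟨⟨t, htL⟩, ?_, ?_⟩
    · rw [Subgroup.orderOf_mk]
      refine orderOf_eq_prime ?_ h.t_ne
      rw [pow_two]; exact h.hy.tt.tt
    · have h1 : two Q t ≤ L := (h.hy.tt.two_le.trans h.QS).trans hSL'
      have h2 : (two Q t).subgroupOf L ≤ centralizer ({⟨t, htL⟩} : Set L) := by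
        intro y hy
        rw [mem_subgroupOf] at hy
        rw [mem_centralizer_singleton_iff]
        exact Subtype.ext (mem_two.1 hy).2
      have h3 := Subgroup.card_dvd_of_le h2
      rwa [Nat.card_congr (subgroupOfEquivOfLe h1).toEquiv, h.hy.card2] at h3
  · intro y hy h6
    have hp : IsPGroup 3 (zpowers (y : G)) := by
      refine IsPGroup.of_card (n := 1) ?_
      rw [Nat.card_zpowers, Subgroup.orderOf_coe, hy, pow_one]
    obtain ⟨c, hc⟩ := h.central hp (by
      have h1 : centralizer ((zpowers (y : G) : Subgroup G) : Set G) = centralizer ({(y : G)} : Set G) := by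
        rw [zpowers_eq_closure, centralizer_closure]
      rw [h1]
      exact h6.trans (card_centralizer_dvd' y))
    have h1 := hc y (mem_zpowers _)
    have h2 : ZC z (y : G) := by
      refine (ZC.of_mem h1 ?_).of_conj
      intro h3
      have h4 : (y : G) = 1 := conj_eq_one_iff.1 h3
      have h5 : y = 1 := Subtype.ext h4
      rw [h5, orderOf_one] at hy
      norm_num at hy
    exact (card_centralizer_dvd' y).trans (h.card_zc h2).2
  · intro D hD h6
    have h1 := card_centralizer_dvd (D : Set L)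
    obtain ⟨c, hc⟩ := h.central (D := D.map L.subtype) (hD.map _) (h6.trans h1)
    have h2 : cj c (D.map L.subtype) ≤ zpowers z := by
      intro y hy
      rw [mem_cj] at hy
      have := hc _ hy
      have e : c * (c⁻¹ * y * c) * c⁻¹ = y := by group
      rwa [e] at this
    have h3 := Nat.le_of_dvd (by rw [h.hy.ex.card_z]; norm_num) (Subgroup.card_dvd_of_le h2)
    rw [card_cj, Subgroup.card_map_of_injective L.subtype_injective, h.hy.ex.card_z] at h3
    exact h3

end Full

end Cfsg.Agent.H351.OE
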