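import Cfsg.Agent.H351.OE.Ext
import Cfsg.Agent.H351.OE.Mod

/-!
# S3372: the module `Q/Z`

`exists_between` : if elements `i, j, s` of `C(z)` act on `Q/Z` with the relations of `SL(2,3)` and `i ^ 2` inverts
`Q/Z`, there is a subgroup strictly between `⟨z⟩` and `Q` normalised by `i, j, s`.
-/

set_option autoImplicit false
set_option linter.unusedSectionVars false

namespace Cfsg.Agent.H351.OE

open Subgroup
open scoped commutatorElement

variable {G : Type*} [Group G]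

namespace Ex

variable {Q : Subgroup G} {z : G} (h : Ex Q z)

/-- the centre as a subgroup of `Q` -/
def zq (_ : Ex Q z) : Subgroup Q := (zpowers z).subgroupOf Q

theorem zq_normal : (h.zq).Normal := by
  constructor
  intro n hn g
  rw [zq, mem_subgroupOf] at hn ⊢
  have h1 : (g : G) * n = n * g := h.comm_z g.2 hn
  have h2 : ((g * n * g⁻¹ : Q) : G) = n := by
    change (g : G) * n * (g : G)⁻¹ = n
    rw [h1, mul_inv_cancel_right]
  rw [h2]; exact hn

/-- the group `Q / Z` -/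
def V (h : Ex Q z) : Type _ := have := h.zq_normal; Additive (Q ⧸ h.zq)

noncomputable instance instV (h : Ex Q z) : AddCommGroup h.V :=
  have := h.zq_normal
  { (inferInstance : AddGroup (Additive (Q ⧸ h.zq))) with
    add_comm := by
      intro a b
      induction a using QuotientGroup.induction_on with | _ a => ?_
      induction b using QuotientGroup.induction_on with | _ b => ?_
      apply (QuotientGroup.eq (s := h.zq)).2
      have h1 : ((a * b)⁻¹ * (b * a) : Q) = ⁅b⁻¹, a⁻¹⁆ := by simp only [commutatorElement_def]; group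
      rw [h1, zq, mem_subgroupOf]
      exact h.comm _ (inv_mem b.2) _ (inv_mem a.2) }

/-- the projection -/
def pr (h : Ex Q z) (q : Q) : h.V := have := h.zq_normal; Additive.ofMul (QuotientGroup.mk q : Q ⧸ h.zq)

theorem pr_surj (v : h.V) : ∃ q, h.pr q = v := by
  induction v using QuotientGroup.induction_on with | _ a => ?_
  exact ⟨a, rfl⟩

theorem pr_mul (a b : Q) : h.pr (a * b) = h.pr a + h.pr b := rfl

theorem pr_inv (a : Q) : h.pr a⁻¹ = - h.pr a := rfl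

theorem pr_one : h.pr 1 = 0 := rfl

theorem pr_eq {a b : Q} : h.pr a = h.pr b ↔ (a : G)⁻¹ * b ∈ zpowers z := by
  have := h.zq_normal
  exact (QuotientGroup.eq (s := h.zq)).trans Iff.rfl

theorem pr_eq_zero {a : Q} : h.pr a = 0 ↔ (a : G) ∈ zpowers z := by
  rw [← h.pr_one, h.pr_eq]
  change (a : G)⁻¹ * 1 ∈ zpowers z ↔ _
  rw [mul_one, inv_mem_iff]

theorem card_V : Nat.card h.V = 81 := by
  have := h.zq_normal
  have hf := h.finite
  have h1 := Subgroup.card_mul_index h.zq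
  have h2 : Nat.card h.zq = 3 := by
    rw [zq, Nat.card_congr (subgroupOfEquivOfLe h.zle).toEquiv, h.card_z]
  rw [h2, h.card] at h1
  have h3 : Nat.card h.V = h.zq.index := rfl
  omega

theorem three_V (v : h.V) : v + v + v = 0 := by
  obtain ⟨q, rfl⟩ := h.pr_surj v
  rw [← h.pr_mul, ← h.pr_mul, h.pr_eq_zero]
  have h1 := h.exp q q.2
  have h2 : ((q * q * q : Q) : G) = 1 := by
    change (q : G) * q * q = 1
    rw [← h1, pow_succ, pow_two]
  rw [h2]; exact one_mem _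

/-- conjugation on `Q` -/
def cjq {c : G} (hc : ∀ q ∈ Q, c * q * c⁻¹ ∈ Q) : Q →* Q where
  toFun q := ⟨c * q * c⁻¹, hc q q.2⟩
  map_one' := by apply Subtype.ext; simp
  map_mul' a b := by apply Subtype.ext; simp [mul_assoc]

/-- the quotient map -/
def qmap (h : Ex Q z) {c : G} (hc : ∀ q ∈ Q, c * q * c⁻¹ ∈ Q) (hcz : c * z = z * c) :
    have := h.zq_normal; (Q ⧸ h.zq) →* (Q ⧸ h.zq) :=
  have := h.zq_normal
  QuotientGroup.map h.zq h.zq (cjq hc) (by
    intro q hq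
    rw [zq, mem_subgroupOf] at hq
    rw [mem_comap, zq, mem_subgroupOf]
    change c * (q : G) * c⁻¹ ∈ zpowers z
    obtain ⟨i, hi⟩ := hq
    simp only at hi
    rw [← hi, ((show Commute c z from hcz).zpow_right i).eq, mul_inv_cancel_right]
    exact ⟨i, rfl⟩)

/-- the operator of `c ∈ C(z)` on `V` -/
noncomputable def op (h : Ex Q z) {c : G} (hc : ∀ q ∈ Q, c * q * c⁻¹ ∈ Q) (hcz : c * z = z * c) :
    AddMonoid.End h.V :=
  have := h.zq_normal
  { toFun := fun v => h.qmap hc hcz v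
    map_zero' := map_one (h.qmap hc hcz)
    map_add' := fun v w => map_mul (h.qmap hc hcz) (show Q ⧸ h.zq from v) (show Q ⧸ h.zq from w) }

theorem op_mk {c : G} (hc : ∀ q ∈ Q, c * q * c⁻¹ ∈ Q) (hcz : c * z = z * c) (q : Q) :
    h.op hc hcz (h.pr q) = h.pr ⟨c * q * c⁻¹, hc q q.2⟩ := rfl

end Ex

/-- **A subgroup between `⟨z⟩` and `Q`.** -/
theorem exists_between {Q : Subgroup G} {z : G} (h : Ex Q z) {i j s : G} (hi : ∀ q ∈ Q, i * q * i⁻¹ ∈ Q)
    (hj : ∀ q ∈ Q, j * q * j⁻¹ ∈ Q) (hs : ∀ q ∈ Q, s * q * s⁻¹ ∈ Q) (hiz : i * z = z * i) (hjz : j * z = z * j)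
    (hsz : s * z = z * s)
    (hinv : ∀ q ∈ Q, (i * i) * q * (i * i)⁻¹ * q ∈ zpowers z)
    (hji : ∃ r ∈ Q, j * j = i * i * r) (hrel : ∃ r ∈ Q, i * j = (i * i) * (j * i) * r)
    (hsi : ∃ r ∈ Q, s * i = j * s * r) (hsj : ∃ r ∈ Q, s * j = i * j * s * r) (hs3 : s * s * s ∈ Q) :
    ∃ B : Subgroup G, zpowers z < B ∧ B < Q ∧ (∀ b ∈ B, i * b * i⁻¹ ∈ B) ∧ (∀ b ∈ B, j * b * j⁻¹ ∈ B) ∧
      (∀ b ∈ B, s * b * s⁻¹ ∈ B) := by
  have hfin : Finite h.V := Nat.finite_of_card_ne_zero (by rw [h.card_V]; norm_num)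
  -- absorption of elements of `Q`
  have habs : ∀ (w : G) (hwz : w * z = z * w) (r : G) (hr : r ∈ Q) (q : Q) (h1 : w * r * q * (w * r)⁻¹ ∈ Q)
      (h2 : w * q * w⁻¹ ∈ Q), h.pr ⟨w * r * q * (w * r)⁻¹, h1⟩ = h.pr ⟨w * q * w⁻¹, h2⟩ := by
    intro w hwz r hr q h1 h2
    rw [h.pr_eq]
    have h3 : ⁅r, (q : G)⁻¹⁆ ∈ zpowers z := h.comm r hr _ (inv_mem q.2)
    have h4 : (w * r * (q : G) * (w * r)⁻¹)⁻¹ * (w * q * w⁻¹) = w * (⁅r, (q : G)⁻¹⁆) * w⁻¹ := by
      simp only [commutatorElement_def]; group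
    rw [h4]
    obtain ⟨k, hk⟩ := h3
    simp only at hk
    rw [← hk, ((show Commute w z from hwz).zpow_right k).eq, mul_inv_cancel_right]
    exact ⟨k, rfl⟩
  have hcc : ∀ {u v : G}, u * z = z * u → v * z = z * v → (u * v) * z = z * (u * v) := fun hu hv =>
    ((show Commute _ z from hu).mul_left hv).eq
  have hnn : ∀ {u v : G}, (∀ q ∈ Q, u * q * u⁻¹ ∈ Q) → (∀ q ∈ Q, v * q * v⁻¹ ∈ Q) →
      ∀ q ∈ Q, (u * v) * q * (u * v)⁻¹ ∈ Q := by
    intro u v hu hv q hq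
    have : (u * v) * q * (u * v)⁻¹ = u * (v * q * v⁻¹) * u⁻¹ := by group
    rw [this]; exact hu _ (hv q hq)
  have hii := hnn hi hi
  have hjj := hnn hj hj
  have hIJ := hnn hi hj
  have hJI := hnn hj hi
  have hsi' := hnn hs hi
  have hjs := hnn hj hs
  have hsj' := hnn hs hj
  have hijs := hnn hIJ hs
  -- composition of operators
  have hop : ∀ {u v : G} (hu : ∀ q ∈ Q, u * q * u⁻¹ ∈ Q) (hv : ∀ q ∈ Q, v * q * v⁻¹ ∈ Q) (huz : u * z = z * u)
      (hvz : v * z = z * v), h.op hu huz * h.op hv hvz = h.op (hnn hu hv) (hcc huz hvz) := by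
    intro u v hu hv huz hvz
    ext w
    obtain ⟨q, rfl⟩ := h.pr_surj w
    change h.op hu huz (h.op hv hvz (h.pr q)) = h.op (hnn hu hv) (hcc huz hvz) (h.pr q)
    rw [h.op_mk, h.op_mk, h.op_mk]
    congr 1
    apply Subtype.ext
    change u * (v * q * v⁻¹) * u⁻¹ = (u * v) * q * (u * v)⁻¹
    group
  have hopr : ∀ {u v r : G} (hu : ∀ q ∈ Q, u * q * u⁻¹ ∈ Q) (hv : ∀ q ∈ Q, v * q * v⁻¹ ∈ Q) (huz : u * z = z * u)
      (hvz : v * z = z * v), r ∈ Q → u = v * r → h.op hu huz = h.op hv hvz := by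
    intro u v r hu hv huz hvz hr huv
    subst huv
    ext w
    obtain ⟨q, rfl⟩ := h.pr_surj w
    rw [h.op_mk, h.op_mk]
    exact habs v hvz r hr q _ _
  have hII : h.op hi hiz * h.op hi hiz = -1 := by
    rw [hop]
    ext w
    obtain ⟨q, rfl⟩ := h.pr_surj w
    change h.op hii _ (h.pr q) = - h.pr q
    rw [h.op_mk, ← h.pr_inv, h.pr_eq]
    have h1 := hinv (q : G)⁻¹ (inv_mem q.2)
    change ((i * i) * (q : G) * (i * i)⁻¹)⁻¹ * (q : G)⁻¹ ∈ zpowers z
    rw [conj_inv]; exact h1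
  obtain ⟨r1, hr1, e1⟩ := hji
  obtain ⟨r2, hr2, e2⟩ := hrel
  obtain ⟨r3, hr3, e3⟩ := hsi
  obtain ⟨r4, hr4, e4⟩ := hsj
  have hJJ : h.op hj hjz * h.op hj hjz = -1 := by
    rw [← hII, hop, hop]
    exact hopr hjj hii _ _ hr1 e1
  have hIJ' : h.op hi hiz * h.op hj hjz = -(h.op hj hjz * h.op hi hiz) := by
    have h1 : -(h.op hj hjz * h.op hi hiz) = (h.op hi hiz * h.op hi hiz) * (h.op hj hjz * h.op hi hiz) := by
      rw [hII, neg_one_mul]
    rw [h1, hop, hop, hop, hop]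
    exact hopr _ _ _ _ hr2 e2
  have hSI : h.op hs hsz * h.op hi hiz = h.op hj hjz * h.op hs hsz := by
    rw [hop, hop]
    exact hopr _ _ _ _ hr3 e3
  have hSJ : h.op hs hsz * h.op hj hjz = h.op hi hiz * h.op hj hjz * h.op hs hsz := by
    rw [hop, hop, hop]
    exact hopr _ _ _ _ hr4 e4
  have hSS : h.op hs hsz * h.op hs hsz * h.op hs hsz = 1 := by
    rw [hop, hop]
    ext w
    obtain ⟨q, rfl⟩ := h.pr_surj w
    rw [h.op_mk]
    have h1 := habs 1 (by simp) (s * s * s) hs3 q (by rw [one_mul]; exact mul_mem (mul_mem hs3 q.2) (inv_mem hs3))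
      (by simp)
    simp only [one_mul, inv_one, mul_one] at h1
    exact h1
  obtain ⟨B, hB1, hB2, hBI, hBJ, hBS⟩ := Mod.exists_invariant h.three_V h.card_V _ _ _ hII hJJ hIJ' hSI hSJ hSS
  -- the corresponding subgroup
  let B' : Subgroup G :=
    { carrier := {x | ∃ hx : x ∈ Q, h.pr ⟨x, hx⟩ ∈ B}
      mul_mem' := by
        rintro a b ⟨ha, ha'⟩ ⟨hb, hb'⟩
        exact ⟨mul_mem ha hb, B.add_mem ha' hb'⟩
      one_mem' := ⟨one_mem Q, B.zero_mem⟩
      inv_mem' := by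
        rintro a ⟨ha, ha'⟩
        exact ⟨inv_mem ha, B.neg_mem ha'⟩ }
  have hB' : ∀ x, x ∈ B' ↔ ∃ hx : x ∈ Q, h.pr ⟨x, hx⟩ ∈ B := fun x => Iff.rfl
  refine ⟨B', ?_, ?_, ?_, ?_, ?_⟩
  · refine lt_of_le_of_ne ?_ ?_
    · intro c hc
      refine ⟨h.zle hc, ?_⟩
      rw [(h.pr_eq_zero (a := ⟨c, h.zle hc⟩)).2 hc]
      exact B.zero_mem
    · intro h1
      apply hB1
      rw [eq_bot_iff]
      intro v hv
      obtain ⟨q, rfl⟩ := h.pr_surj v
      rw [AddSubgroup.mem_bot, h.pr_eq_zero, h1]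
      exact ⟨q.2, hv⟩
  · refine lt_of_le_of_ne ?_ ?_
    · rintro x ⟨hx, -⟩; exact hx
    · intro h1
      apply hB2
      rw [eq_top_iff]
      intro v _
      obtain ⟨q, rfl⟩ := h.pr_surj v
      have h2 : (q : G) ∈ B' := by rw [h1]; exact q.2
      exact h2.2
  · rintro b ⟨hb, hb'⟩
    exact ⟨hi b hb, hBI _ hb'⟩
  · rintro b ⟨hb, hb'⟩
    exact ⟨hj b hb, hBJ _ hb'⟩
  · rintro b ⟨hb, hb'⟩
    exact ⟨hs b hb, hBS _ hb'⟩

end Cfsg.Agent.H351.OE
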