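import Cfsg.Agent.H351.OE.Red
import Cfsg.Agent.H351.OE.VMod
import Cfsg.Agent.H351.OE.SLThree
import Cfsg.Agent.S0144

/-!
# S3372: from the hypotheses of the statement to `Gl`
-/

set_option autoImplicit false
set_option linter.unusedSectionVars false

namespace Cfsg.Agent.H351.OE

open Subgroup Cfsg
open scoped commutatorElement

variable {G : Type*} [Group G] [Finite G]

/-- the hypotheses of the statement, with the quotient `C / Q` described by `SLThree.Data` -/
structure St (S : Sylow 3 G) (Z C Q K : Subgroup G) (r : ℕ) (A : Fin (r + 1) → Subgroup G)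
    (i j s : C ⧸ Cfsg.pCore 3 C) : Prop where
  hZ : Z = (S : Subgroup G) ⊓ Subgroup.centralizer ((S : Subgroup G) : Set G)
  hCZ : C = Subgroup.centralizer (Z : Set G)
  hQ : Q = (Cfsg.pCore 3 C).map C.subtype
  hQex : Cfsg.IsExtraspecial 3 Q
  hQcard : Nat.card Q = 3 ^ 5
  hQexp : ∀ a ∈ Q, a ^ 3 = 1
  hCQ : Subgroup.centralizer (Q : Set G) ≤ Q
  hZQ : ∃ x : G, Z.map (MulAut.conj x).toMonoidHom ≤ Q ∧ Z.map (MulAut.conj x).toMonoidHom ≠ Z
  hK : K = ((Cfsg.pResidual 2 (C ⧸ Cfsg.pCore 3 C)).comap (QuotientGroup.mk' (Cfsg.pCore 3 C))).map C.subtype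
  hA0 : A 0 = Z
  hAr : A (Fin.last r) = Q
  hmono : ∀ i : Fin r, A i.castSucc < A i.succ
  hmax : ∀ i : Fin r, ∀ B : Subgroup G, A i.castSucc < B → B < A i.succ → ∃ k ∈ K, ∃ b ∈ B, k * b * k⁻¹ ∉ B
  hone : ∃! i : Fin r, (∃ k ∈ K, ∃ a ∈ A i.succ, k * a * k⁻¹ * a⁻¹ ∉ A i.castSucc)
  data : SLThree.Data i j s

namespace St

variable {S : Sylow 3 G} {Z C Q K : Subgroup G} {r : ℕ} {A : Fin (r + 1) → Subgroup G}
  {i j s : C ⧸ Cfsg.pCore 3 C} (h : St S Z C Q K r A i j s)

include h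

theorem SC : (S : Subgroup G) ≤ C := by
  intro x hx
  rw [h.hCZ, mem_centralizer_iff]
  intro y hy
  have hy' : y ∈ Z := hy
  rw [h.hZ] at hy'
  exact (mem_centralizer_iff.1 hy'.2 x hx).symm

theorem QC : Q ≤ C := by
  rw [h.hQ]; rintro _ ⟨x, -, rfl⟩; exact x.2

theorem mem_Q {c : C} : (c : G) ∈ Q ↔ c ∈ Cfsg.pCore 3 C := by
  rw [h.hQ]
  constructor
  · rintro ⟨x, hx, hx2⟩
    have : x = c := Subtype.ext hx2
    rw [← this]; exact hx
  · intro hc; exact ⟨c, hc, rfl⟩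

theorem QS : Q ≤ S := by
  have : Fact (Nat.Prime 3) := ⟨Nat.prime_three⟩
  have h1 := Cfsg.Agent.Lib.Cores.pCore_le_sylow (S.subtype h.SC)
  intro x hx
  have hxC : x ∈ C := h.QC hx
  have h2 := h1 ((h.mem_Q (c := ⟨x, hxC⟩)).1 hx)
  exact h2

theorem ZQ : Z ≤ Q := by
  refine le_trans ?_ h.hCQ
  intro y hy
  rw [h.hZ] at hy
  rw [mem_centralizer_iff]
  intro q hq
  exact mem_centralizer_iff.1 hy.2 q (h.QS hq)

theorem pQ : IsPGroup 3 Q := IsPGroup.of_card (n := 5) (by have := h.hQcard; exact this)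

theorem exists_z : ∃ z : G, Z = zpowers z ∧ Ex Q z := by
  have hF : Fact (Nat.Prime 3) := ⟨Nat.prime_three⟩
  have hcent : ∀ y ∈ Z, ∀ q ∈ Q, q * y = y * q := by
    intro y hy q hq
    rw [h.hZ] at hy
    exact mem_centralizer_iff.1 hy.2 q (h.QS hq)
  have hZc : ∀ y (hy : y ∈ Z), (⟨y, h.ZQ hy⟩ : Q) ∈ center Q := by
    intro y hy
    rw [mem_center_iff]
    intro q
    exact Subtype.ext (hcent y hy q q.2)
  have hSne : (S : Subgroup G) ≠ ⊥ := by
    intro h1
    have h2 : Q = ⊥ := le_bot_iff.1 (h1 ▸ h.QS)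
    have h3 := h.hQcard
    rw [h2, Subgroup.card_bot] at h3
    norm_num at h3
  obtain ⟨w, hw, hw1, hc⟩ := Cfsg.Agent.Characters.CNBasic.exists_mem_center_of_normal (S : Subgroup G) S.isPGroup'
    (S : Subgroup G) S.isPGroup' hSne
    (fun s hs d hd => (S : Subgroup G).mul_mem ((S : Subgroup G).mul_mem hs hd) ((S : Subgroup G).inv_mem hs))
  have hwZ : w ∈ Z := by
    rw [h.hZ]
    exact ⟨hw, mem_centralizer_iff.2 hc⟩
  have hw3 : w ^ 3 = 1 := h.hQexp w (h.ZQ hwZ)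
  have hwo : orderOf w = 3 := orderOf_eq_prime hw3 hw1
  have hcard : Nat.card (center Q) = 3 := h.hQex.2
  -- `center Q` is generated by `w`
  have hgen : ∀ q : Q, q ∈ center Q → (q : G) ∈ zpowers w := by
    intro q hq
    have h1 : zpowers (⟨w, h.ZQ hwZ⟩ : Q) = center Q := by
      apply Subgroup.eq_of_le_of_card_ge
      · rw [zpowers_le]; exact hZc w hwZ
      · rw [hcard, Nat.card_zpowers, Subgroup.orderOf_mk, hwo]
    rw [← h1] at hq
    obtain ⟨n, hn⟩ := hq
    exact ⟨n, congrArg Subtype.val hn⟩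
  refine ⟨w, ?_, ?_⟩
  · apply le_antisymm
    · intro y hy
      exact hgen ⟨y, h.ZQ hy⟩ (hZc y hy)
    · rw [zpowers_le]; exact hwZ
  · exact
      { z1 := hw1
        zz := hw3
        zQ := h.ZQ hwZ
        card := h.hQcard
        exp := h.hQexp
        zc := fun a ha => hcent w hwZ a ha
        comm := by
          intro a ha b hb
          have h1 : ⁅(⟨a, ha⟩ : Q), (⟨b, hb⟩ : Q)⁆ ∈ commutator Q :=
            Subgroup.commutator_mem_commutator (mem_top _) (mem_top _)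
          rw [h.hQex.1.2.2] at h1
          exact hgen _ h1
        cen := by
          intro a ha hab
          apply hgen ⟨a, ha⟩
          rw [mem_center_iff]
          intro q
          exact Subtype.ext (hab q q.2).symm }

end St

end Cfsg.Agent.H351.OE
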